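import Cfsg.Agent.Lib.H80.GT
import Cfsg.Agent.Lib.H80.FS4
import Cfsg.Agent.Lib.H80.GJ

set_option autoImplicit false
set_option linter.unusedSectionVars false
set_option linter.unusedVariables false

/-!
# Abelian defect groups
-/

namespace H80.GV

open MonoidAlgebra H80.GA H80.GB H80.GC H80.GD H80.GE H80.GG H80.GH H80.GJ H80.FS H80.FS3 H80.FS4
open scoped Pointwise

variable {k G : Type*} [Field k] [Group G] [Finite G] {p : ℕ} [Fact p.Prime] [CharP k p]
  [Algebra (ZMod p) k] [Algebra.IsAlgebraic (ZMod p) k]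

theorem nilp_abelian [IsAlgClosed k] {H P : Subgroup G} {b e : MonoidAlgebra k G}
    (h : IsMax p H b P e) (hab : ∀ x ∈ P, ∀ y ∈ P, x * y = y * x) :
    Nilp p H b ↔ ∀ x ∈ ST H P e, x ∈ Subgroup.centralizer (P : Set G) := by
  have hP := h.of.pair
  constructor
  · intro hnil x hx
    obtain ⟨y, hy, hyx⟩ := nilp_inner h hnil hx.1
      ((fus_iff_st hP Relation.ReflTransGen.refl hx.1 hx.2.1).2 hx)
    rw [Subgroup.mem_centralizer_iff]
    intro u hu
    have h2 := hyx u hu
    rw [hab y hy u hu, mul_inv_cancel_right] at h2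
    exact (mul_inv_eq_iff_eq_mul.1 h2).symm
  · intro hc
    refine ⟨h.of.blk, ?_⟩
    intro Q f hf x hx hpx
    obtain ⟨g, hg, hle⟩ := sle_max h hf
    have hx' : g * x * g⁻¹ ∈ ST H (cs g Q) (cj g f) := by
      have : g * x * g⁻¹ ∈ cs g (ST H Q f) := by
        rw [conj_mem_cs]; exact hx
      rwa [cs_ST, cs_of_mem hg] at this
    obtain ⟨y, hy, c, hcc, hxy⟩ := abelian_factor h hab hle hx'
    have hyc : y ∈ Subgroup.centralizer (P : Set G) := hc y hy
    have hyQ : y ∈ Subgroup.centralizer (cs g Q : Set G) :=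
      Subgroup.centralizer_le (hle.le' hP) hyc
    have h3 : g * x * g⁻¹ ∈ Subgroup.centralizer (cs g Q : Set G) := by
      rw [hxy]; exact mul_mem hyQ hcc.1
    rw [← cs_centralizer, conj_mem_cs] at h3
    exact h3

theorem cent_max {H P Q : Subgroup G} {b e f : MonoidAlgebra k G} (h : IsMax p H b P e)
    (hab : ∀ x ∈ P, ∀ y ∈ P, x * y = y * x) (hf : SLE p H Q f P e) :
    IsMax p (CH H Q) f P e := by
  have hP := h.of.pair
  have hQP := hf.le' hP
  have hPC : P ≤ Subgroup.centralizer (Q : Set G) := by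
    intro x hx
    rw [Subgroup.mem_centralizer_iff]
    intro y hy
    exact hab y (hQP hy) x hx
  have hPK : P ≤ CH H Q := le_inf hPC hP.le
  have hN : P ≤ Subgroup.normalizer (Q : Set G) := hPC.trans (centralizer_le_normalizer' Q)
  refine ⟨⟨(pair_rel le_rfl inf_le_right hQP).2 ⟨hP, hPK⟩, (hf.pair_left hP).blk, ?_⟩, ?_⟩
  · exact (hf.nle hP hN).br
  · intro R g hR
    exact h.max R g ((nle_rel le_rfl inf_le_right hQP).1 hR).1

end H80.GV
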