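import Cfsg.Agent.Lib.H80.SU3
import Cfsg.Agent.Lib.H80.BR9
import Cfsg.Agent.Lib.H80.GQ
import Cfsg.Agent.Lib.H77.Conv
import Cfsg.Agent.Lib.H18.CharInd

set_option autoImplicit false
set_option linter.unusedSectionVars false
set_option linter.unusedVariables false
set_option linter.style.haveILetI false

/-!
# Setup for abelian defect groups; normal subgroups of `p`-power index
-/

namespace H80.SU4

open Cfsg MonoidAlgebra H20.Loc H20.GA H20.Blk H20.Orth H20.NormQ H20.Ind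
open H80.GA H80.GB H80.GC H80.GD H80.GE H80.GH H80.GJ H80.GV H80.BR1 H80.BR2 H80.BR3 H80.BR4
open H80.SU1 H80.SU2 H80.SU3
open scoped Pointwise ComplexConjugate

universe u
variable {G : Type u} [Group G] [Finite G] {M : Ideal AlgInt} {p : ℕ} {P : Subgroup G}

section setup
variable [M.IsMaximal] [Fact p.Prime] [CharP (ResF M) p] [Algebra (ZMod p) (ResF M)]
    [Algebra.IsAlgebraic (ZMod p) (ResF M)] [IsAlgClosed (ResF M)]

theorem exists_max (hM : IsPModular p M) {B : Set (IrrCharacter G)} (hB : IsPBlock M B)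
    (hPD : IsDefectGroup p M B P) :
    ∃ c : Set (IrrCharacter (Subgroup.centralizer (P : Set G))),
      IsInducedBlock M (Subgroup.centralizer (P : Set G)) c B ∧
      IsMax p ⊤ (ebar M B) P (bl M _ c) := by
  have hdef := (isDefectGroup_iff_isDef hM hB).1 hPD
  have hmem : ebar M B ∈ Z (ResF M) (⊤ : Subgroup G) := (isBlk_ebar hB).mem
  have h1 : br (ResF M) P (ebar M B) ∈ Z (ResF M) (CH ⊤ P) := br_mem_Z hmem
  have h2 := br_idem hdef.pgr (Fx_mono le_top hmem.1) (isBlk_ebar hB).idem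
  obtain ⟨e, he, hbe⟩ := exists_blk h1 h2 hdef.ne
  have he' := he
  rw [CH_top] at he'
  obtain ⟨c, hc, hce⟩ := exists_bl he'
  have hpo : PairOf p ⊤ (ebar M B) P (bl M _ c) := by
    rw [hce]
    exact ⟨⟨hdef.pgr, le_top, he⟩, isBlk_ebar hB, hbe⟩
  refine ⟨c, (BR9.induced_cent_iff hM hdef.pgr hc hB).2 (by rw [hce]; exact hbe), ?_⟩
  exact (isMax_iff_isDef hpo).2 hdef

theorem exists_sub {e : MonoidAlgebra (ResF M) G} (he : IsPair p ⊤ P e) {u : G} (hu : u ∈ P) :
    ∃ b : Set (IrrCharacter (Subgroup.centralizer ({u} : Set G))), IsPBlock M b ∧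
      SLE p ⊤ (Subgroup.zpowers u) (bl M _ b) P e := by
  obtain ⟨f, hf, _⟩ := exists_unique_sle he (zp_le hu)
  have h1 := (hf.pair_left he).blk
  rw [CH_zp] at h1
  obtain ⟨b, hb, hbf⟩ := exists_bl h1
  exact ⟨b, hb, by rw [hbf]; exact hf⟩

/-- no nontrivial twist fixes a character of a block with abelian defect group -/
theorem twist_ne (hM : IsPModular p M) {B : Set (IrrCharacter G)} (hB : IsPBlock M B)
    (hPD : IsDefectGroup p M B P) (hab : ∀ x ∈ P, ∀ y ∈ P, x * y = y * x) {χ : IrrCharacter G}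
    (hχ : χ ∈ B) {u : G} (hu : u ∈ P) {a : ℂ} (ha : a ≠ 1)
    (h : ∀ y : G, ¬ p ∣ orderOf y → (χ : G → ℂ) (u * y) = a * (χ : G → ℂ) (u * y)) : False := by
  letI := Fintype.ofFinite (Subgroup.centralizer ({u} : Set G))
  obtain ⟨c, hc, hmax⟩ := exists_max hM hB hPD
  obtain ⟨b, hb, hle⟩ := exists_sub hmax.of.pair hu
  apply major_ne hM hB hab hc hmax hu hb hle hχ
  refine Finset.sum_eq_zero fun y _ => ?_
  by_cases hy : p ∣ orderOf (y : G)
  · have h1 : blockCoeff b y = 0 := by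
      have := BR6.sbc_singular hM hb hy
      rwa [sbc_coe] at this
    rw [h1, zero_mul]
  · have h2 := h y hy
    have h3 : (1 - a) * (χ : G → ℂ) (u * y) = 0 := by rw [sub_mul, one_mul, ← h2, sub_self]
    have h4 : (χ : G → ℂ) (u * y) = 0 :=
      (mul_eq_zero.1 h3).resolve_left (sub_ne_zero.2 (Ne.symm ha))
    rw [h4, mul_zero]

end setup

/-- norm of a restriction to a normal subgroup with abelian quotient -/
theorem res_norm [Fintype G] (N : Subgroup G) [N.Normal] [Fintype N]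
    (hcomm : ∀ a b : G ⧸ N, a * b = b * a) (χ : IrrCharacter G)
    (hne : ∀ l : (G ⧸ N) →* ℂˣ, (∃ x : G ⧸ N, (l x : ℂ) ≠ 1) →
      ∃ g : G, (l (g : G ⧸ N) : ℂ) * (χ : G → ℂ) g ≠ (χ : G → ℂ) g) :
    classInner (fun n : N => (χ : G → ℂ) n) (fun n : N => (χ : G → ℂ) n) = 1 := by
  classical
  letI := Fintype.ofFinite (G ⧸ N)
  letI := Fintype.ofFinite (IrrCharacter (G ⧸ N))
  have hhom : ∀ l : IrrCharacter (G ⧸ N), ∃ f : (G ⧸ N) →* ℂˣ, ∀ a, (l : G ⧸ N → ℂ) a = (f a : ℂ) := by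
    intro l
    obtain ⟨f, hf⟩ := H18.CharBasic.exists_hom_of_isIrr_of_comm hcomm l.2
    exact ⟨f, fun a => congrFun hf a⟩
  -- twists
  have htw : ∀ l : IrrCharacter (G ⧸ N), IsIrrCharacter G
      ((fun g : G => (l : G ⧸ N → ℂ) (g : G ⧸ N)) * (χ : G → ℂ)) := by
    intro l
    have hl : IsIrrCharacter G (fun g : G => (l : G ⧸ N → ℂ) (g : G ⧸ N)) := (infl N l).2
    have hnorm : ∀ g : G ⧸ N, (l : G ⧸ N → ℂ) g * conj ((l : G ⧸ N → ℂ) g) = 1 := by
      intro g
      obtain ⟨f, hf⟩ := hhom l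
      rw [hf, Complex.mul_conj, Complex.normSq_eq_norm_sq, H18.CharBasic.hom_norm_one]
      norm_num
    refine H18.CharOrtho.isIrr_of_norm_one (H18.CharBasic.isCharacter_mul
      (H18.CharBasic.isCharacter_of_isIrr hl) (H18.CharBasic.isCharacter_of_isIrr χ.2)) ?_
    have h1 := H18.CharOrtho.inner_irr_self χ.2
    rw [classInner] at h1 ⊢
    rw [← h1]
    congr 1
    refine Finset.sum_congr rfl fun g _ => ?_
    simp only [Pi.mul_apply, map_mul]
    have := hnorm (g : G ⧸ N)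
    linear_combination ((χ : G → ℂ) g * conj ((χ : G → ℂ) g)) * this
  have hone : IsIrrCharacter (G ⧸ N) (fun _ => (1 : ℂ)) := BR4.isIrr_one (G ⧸ N)
  have h1 : ∑ l : IrrCharacter (G ⧸ N), classInner ((fun g : G => (l : G ⧸ N → ℂ) (g : G ⧸ N)) *
      (χ : G → ℂ)) (χ : G → ℂ) = 1 := by
    rw [Finset.sum_eq_single (⟨fun _ => 1, hone⟩ : IrrCharacter (G ⧸ N))]
    · have : ((fun g : G => ((⟨fun _ => 1, hone⟩ : IrrCharacter (G ⧸ N)) : G ⧸ N → ℂ) (g : G ⧸ N)) *
          (χ : G → ℂ)) = (χ : G → ℂ) := by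
        funext g; simp
      rw [this]
      exact H18.CharOrtho.inner_irr_self χ.2
    · intro l _ hl
      apply H18.CharOrtho.inner_irr_ne (htw l) χ.2
      obtain ⟨f, hf⟩ := hhom l
      have h2 : ∃ x : G ⧸ N, (f x : ℂ) ≠ 1 := by
        by_contra! hno
        apply hl
        apply Subtype.ext
        funext x
        rw [hf, hno]
      obtain ⟨g, hg⟩ := hne f h2
      intro heq
      apply hg
      have := congrFun heq g
      rwa [Pi.mul_apply, hf] at this
    · intro h; exact absurd (Finset.mem_univ _) h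
  have hcol : ∀ g : G, ∑ l : IrrCharacter (G ⧸ N), (l : G ⧸ N → ℂ) (g : G ⧸ N) =
      if g ∈ N then (Nat.card (G ⧸ N) : ℂ) else 0 := by
    intro g
    have h2 := H77.Conv.column_transporter (G := G ⧸ N) (g : G ⧸ N) 1
    have h3 : ∀ l : IrrCharacter (G ⧸ N), (l : G ⧸ N → ℂ) (g : G ⧸ N) * conj ((l : G ⧸ N → ℂ) 1) =
        (l : G ⧸ N → ℂ) (g : G ⧸ N) := by
      intro l
      obtain ⟨f, hf⟩ := hhom l
      rw [hf 1]; simp
    rw [Finset.sum_congr rfl fun l _ => h3 l] at h2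
    rw [h2]
    split_ifs with hg
    · norm_cast
      apply Nat.card_congr
      refine Equiv.subtypeUnivEquiv fun x => ?_
      rw [(QuotientGroup.eq_one_iff g).2 hg, mul_one, mul_inv_cancel]
    · norm_cast
      rw [Nat.card_eq_zero]
      left
      constructor
      rintro ⟨x, hx⟩
      apply hg
      rw [← QuotientGroup.eq_one_iff (N := N)]
      rw [hcomm x, mul_inv_cancel_right] at hx
      exact hx
  have h2 : ∑ l : IrrCharacter (G ⧸ N), classInner ((fun g : G => (l : G ⧸ N → ℂ) (g : G ⧸ N)) *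
      (χ : G → ℂ)) (χ : G → ℂ) = (Nat.card G : ℂ)⁻¹ * ((Nat.card (G ⧸ N) : ℂ) *
        ∑ n : N, (χ : G → ℂ) n * conj ((χ : G → ℂ) n)) := by
    unfold classInner
    rw [← Finset.mul_sum, Finset.sum_comm]
    congr 1
    rw [← H19.BrMap.sum_subgroup_eq N (fun g => if g ∈ N then (χ : G → ℂ) g * conj ((χ : G → ℂ) g)
      else 0) (fun x hx => if_neg hx) |>.trans (Finset.sum_congr rfl fun n _ => if_pos n.2),
      Finset.mul_sum]
    refine Finset.sum_congr rfl fun g _ => ?_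
    have h4 : ∀ l : IrrCharacter (G ⧸ N), ((fun g : G => (l : G ⧸ N → ℂ) (g : G ⧸ N)) *
      (χ : G → ℂ)) g * conj ((χ : G → ℂ) g) = (l : G ⧸ N → ℂ) (g : G ⧸ N) *
        ((χ : G → ℂ) g * conj ((χ : G → ℂ) g)) := fun l => by
      simp only [Pi.mul_apply]; ring
    rw [Finset.sum_congr rfl fun l _ => h4 l, ← Finset.sum_mul, hcol]
    split_ifs <;> simp
  rw [h1] at h2
  have h5 : (Nat.card G : ℂ) = (Nat.card (G ⧸ N) : ℂ) * (Nat.card N : ℂ) := by
    rw [← Nat.cast_mul, ← Subgroup.card_eq_card_quotient_mul_card_subgroup]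
  have hG0 : (Nat.card (G ⧸ N) : ℂ) ≠ 0 := by exact_mod_cast Nat.card_pos.ne'
  have hN0 : (Nat.card N : ℂ) ≠ 0 := by exact_mod_cast Nat.card_pos.ne'
  rw [classInner, h2, h5, mul_inv]
  field_simp

end H80.SU4
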