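import Cfsg.Agent.Lib.H80.BR7

set_option autoImplicit false
set_option linter.unusedSectionVars false
set_option linter.unusedVariables false

/-!
# Bridge, part 10: another form of the stabilizer condition
-/

namespace H80.BR10

open Cfsg H20.Loc H20.GA H20.Blk H80.GA H80.GB H80.GC H80.GD H80.GE H80.GF H80.GG H80.GH
open H80.BR1 H80.BR2 H80.BR3 H80.BR4 H80.BR5 H80.BR6 H80.BR7

universe u
variable {G : Type u} [Group G] {M : Ideal AlgInt} [Finite G] [M.IsMaximal] {p : ℕ}

theorem stab'_iff {K : Subgroup G} {e : Set (IrrCharacter K)} (he : IsPBlock M e) {g : G}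
    (hg : g ∈ Subgroup.normalizer (K : Set G)) :
    (∀ θ ∈ e, ∀ θ' : IrrCharacter K, (∀ h h' : K, (h' : G) = g * h * g⁻¹ →
      (θ' : K → ℂ) h' = (θ : K → ℂ) h) → θ' ∈ e) ↔ cj g (bl M K e) = bl M K e := by
  have hK : K = cs g K := (mem_normalizer.1 hg).symm
  have hc := isPBlock_conjSet hK he
  rw [← bl_conjSet hK]
  constructor
  · intro h
    obtain ⟨χ, hχ⟩ := isPBlock_nonempty hc
    have h1 : χ ∈ e := by
      obtain ⟨ξ, hξ, h2⟩ := hχ
      exact h ξ hξ χ h2
    rw [isPBlock_eq_of_mem hc he hχ h1]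
  · intro h θ hθ θ' h1
    have h2 := bl_inj hc he h
    rw [← h2]
    exact ⟨θ, hθ, h1⟩

end H80.BR10
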