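import Cfsg.Agent.Lib.H80.GX

set_option autoImplicit false
set_option linter.unusedSectionVars false
set_option linter.unusedVariables false

/-!
# Cyclic `p`-groups and `p'`-automorphisms
-/

namespace H80.CY

open H80.GA
open scoped Pointwise

variable {G : Type*} [Group G] [Finite G] {p : ℕ} [Fact p.Prime]

lemma conj_pow' (g u : G) (r : ℕ) (n : ℕ) (h : g * u * g⁻¹ = u ^ r) :
    g ^ n * u * (g ^ n)⁻¹ = u ^ (r ^ n) := by
  induction n with
  | zero => simp
  | succ n ih =>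
    have h1 : g ^ (n + 1) * u * (g ^ (n + 1))⁻¹ = g * (g ^ n * u * (g ^ n)⁻¹) * g⁻¹ := by
      rw [pow_succ']; group
    rw [h1, ih, ← conj_pow, h, ← pow_mul, pow_succ']

/-- a `p'`-group of automorphisms of a cyclic `p`-group acts freely -/
theorem cyc_free {P T : Subgroup G} (hcyc : IsCyclic P) (hP : IsPGroup p P)
    (hTN : T ≤ Subgroup.normalizer (P : Set G)) (hCT : Subgroup.centralizer (P : Set G) ≤ T)
    (hidx : ¬ p ∣ (Subgroup.centralizer (P : Set G)).relIndex T) :
    ∀ g ∈ T, ∀ x ∈ P, x ≠ 1 → g * x * g⁻¹ = x → g ∈ Subgroup.centralizer (P : Set G) := by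
  intro g hg x hx hx1 hgx
  obtain ⟨u, hu⟩ := hcyc.exists_generator
  obtain ⟨a, ha⟩ := IsPGroup.iff_card.1 hP
  have hord : orderOf (u : G) = p ^ a := by
    rw [Subgroup.orderOf_coe, orderOf_eq_card_of_forall_mem_zpowers hu, ha]
  have hgen : ∀ y ∈ P, ∃ n : ℕ, y = (u : G) ^ n := by
    intro y hy
    obtain ⟨n, hn⟩ := (isOfFinOrder_of_finite u).mem_powers_iff_mem_zpowers.2 (hu ⟨y, hy⟩)
    exact ⟨n, by simpa using (congrArg Subtype.val hn).symm⟩
  have hgu : g * u * g⁻¹ ∈ P := (mem_normalizer_iff'.1 (hTN hg) u).1 u.2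
  obtain ⟨r, hr⟩ := hgen _ hgu
  -- `r ≡ 1 mod p`
  have hxp : ∃ b, 0 < b ∧ orderOf x = p ^ b := by
    obtain ⟨b, hb⟩ := (IsPGroup.iff_orderOf.1 hP) ⟨x, hx⟩
    rw [Subgroup.orderOf_mk] at hb
    refine ⟨b, Nat.pos_of_ne_zero ?_, hb⟩
    rintro rfl
    rw [pow_zero, orderOf_eq_one_iff] at hb
    exact hx1 hb
  obtain ⟨b, hb0, hb⟩ := hxp
  obtain ⟨i, hi⟩ := hgen x hx
  have hxr : x ^ r = x := by
    rw [hi, ← pow_mul, mul_comm, pow_mul, ← hr, conj_pow, ← hi, hgx]
  have hr1 : r ≡ 1 [MOD p] := by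
    have h1 : x ^ r = x ^ 1 := by rw [hxr, pow_one]
    rw [pow_eq_pow_iff_modEq, hb] at h1
    exact h1.of_dvd (dvd_pow_self p hb0.ne')
  -- `g ^ (p ^ a)` centralizes `P`
  have hrp : r ^ (p ^ a) ≡ 1 [MOD p ^ a] := by
    have h2 : ∀ n, r ^ (p ^ n) ≡ 1 [MOD p ^ (n + 1)] := by
      intro n
      rw [← Int.natCast_modEq_iff] at hr1 ⊢
      push_cast at hr1 ⊢
      have h3 := (Int.modEq_iff_dvd.1 hr1.symm)
      have h4 := dvd_sub_pow_of_dvd_sub (p := p) (a := (r : ℤ)) (b := 1) h3 n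
      rw [one_pow] at h4
      exact (Int.modEq_iff_dvd.2 h4).symm
    exact (h2 a).of_dvd (pow_dvd_pow p (Nat.le_succ a))
  have hC1 : g ^ (p ^ a) ∈ Subgroup.centralizer (P : Set G) := by
    have h3 : g ^ (p ^ a) * u * (g ^ (p ^ a))⁻¹ = u := by
      rw [conj_pow' g u r _ hr]
      have : (u : G) ^ (r ^ p ^ a) = (u : G) ^ 1 := by
        rw [pow_eq_pow_iff_modEq, hord]; exact hrp
      rw [this, pow_one]
    have h4 : g ^ (p ^ a) * u = u * g ^ (p ^ a) := by
      exact mul_inv_eq_iff_eq_mul.1 h3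
    rw [Subgroup.mem_centralizer_iff]
    intro y hy
    obtain ⟨n, rfl⟩ := hgen y hy
    exact (Commute.pow_right (show Commute (g ^ (p ^ a)) (u : G) from h4) n).symm
  have hnorm : ((Subgroup.centralizer (P : Set G)).subgroupOf T).Normal := by
    refine ⟨fun n hn g => ?_⟩
    rw [Subgroup.mem_subgroupOf] at hn ⊢
    have h1 : (g : G) * (n : G) * (g : G)⁻¹ ∈ cs (g : G) (Subgroup.centralizer (P : Set G)) :=
      conj_mem_cs.2 hn
    rw [cs_centralizer, mem_normalizer.1 (hTN g.2)] at h1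
    simpa using h1
  have hC2 : g ^ ((Subgroup.centralizer (P : Set G)).relIndex T) ∈
      Subgroup.centralizer (P : Set G) := by
    have h5 := Subgroup.pow_index_mem ((Subgroup.centralizer (P : Set G)).subgroupOf T)
      (⟨g, hg⟩ : T)
    rw [Subgroup.mem_subgroupOf] at h5
    exact h5
  have hcop : Nat.Coprime (p ^ a) ((Subgroup.centralizer (P : Set G)).relIndex T) :=
    Nat.Coprime.pow_left a ((Nat.Prime.coprime_iff_not_dvd Fact.out).2 hidx)
  have h6 := Nat.gcd_eq_gcd_ab (p ^ a) ((Subgroup.centralizer (P : Set G)).relIndex T)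
  rw [hcop.gcd_eq_one] at h6
  have h7 : g = g ^ ((1 : ℕ) : ℤ) := by simp
  rw [h7, h6, zpow_add, zpow_mul, zpow_mul]
  refine mul_mem (Subgroup.zpow_mem _ ?_ _) (Subgroup.zpow_mem _ ?_ _)
  · rw [zpow_natCast]; exact hC1
  · rw [zpow_natCast]; exact hC2

/-- for a cyclic `p`-group `P ≠ 1` and `T` acting freely, `T / C_G(P)` embeds into `Aut(Z_p)` -/
theorem cyc_quot {P T : Subgroup G} (hcyc : IsCyclic P) (hP : IsPGroup p P) (hP1 : P ≠ ⊥)
    (hTN : T ≤ Subgroup.normalizer (P : Set G)) 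
    (hfree : ∀ g ∈ T, ∀ x ∈ P, x ≠ 1 → g * x * g⁻¹ = x → g ∈ Subgroup.centralizer (P : Set G))
    [hn : ((Subgroup.centralizer (P : Set G)).subgroupOf T).Normal] :
    IsCyclic (T ⧸ (Subgroup.centralizer (P : Set G)).subgroupOf T) ∧
      (Subgroup.centralizer (P : Set G)).relIndex T ∣ p - 1 := by
  obtain ⟨u, hu⟩ := hcyc.exists_generator
  obtain ⟨a, ha⟩ := IsPGroup.iff_card.1 hP
  have hord : orderOf (u : G) = p ^ a := by
    rw [Subgroup.orderOf_coe, orderOf_eq_card_of_forall_mem_zpowers hu, ha]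
  have hgen : ∀ y ∈ P, ∃ n : ℕ, y = (u : G) ^ n := by
    intro y hy
    obtain ⟨n, hn⟩ := (isOfFinOrder_of_finite u).mem_powers_iff_mem_zpowers.2 (hu ⟨y, hy⟩)
    exact ⟨n, by simpa using (congrArg Subtype.val hn).symm⟩
  have ha0 : a ≠ 0 := by
    rintro rfl
    apply hP1
    rw [pow_zero] at ha
    exact Subgroup.card_eq_one.1 ha
  -- the subgroup of order `p`
  have hz1 : orderOf ((u : G) ^ (p ^ (a - 1))) = p := by
    rw [orderOf_pow_of_dvd (pow_ne_zero _ (Nat.Prime.pos Fact.out).ne')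
      (by rw [hord]; exact pow_dvd_pow p (Nat.sub_le a 1)), hord]
    exact Nat.div_eq_of_eq_mul_left (pow_pos (Nat.Prime.pos Fact.out) _)
      (by rw [← pow_succ']; congr 1; omega)
  set z : G := (u : G) ^ (p ^ (a - 1)) with hz
  have hzP : z ∈ P := P.pow_mem u.2 _
  have hz0 : z ≠ 1 := by
    intro h
    rw [h, orderOf_one] at hz1
    exact (Nat.Prime.one_lt (Fact.out : p.Prime)).ne hz1
  have hnz : ∀ g ∈ T, ∃ r : ℕ, g * z * g⁻¹ = z ^ r := by
    intro g hg
    obtain ⟨r, hr⟩ := hgen _ ((mem_normalizer_iff'.1 (hTN hg) u).1 u.2)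
    refine ⟨r, ?_⟩
    rw [hz, ← conj_pow, hr, ← pow_mul, ← pow_mul, mul_comm]
  have hTZ : T ≤ Subgroup.normalizer (Subgroup.zpowers z : Set G) := by
    intro g hg
    rw [mem_normalizer]
    have hle : cs g (Subgroup.zpowers z) ≤ Subgroup.zpowers z := by
      intro y hy
      rw [mem_cs] at hy
      obtain ⟨n, hn⟩ := hy
      obtain ⟨r, hr⟩ := hnz g hg
      have : y = (g * z * g⁻¹) ^ n := by
        rw [conj_zpow]
        have hn' : z ^ n = g⁻¹ * y * g := hn
        rw [hn']; group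
      rw [this, hr]
      exact Subgroup.zpow_mem _ (Subgroup.pow_mem _ (Subgroup.mem_zpowers z) _) _
    exact Subgroup.eq_of_le_of_card_ge hle (by rw [card_cs])
  let φ : T →* MulAut (Subgroup.zpowers z) :=
    ((Subgroup.zpowers z).normalizerMonoidHom).comp (Subgroup.inclusion hTZ)
  have hφ : ∀ (g : T) (x : Subgroup.zpowers z), ((φ g x : Subgroup.zpowers z) : G) =
      g * x * (g : G)⁻¹ := fun g x => rfl
  have hker : φ.ker = (Subgroup.centralizer (P : Set G)).subgroupOf T := by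
    ext g
    rw [MonoidHom.mem_ker, Subgroup.mem_subgroupOf]
    constructor
    · intro h
      refine hfree g g.2 z hzP hz0 ?_
      have := congrArg (fun σ : MulAut (Subgroup.zpowers z) =>
        ((σ ⟨z, Subgroup.mem_zpowers z⟩ : Subgroup.zpowers z) : G)) h
      simpa [hφ] using this
    · intro h
      refine MulEquiv.ext fun x => Subtype.ext ?_
      rw [hφ]
      have hxP : (x : G) ∈ P := (Subgroup.zpowers_le.2 hzP) x.2
      have := Subgroup.mem_centralizer_iff.1 h x hxP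
      rw [← this, mul_inv_cancel_right]
      rfl
  have hcardZ : Nat.card (Subgroup.zpowers z) = p := by rw [Nat.card_zpowers, hz1]
  have hcA : IsCyclic (MulAut (Subgroup.zpowers z)) := by
    have e1 := IsCyclic.mulAutMulEquiv (Subgroup.zpowers z)
    rw [hcardZ] at e1
    exact isCyclic_of_injective e1.toMonoidHom e1.injective
  have hcardA : Nat.card (MulAut (Subgroup.zpowers z)) = p - 1 := by
    rw [IsCyclic.card_mulAut, hcardZ, Nat.totient_prime Fact.out]
  let ψ : T ⧸ (Subgroup.centralizer (P : Set G)).subgroupOf T →* MulAut (Subgroup.zpowers z) :=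
    QuotientGroup.lift _ φ (fun x hx => by rw [← hker] at hx; exact hx)
  have hψ : Function.Injective ψ := by
    rw [injective_iff_map_eq_one]
    intro q
    induction q using QuotientGroup.induction_on with
    | H x =>
      intro hx
      rw [QuotientGroup.eq_one_iff, ← hker]
      exact hx
  refine ⟨isCyclic_of_injective ψ hψ, ?_⟩
  have := Subgroup.card_dvd_of_injective ψ hψ
  rw [hcardA] at this
  exact this

end H80.CY
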