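import Cfsg.Agent.Lib.H80.BR8
import Cfsg.Agent.Lib.H80.BR10
import Cfsg.Agent.Lib.H80.CY

set_option autoImplicit false
set_option linter.unusedSectionVars false
set_option linter.unusedVariables false

/-!
# Bridge, part 11: set-up for abelian and cyclic defect groups
-/

namespace H80.BR11

open Cfsg H20.Loc H20.GA H20.Blk H80.GA H80.GB H80.GC H80.GD H80.GE H80.GF H80.GG H80.GH
open H80.BR1 H80.BR2 H80.BR3 H80.BR4 H80.BR5 H80.BR6 H80.BR7 H80.BR8 H80.BR10

universe u
variable {G : Type u} [Group G] {M : Ideal AlgInt} [Finite G] [M.IsMaximal] {p : ℕ}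
  [Fact p.Prime] [CharP (ResF M) p] [Algebra (ZMod p) (ResF M)]
  [Algebra.IsAlgebraic (ZMod p) (ResF M)] [IsAlgClosed (ResF M)]

omit [Finite G] in
lemma ab_of_cyclic {P : Subgroup G} (hcyc : IsCyclic P) : ∀ x ∈ P, ∀ y ∈ P, x * y = y * x := by
  intro x hx y hy
  have := (IsCyclic.isMulCommutative (α := P)).is_comm.comm (⟨x, hx⟩ : P) ⟨y, hy⟩
  exact congrArg Subtype.val this

omit [Finite G] in
lemma le_cent_of_ab {P : Subgroup G} (hab : ∀ x ∈ P, ∀ y ∈ P, x * y = y * x) :
    P ≤ Subgroup.centralizer (P : Set G) := by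
  intro x hx
  rw [Subgroup.mem_centralizer_iff]
  intro y hy
  exact hab y hy x hx

theorem setup (hM : IsPModular p M) {B : Set (IrrCharacter G)} (hB : IsPBlock M B)
    {P : Subgroup G} (hPD : IsDefectGroup p M B P) (hab : ∀ x ∈ P, ∀ y ∈ P, x * y = y * x)
    {c : Set (IrrCharacter (Subgroup.centralizer (P : Set G)))}
    (hc : IsInducedBlock M (Subgroup.centralizer (P : Set G)) c B) {T : Subgroup G}
    (hT : ∀ g : G, g ∈ T ↔ (g ∈ Subgroup.normalizer (P : Set G) ∧
      StabilizesBlock (Subgroup.centralizer (P : Set G)) c g)) :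
    IsMax p ⊤ (ebar M B) P (bl M _ c) ∧ T = ST ⊤ P (bl M _ c) ∧
    T ≤ Subgroup.normalizer (P : Set G) ∧ Subgroup.centralizer (P : Set G) ≤ T ∧
    ¬ p ∣ (Subgroup.centralizer (P : Set G)).relIndex T := by
  have hmax := max_of_induced hM hB hPD hab hc
  have hTe : T = ST ⊤ P (bl M _ c) := stab_eq hc.1 hT
  have h1 := H80.GX.index_ST hmax
  rw [CH_top, sup_eq_right.2 (le_cent_of_ab hab), ← hTe] at h1
  have hTN : T ≤ Subgroup.normalizer (P : Set G) := fun g hg => ((hT g).1 hg).1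
  have hCT : Subgroup.centralizer (P : Set G) ≤ T := by
    rw [hTe]
    have := CH_le_ST hmax.of.pair.blk.mem.1
    rwa [CH_top] at this
  exact ⟨hmax, hTe, hTN, hCT, h1⟩

theorem setup' (hM : IsPModular p M) {B : Set (IrrCharacter G)} (hB : IsPBlock M B)
    {P : Subgroup G} (hPD : IsDefectGroup p M B P) (hab : ∀ x ∈ P, ∀ y ∈ P, x * y = y * x)
    {c : Set (IrrCharacter (Subgroup.centralizer (P : Set G)))}
    (hc : IsInducedBlock M (Subgroup.centralizer (P : Set G)) c B) {T : Subgroup G}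
    (hT : ∀ g : G, g ∈ T ↔ (g ∈ Subgroup.normalizer (P : Set G) ∧
      ∀ θ ∈ c, ∀ θ' : IrrCharacter (Subgroup.centralizer (P : Set G)),
        (∀ h h' : Subgroup.centralizer (P : Set G), (h' : G) = g * h * g⁻¹ →
          (θ' : Subgroup.centralizer (P : Set G) → ℂ) h' =
            (θ : Subgroup.centralizer (P : Set G) → ℂ) h) → θ' ∈ c)) :
    ∀ g : G, g ∈ T ↔ (g ∈ Subgroup.normalizer (P : Set G) ∧
      StabilizesBlock (Subgroup.centralizer (P : Set G)) c g) := by
  intro g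
  rw [hT g]
  apply and_congr_right
  intro hg
  have hg' := normalizer_cent_le P hg
  rw [stab'_iff hc.1 hg', stabilizes_iff hc.1]
  exact ⟨fun h => ⟨hg', h⟩, fun h => h.2⟩

end H80.BR11
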