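import Cfsg.Agent.Lib.H80.BR11
import Cfsg.Agent.Lib.H80.CY
import Cfsg.Agent.Lib.H80.GV

set_option autoImplicit false
set_option linter.unusedSectionVars false
set_option linter.unusedVariables false

/-!
# Cyclic defect groups: the local blocks
-/

namespace H80.CD1

open H80.GA H80.GB H80.GD H80.GE H80.GH H80.GV H80.FS3
open scoped Pointwise

section grp
variable {G : Type*} [Group G] [Finite G]

/-- an element normalizing a cyclic group normalizes all its subgroups -/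
lemma norm_sub {P Q : Subgroup G} (hcyc : IsCyclic P) (hQP : Q ≤ P) {g : G}
    (hg : g ∈ Subgroup.normalizer (P : Set G)) : g ∈ Subgroup.normalizer (Q : Set G) := by
  have key : ∀ g ∈ Subgroup.normalizer (P : Set G), ∀ x ∈ Q, g * x * g⁻¹ ∈ Q := by
    intro g hg x hx
    obtain ⟨u, hu⟩ := hcyc.exists_generator
    have hgen : ∀ y ∈ P, ∃ n : ℤ, (u : G) ^ n = y := by
      intro y hy
      obtain ⟨n, hn⟩ := Subgroup.mem_zpowers_iff.1 (hu ⟨y, hy⟩)
      exact ⟨n, by simpa using congrArg Subtype.val hn⟩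
    obtain ⟨r, hr⟩ := hgen _ ((mem_normalizer_iff'.1 hg u).1 u.2)
    obtain ⟨n, hn⟩ := hgen x (hQP hx)
    have : g * x * g⁻¹ = x ^ r := by
      rw [← hn, ← conj_zpow, ← hr, ← zpow_mul, ← zpow_mul, mul_comm]
    rw [this]
    exact Q.zpow_mem hx r
  rw [mem_normalizer_iff']
  intro x
  refine ⟨key g hg x, fun h => ?_⟩
  have := key g⁻¹ (inv_mem hg) _ h
  simpa [mul_assoc] using this

end grp

variable {k G : Type*} [Field k] [Group G] [Finite G] {p : ℕ} [Fact p.Prime] [CharP k p]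
variable [Algebra (ZMod p) k] [Algebra.IsAlgebraic (ZMod p) k]

/-- the stabilizer of a maximal pair with cyclic group stabilizes the subpairs -/
lemma st_le {H P Q : Subgroup G} {b e f : MonoidAlgebra k G} (hmax : IsMax p H b P e)
    (hcyc : IsCyclic P) (hf : SLE p H Q f P e) : ST H P e ≤ ST H Q f := by
  have hP := hmax.of.pair
  intro t ht
  have hQ := norm_sub hcyc (hf.le' hP) ht.2.1
  refine ⟨ht.1, hQ, ?_⟩
  have h1 := sle_cj hf t
  rw [cs_of_mem ht.1, mem_normalizer.1 hQ, mem_normalizer.1 ht.2.1, ht.2.2] at h1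
  exact SLE.unique hP h1 hf

lemma st_eq {H P Q : Subgroup G} {b e f : MonoidAlgebra k G} (hmax : IsMax p H b P e)
    (hcyc : IsCyclic P) (hf : SLE p H Q f P e) : ST H Q f = ST H P e ⊔ CH H Q := by
  have hP := hmax.of.pair
  have hab : ∀ x ∈ P, ∀ y ∈ P, x * y = y * x := by
    intro x hx y hy
    have := hcyc
    have : (⟨x, hx⟩ : P) * ⟨y, hy⟩ = ⟨y, hy⟩ * ⟨x, hx⟩ := IsCyclic.commGroup.mul_comm _ _
    exact congrArg Subtype.val this
  apply le_antisymm
  · intro x hx
    obtain ⟨y, hy, c, hc, rfl⟩ := H80.FS4.abelian_factor hmax hab hf hx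
    exact Subgroup.mul_mem_sup hy hc
  · exact sup_le (st_le hmax hcyc hf) (CH_le_ST (hf.pair_left hP).blk.mem.1)

lemma relIndex_sup_norm {K T : Subgroup G} (hN : T ≤ Subgroup.normalizer (K : Set G)) :
    K.relIndex (T ⊔ K) = K.relIndex T := by
  have hN' : T ⊔ K ≤ Subgroup.normalizer (K : Set G) := sup_le hN Subgroup.le_normalizer
  have hn : (K.subgroupOf (T ⊔ K)).Normal := Subgroup.normal_subgroupOf_of_le_normalizer hN'
  have h1 := Subgroup.relIndex_sup_right (T.subgroupOf (T ⊔ K)) (K.subgroupOf (T ⊔ K))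
  have h2 : T.subgroupOf (T ⊔ K) ⊔ K.subgroupOf (T ⊔ K) = ⊤ := by
    rw [← Subgroup.subgroupOf_sup le_sup_left le_sup_right, Subgroup.subgroupOf_self]
  rw [h2, Subgroup.relIndex_top_right] at h1
  have h3 : (K.subgroupOf (T ⊔ K)).index = K.relIndex (T ⊔ K) := rfl
  rw [← h3, h1, Subgroup.relIndex_subgroupOf le_sup_left]

lemma index_eq {P Q T : Subgroup G} (hQP : Q ≤ P) (hQ1 : Q ≠ ⊥)
    (hCT : Subgroup.centralizer (P : Set G) ≤ T) (hTQ : T ≤ Subgroup.normalizer (Q : Set G))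
    (hfree : ∀ g ∈ T, ∀ x ∈ P, x ≠ 1 → g * x * g⁻¹ = x → g ∈ Subgroup.centralizer (P : Set G)) :
    (Subgroup.centralizer (Q : Set G)).relIndex (T ⊔ Subgroup.centralizer (Q : Set G)) =
      (Subgroup.centralizer (P : Set G)).relIndex T := by
  have hn : T ≤ Subgroup.normalizer (Subgroup.centralizer (Q : Set G) : Set G) := by
    intro t ht
    rw [mem_normalizer, cs_centralizer, mem_normalizer.1 (hTQ ht)]
  rw [relIndex_sup_norm hn]
  have h1 : Subgroup.centralizer (Q : Set G) ⊓ T = Subgroup.centralizer (P : Set G) ⊓ T := by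
    apply le_antisymm
    · rintro x ⟨hx, hxT⟩
      obtain ⟨y, hy, hy1⟩ : ∃ y ∈ Q, y ≠ 1 := by
        by_contra hcon
        push Not at hcon
        exact hQ1 ((Subgroup.eq_bot_iff_forall _).2 hcon)
      refine ⟨hfree x hxT y (hQP hy) hy1 ?_, hxT⟩
      have := Subgroup.mem_centralizer_iff.1 hx y hy
      rw [← this]; simp
    · exact inf_le_inf_right _ (Subgroup.centralizer_le hQP)
  rw [← Subgroup.inf_relIndex_right (Subgroup.centralizer (Q : Set G)) T, h1,
    Subgroup.inf_relIndex_right]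

/-- the local blocks at nontrivial subgroups are nilpotent -/
lemma nilp_sub [IsAlgClosed k] {P Q : Subgroup G} {b e f : MonoidAlgebra k G}
    (hmax : IsMax p ⊤ b P e) (hab : ∀ x ∈ P, ∀ y ∈ P, x * y = y * x) (hQP : Q ≤ P) (hQ1 : Q ≠ ⊥)
    (hfree : ∀ g ∈ ST ⊤ P e, ∀ x ∈ P, x ≠ 1 → g * x * g⁻¹ = x →
      g ∈ Subgroup.centralizer (P : Set G)) (hf : SLE p ⊤ Q f P e) : Nilp p (CH ⊤ Q) f := by
  have h1 := cent_max hmax hab hf
  rw [nilp_abelian h1 hab]
  intro x hx
  obtain ⟨y, hy, hy1⟩ : ∃ y ∈ Q, y ≠ 1 := by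
    by_contra hcon
    push Not at hcon
    exact hQ1 ((Subgroup.eq_bot_iff_forall _).2 hcon)
  refine hfree x ⟨Subgroup.mem_top _, hx.2.1, hx.2.2⟩ y (hQP hy) hy1 ?_
  have := Subgroup.mem_centralizer_iff.1 hx.1.1 y hy
  rw [← this]; simp

end H80.CD1
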