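import Cfsg.Agent.Lib.H80.ML21
import Cfsg.Agent.Lib.H80.CD1
import Cfsg.Agent.Lib.H80.FS4
import Cfsg.Agent.Lib.H20.BrT8

set_option autoImplicit false
set_option linter.unusedSectionVars false
set_option linter.unusedVariables false
set_option linter.style.haveILetI false

/-!
# The lower bound for the number of simple modules in a block with cyclic defect group
-/

namespace H80.ML22

open Cfsg H20.Loc H20.GA H20.Blk H80.GA H80.GB H80.GC H80.GD H80.GE H80.GF H80.GH H80.BR1 H80.FS3 H80.FS4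
open H80.GV H80.CD1 H84.RG
open H80.ML2 H80.ML3 H80.ML4 H80.ML9
open H20.BrT (Dat)
open MonoidAlgebra

universe u

section grp
variable {G : Type*} [Group G] [Finite G]

lemma cyc_le {P Q R : Subgroup G} (hcyc : IsCyclic P) (hQ : Q ≤ P) (hR : R ≤ P)
    (h : Nat.card Q = Nat.card R) : Q ≤ R := by
  classical
  letI := Fintype.ofFinite P
  set n := Nat.card R with hn
  have hn0 : 0 < n := Nat.card_pos
  have h1 := IsCyclic.card_pow_eq_one_le (α := P) hn0
  set S : Finset P := Finset.univ.filter (fun a : P => a ^ n = 1) with hS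
  have hRS : Finset.univ.filter (fun a : P => (a : G) ∈ R) ⊆ S := by
    intro a ha
    rw [Finset.mem_filter] at ha ⊢
    refine ⟨Finset.mem_univ _, Subtype.ext ?_⟩
    exact orderOf_dvd_iff_pow_eq_one.1 (Subgroup.orderOf_dvd_natCard R ha.2)
  have hcard : (Finset.univ.filter (fun a : P => (a : G) ∈ R)).card = n := by
    rw [← Fintype.card_subtype, ← Nat.card_eq_fintype_card, hn]
    refine Nat.card_congr ⟨fun a => ⟨(a.1 : G), a.2⟩, fun r => ⟨⟨(r : G), hR r.2⟩, r.2⟩, ?_, ?_⟩
    · intro a; rfl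
    · intro a; rfl
  have hEq : Finset.univ.filter (fun a : P => (a : G) ∈ R) = S :=
    Finset.eq_of_subset_of_card_le hRS (by rw [hcard]; exact h1)
  intro q hq
  have h2 : (⟨q, hQ hq⟩ : P) ∈ S := by
    rw [hS, Finset.mem_filter]
    refine ⟨Finset.mem_univ _, Subtype.ext ?_⟩
    have h3 := orderOf_dvd_iff_pow_eq_one.1 (Subgroup.orderOf_dvd_natCard Q hq)
    rw [h] at h3
    exact h3
  rw [← hEq, Finset.mem_filter] at h2
  exact h2.2

lemma cyc_unique {P Q R : Subgroup G} (hcyc : IsCyclic P) (hQ : Q ≤ P) (hR : R ≤ P)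
    (h : Nat.card Q = Nat.card R) : Q = R :=
  le_antisymm (cyc_le hcyc hQ hR h) (cyc_le hcyc hR hQ h.symm)

/-- trivial intersections outside the normalizer of the minimal subgroup -/
lemma ti {p : ℕ} [Fact p.Prime] {P Z : Subgroup G} (hP : IsPGroup p P) (hcyc : IsCyclic P)
    (hZP : Z ≤ P) (hpZ : Nat.card Z = p) {g : G} (hg : g ∉ Subgroup.normalizer (Z : Set G)) :
    P ⊓ cs g P = ⊥ := by
  by_contra hne
  have hp : IsPGroup p (P ⊓ cs g P : Subgroup G) := hP.to_le inf_le_left
  have hnt : Nontrivial (P ⊓ cs g P : Subgroup G) := (Subgroup.nontrivial_iff_ne_bot _).2 hne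
  obtain ⟨n, hn, hcard⟩ := hp.nontrivial_iff_card.1 hnt
  obtain ⟨x, hx⟩ := exists_prime_orderOf_dvd_card' (G := (P ⊓ cs g P : Subgroup G)) p (by
    rw [hcard]; exact dvd_pow_self p hn.ne')
  have hx' : orderOf (x : G) = p := by rw [Subgroup.orderOf_coe]; exact hx
  have hcx : Nat.card (Subgroup.zpowers (x : G)) = p := by rw [Nat.card_zpowers, hx']
  have h1 : Subgroup.zpowers (x : G) = Z :=
    cyc_unique hcyc ((Subgroup.zpowers_le).2 x.2.1) hZP (by rw [hcx, hpZ])
  have hcyc' : IsCyclic (cs g P) := by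
    have : IsCyclic (P.map (MulAut.conj g).toMonoidHom) :=
      isCyclic_of_surjective _ (P.equivMapOfInjective _ (MulAut.conj g).injective).surjective
    exact this
  have h2 : Subgroup.zpowers (x : G) = cs g Z :=
    cyc_unique hcyc' ((Subgroup.zpowers_le).2 x.2.2) (cs_mono.2 hZP) (by rw [hcx, card_cs, hpZ])
  exact hg (mem_normalizer.2 (by rw [← h2, h1]))

end grp

section lam
variable {G : Type*} [Group G] [Finite G] {p : ℕ} [Fact p.Prime] {k : Type*} [Field k] [CharP k p]

/-- the linear character giving the action on a subgroup of order `p` -/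
lemma exists_lam {Z N : Subgroup G} (hpZ : Nat.card Z = p)
    (hNZ : N ≤ Subgroup.normalizer (Z : Set G)) :
    ∃ lam : N →* kˣ, lam.ker = (Subgroup.centralizer (Z : Set G)).subgroupOf N ∧
      ¬ p ∣ Nat.card lam.range := by
  have hcyc : IsCyclic Z := isCyclic_of_prime_card hpZ
  have hch : CharP k (Nat.card Z) := by rw [hpZ]; infer_instance
  let f1 : N →* MulAut Z := Z.normalizerMonoidHom.comp (Subgroup.inclusion hNZ)
  let f2 : N →* (ZMod (Nat.card Z))ˣ := (IsCyclic.mulAutMulEquiv Z).toMonoidHom.comp f1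
  let f3 : N →* kˣ := (Units.map (ZMod.castHom (dvd_refl _) k).toMonoidHom).comp f2
  have hinj : Function.Injective (Units.map (ZMod.castHom (dvd_refl (Nat.card Z)) k).toMonoidHom) :=
    Units.map_injective (ZMod.castHom_injective k)
  refine ⟨f3, ?_, ?_⟩
  · ext n
    rw [MonoidHom.mem_ker]
    have h1 : f3 n = 1 ↔ f2 n = 1 := by
      constructor
      · intro h
        apply hinj
        rw [map_one]; exact h
      · intro h
        show (Units.map _) (f2 n) = 1
        rw [h, map_one]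
    have h2 : f2 n = 1 ↔ f1 n = 1 := by
      constructor
      · intro h
        apply (IsCyclic.mulAutMulEquiv Z).injective
        rw [map_one]; exact h
      · intro h
        show (IsCyclic.mulAutMulEquiv Z) (f1 n) = 1
        rw [h, map_one]
    have h3 : f1 n = 1 ↔ (Subgroup.inclusion hNZ n) ∈ Z.normalizerMonoidHom.ker := Iff.rfl
    rw [h1, h2, h3, Subgroup.normalizerMonoidHom_ker]
    rfl
  · intro hdvd
    have h1 : Nat.card f3.range ∣ Nat.card f2.range := by
      have : f3.range = f2.range.map (Units.map (ZMod.castHom (dvd_refl (Nat.card Z)) k).toMonoidHom) :=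
        MonoidHom.range_comp _ _
      rw [this]
      exact Subgroup.card_map_dvd _ _
    have h2 : Nat.card f2.range ∣ Nat.card (ZMod (Nat.card Z))ˣ := Subgroup.card_subgroup_dvd_card _
    have hne : NeZero (Nat.card Z) := ⟨Nat.card_pos.ne'⟩
    have hcard : Nat.card (ZMod (Nat.card Z))ˣ = p - 1 := by
      rw [Nat.card_eq_fintype_card, ZMod.card_units_eq_totient, hpZ, Nat.totient_prime Fact.out]
    have h3 := (hdvd.trans h1).trans h2
    rw [hcard] at h3
    have hp : p.Prime := Fact.out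
    have h4 := Nat.le_of_dvd (by have := hp.two_le; omega) h3
    have := hp.two_le
    omega

end lam

section inc
variable {k : Type*} [Field k] {p : ℕ} [Fact p.Prime] [CharP k p]
  [Algebra (ZMod p) k] [Algebra.IsAlgebraic (ZMod p) k]
variable {G K : Type u} [Group G] [Group K] [Finite G] [Finite K]

lemma inc_isMax {φ : K →* G} (hφ : Function.Injective φ) {L P : Subgroup K}
    {b e : MonoidAlgebra k K} (h : IsMax p (L.map φ) (inc k φ b) (P.map φ) (inc k φ e)) :
    IsMax p L b P e := by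
  have h1 : PairOf p L b P e := (inc_pairOf hφ).1 h.of
  rw [isMax_iff_isDef h1]
  exact (inc_isDef hφ).1 ((isMax_iff_isDef h.of).1 h)

end inc

section main
variable {M : Ideal AlgInt} [M.IsMaximal] {G : Type u} [Group G] [Finite G] {p : ℕ}
variable [Fact p.Prime] [CharP (ResF M) p] [Algebra (ZMod p) (ResF M)] [Algebra.IsAlgebraic (ZMod p) (ResF M)]

/-- **lower bound**: a block with cyclic defect group and inertial index `e` has at least `e`
simple modules -/
theorem lower [IsAlgClosed (ResF M)] (hM : IsPModular p M) {B : Set (IrrCharacter G)}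
    (hB : IsPBlock M B) {P : Subgroup G} {e : MonoidAlgebra (ResF M) G}
    (hmax : IsMax p ⊤ (ebar M B) P e) (hcyc : IsCyclic P) (hP1 : P ≠ ⊥)
    (hfree : ∀ g ∈ ST ⊤ P e, ∀ x ∈ P, x ≠ 1 → g * x * g⁻¹ = x →
      g ∈ Subgroup.centralizer (P : Set G)) :
    (Subgroup.centralizer (P : Set G)).relIndex (ST ⊤ P e) ≤ blockRank p B := by
  classical
  have hpair := hmax.of.pair
  have hPp : IsPGroup p P := hpair.pgr
  have hab : ∀ x ∈ P, ∀ y ∈ P, x * y = y * x := by
    intro x hx y hy
    have : (⟨x, hx⟩ : P) * ⟨y, hy⟩ = ⟨y, hy⟩ * ⟨x, hx⟩ := IsCyclic.commGroup.mul_comm _ _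
    exact congrArg Subtype.val this
  -- the subgroup of order p
  obtain ⟨Z, hZP, hpZ⟩ : ∃ Z ≤ P, Nat.card Z = p := by
    have hnt : Nontrivial P := (Subgroup.nontrivial_iff_ne_bot _).2 hP1
    obtain ⟨n, hn, hcard⟩ := hPp.nontrivial_iff_card.1 hnt
    obtain ⟨x, hx⟩ := exists_prime_orderOf_dvd_card' (G := P) p (by
      rw [hcard]; exact dvd_pow_self p hn.ne')
    refine ⟨Subgroup.zpowers (x : G), (Subgroup.zpowers_le).2 x.2, ?_⟩
    rw [Nat.card_zpowers, Subgroup.orderOf_coe, hx]
  have hp : p.Prime := Fact.out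
  have hZ1 : Z ≠ ⊥ := by
    rintro rfl
    rw [Subgroup.card_bot] at hpZ
    exact hp.one_lt.ne hpZ
  obtain ⟨β, hβ, -⟩ := exists_unique_sle hpair hZP
  set N := ST ⊤ Z β with hN
  have hZpair : IsPair p ⊤ Z β := hβ.pair_left hpair
  have hCZ : CH ⊤ Z = Subgroup.centralizer (Z : Set G) := by rw [CH, inf_top_eq]
  have hZab : Z ≤ CH ⊤ Z := fun x hx => ⟨Subgroup.mem_centralizer_iff.2 fun y hy =>
    hab y (hZP hy) x (hZP hx), Subgroup.mem_top x⟩
  have hPC : P ≤ CH ⊤ Z := fun x hx => ⟨Subgroup.mem_centralizer_iff.2 fun y hy =>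
    hab y (hZP hy) x hx, Subgroup.mem_top x⟩
  have hCN : CH ⊤ Z ≤ N := CH_le_ST hZpair.blk.mem.1
  have hNZ : N ≤ Subgroup.normalizer (Z : Set G) := fun x hx => hx.2.1
  have hmaxC : IsMax p (CH ⊤ Z) β P e := cent_max hmax hab hβ
  have hnilC : Nilp p (CH ⊤ Z) β := nilp_sub hmax hab hZP hZ1 hfree hβ
  -- the local block as a block of the group `C`
  obtain ⟨βC, hβC⟩ := exists_inc (k := ResF M) (φ := (CH ⊤ Z).subtype) (CH ⊤ Z).subtype_injective
    (b := β) (by rw [Subgroup.range_subtype]; exact hZpair.blk.mem.2)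
  obtain ⟨eC, heC⟩ := exists_inc (k := ResF M) (φ := (CH ⊤ Z).subtype) (CH ⊤ Z).subtype_injective
    (b := e) (by
      rw [Subgroup.range_subtype]
      exact Sp_mono (CH_mono hZP) hpair.blk.mem.2)
  have hPm : (P.subgroupOf (CH ⊤ Z)).map (CH ⊤ Z).subtype = P :=
    Subgroup.map_subgroupOf_eq_of_le hPC
  have htopm : (⊤ : Subgroup (CH ⊤ Z : Subgroup G)).map (CH ⊤ Z).subtype = CH ⊤ Z :=
    map_subtype_top _
  have hmaxC' : IsMax p ⊤ βC (P.subgroupOf (CH ⊤ Z)) eC := by
    refine inc_isMax (φ := (CH ⊤ Z).subtype) (CH ⊤ Z).subtype_injective ?_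
    rw [hβC, heC, hPm, htopm]
    exact hmaxC
  have hnilC' : Nilp p ⊤ βC := by
    refine (inc_nilp (φ := (CH ⊤ Z).subtype) (CH ⊤ Z).subtype_injective).1 ?_
    rw [hβC, htopm]
    exact hnilC
  obtain ⟨b, hb, hbβ⟩ := exists_ebar (M := M) hmaxC'.of.blk
  have hcycC : IsCyclic (P.subgroupOf (CH ⊤ Z)) :=
    isCyclic_of_surjective _ (Subgroup.subgroupOfEquivOfLe hPC).symm.surjective
  obtain ⟨DC⟩ := H20.BrT.exists_dat' (G := (CH ⊤ Z : Subgroup G)) hM
  obtain ⟨i, hei, he, x, hxF, hβx, hnilx, hker⟩ := H80.ML17.block_rad hM (hbβ ▸ hmaxC') hb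
    (hbβ ▸ hnilC') hcycC DC
  rw [hbβ] at hei he hβx hker
  have hββC : βC * βC = βC := hmaxC'.of.blk.idem
  have hcβ : ∀ a, βC * a = a * βC := fun a => comm_of_mem hmaxC'.of.blk.mem.1 (Sp_top a)
  -- the stabilizer
  set φ : (CH ⊤ Z : Subgroup G) →* N := Subgroup.inclusion hCN with hφ
  have hφi : Function.Injective φ := Subgroup.inclusion_injective hCN
  have hrange : φ.range = (Subgroup.centralizer (Z : Set G)).subgroupOf N := by
    rw [hφ, Subgroup.inclusion_range, hCZ]
  have hnorm : φ.range.Normal := by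
    rw [hrange]
    refine Subgroup.normal_subgroupOf_of_le_normalizer ?_
    intro x hx
    rw [mem_normalizer, cs_centralizer, mem_normalizer.1 (hNZ hx)]
  set βN : MonoidAlgebra (ResF M) N := inc (ResF M) φ βC with hβN
  have hincinc : ∀ a : MonoidAlgebra (ResF M) (CH ⊤ Z : Subgroup G),
      inc (ResF M) N.subtype (inc (ResF M) φ a) = inc (ResF M) (CH ⊤ Z).subtype a := by
    intro a
    induction a using MonoidAlgebra.induction_linear with
    | zero => rw [map_zero, map_zero, map_zero]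
    | add f g hf hg => rw [map_add, map_add, map_add, hf, hg]
    | single g r =>
      have h1 : single g r = r • sg (ResF M) g := by simp [sg]
      rw [h1, map_smul, map_smul, map_smul, H80.ML18.inc_sg', H80.ML18.inc_sg', H80.ML18.inc_sg']
      rfl
  have hβNβ : inc (ResF M) N.subtype βN = β := by rw [hβN, hincinc, hβC]
  have hβF : β ∈ Fx (ResF M) N := fun g hg => hg.2.2
  have hinv : ∀ h : N, cj h βN = βN := by
    intro h
    apply inc_injective (k := ResF M) N.subtype_injective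
    rw [inc_cj N.subtype_injective, hβNβ]
    exact hβF _ h.2
  have hcβN : ∀ a, βN * a = a * βN := fun a => comm_of_mem (H := ⊤) (fun h _ => hinv h) (Sp_top a)
  obtain ⟨lam, hlam, hlamp⟩ := exists_lam (k := ResF M) hpZ hNZ
  have hlamr : lam.ker = φ.range := by rw [hlam, hrange]
  have hidx0 : φ.range.relIndex ⊤ = Nat.card lam.range := by
    rw [Subgroup.relIndex_top_right, ← hlamr, Subgroup.index_ker]
  have hidx : ((φ.range.relIndex ⊤ : ℕ) : ResF M) ≠ 0 := by
    rw [hidx0]
    intro h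
    exact hlamp ((CharP.cast_eq_zero_iff (ResF M) p _).1 h)
  obtain ⟨DN⟩ := H20.BrT.exists_dat' (G := N) hM
  obtain ⟨DG⟩ := H20.BrT.exists_dat' (G := G) hM
  -- number of local simple modules
  have hlocal := H80.ML21.count DC i hφi hnorm hββC hmaxC'.of.blk.ne he hei hcβN hinv lam hlamr DN
  -- the defect group of the local block
  have hdef : IsDef p N β P := by
    have hZof : PairOf p ⊤ (ebar M B) Z β := (pairOf_of_sle hpair hβ).1 hmax.of
    obtain ⟨x, -, hx1, hx2⟩ := exists_conj_np hmax hZof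
    have hxZ : cs x Z = Z :=
      cyc_unique hcyc (hx1.le' hpair) hZP (by rw [card_cs])
    rw [hxZ] at hx1 hx2
    have hxβ : cj x β = β := hx1.unique hpair hβ
    rw [hxβ] at hx2
    have hNH : NH P Z = P := by
      apply le_antisymm inf_le_left
      intro y hy
      exact ⟨hy, Subgroup.centralizer_le_normalizer _ (hPC hy).1⟩
    rw [hNH] at hx2
    exact hx2
  obtain ⟨a, haP, haN, hβa, hTr⟩ := exists_trace (k := ResF M) (p := p) (isBlk_ST hZpair) hdef
  letI := Fintype.ofFinite N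
  have hZof : PairOf p ⊤ (ebar M B) Z β := (pairOf_of_sle hpair hβ).1 hmax.of
  have hcomp := H80.ML11.card_le (N := N) (Z := Z) (D := P) (p := p) (hZab.trans hCN) hNZ hpZ
    (e := ebar M B) (β := β) hmax.of.blk.mem.1 hmax.of.blk.idem
    (by rw [← hCZ]; exact hZpair.blk.mem.2) (by rw [← hCZ]; exact hCN) hZof.br (hPC.trans hCN)
    (fun g hg => ti hPp hcyc hZP hpZ hg) haP haN hβF hZpair.blk.idem hβa hTr
    (fun g hg hgN => by
      have h3 : cs g (CH ⊤ Z) = CH ⊤ Z := by
        rw [cs_CH, mem_normalizer.1 hg, cs_of_mem (Subgroup.mem_top g)]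
      refine blk_orth hZpair.blk (h3 ▸ blk_cj hZpair.blk g) fun h5 => hgN ?_
      exact ⟨Subgroup.mem_top _, hg, h5.symm⟩)
    hβNβ hcβN
    (fun V _ _ _ _ _ _ hV => H80.ML19.dec_all DC i hφi hnorm hcβ hββC he hei
      (fun a => comm_of_mem hxF (Sp_top a)) hβx hnilx hker hinv hidx hV) DN DG
  have hfin : Nat.card {j : Fin DG.n // DG.π (ebar M B) j ≠ 0} = blockRank p B := by
    rw [H20.BrT.blockRank_eq DG hM hB, ← Nat.card_eq_fintype_card]
    rfl
  have hidxe : (Subgroup.centralizer (P : Set G)).relIndex (ST ⊤ P e) = Nat.card lam.range := by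
    have hPN : ST ⊤ P e ≤ Subgroup.normalizer (Z : Set G) := fun t ht => norm_sub hcyc hZP ht.2.1
    have hCP : Subgroup.centralizer (P : Set G) ≤ ST ⊤ P e := by
      have := CH_le_ST (H := (⊤ : Subgroup G)) (Q := P) (f := e) hpair.blk.mem.1
      rwa [CH, inf_top_eq] at this
    rw [← index_eq hZP hZ1 hCP hPN hfree, ← hCZ, ← st_eq hmax hcyc hβ, ← hN, ← hidx0, hrange, hCZ,
      Subgroup.relIndex_top_right]
    rfl
  rw [hidxe, ← hfin]
  exact hlocal.trans hcomp

end main

end H80.ML22
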