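import Cfsg.Prelude.Def_Spor_Fi22
import Cfsg.Agent.Lib.H16.NA1

/-! `Fi22` has nonabelian Sylow 2-subgroups. -/

set_option autoImplicit false

namespace H80.AbFi22

open Cfsg Cfsg.Spor H16.NA

/-- the generators of the presented group -/
def tt (x : Fi22.Gen) : Fi22 := PresentedGroup.of x

theorem tt_rel (x y : Fi22.Gen) : (tt x * tt y) ^ coxLabel Fi22.edges x y = 1 := by
  have h1 : ((FreeGroup.of x * FreeGroup.of y) ^ coxLabel Fi22.edges x y : FreeGroup Fi22.Gen) ∈
      (coxRelators Fi22.edges ∪ {r | r ∈ Fi22.extra}) := by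
    refine Or.inl ⟨x, ?_, y, ?_, rfl⟩
    · cases x <;> decide
    · cases y <;> decide
  have h2 := PresentedGroup.one_of_mem h1
  simpa [tt, PresentedGroup.of] using h2

theorem tt_sq (x : Fi22.Gen) : tt x * tt x = 1 := by
  have h := tt_rel x x
  have e : coxLabel Fi22.edges x x = 1 := by cases x <;> decide
  rwa [e, pow_one] at h

theorem tt_comm {x y : Fi22.Gen} (h : coxLabel Fi22.edges x y = 2) : tt x * tt y = tt y * tt x := by
  have h1 := tt_rel x y
  rw [h, pow_two] at h1
  have hx : (tt x)⁻¹ = tt x := inv_eq_of_mul_eq_one_left (tt_sq x)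
  have hy : (tt y)⁻¹ = tt y := inv_eq_of_mul_eq_one_left (tt_sq y)
  have h2 := eq_inv_of_mul_eq_one_left h1
  rw [mul_inv_rev, hx, hy] at h2
  exact h2

theorem tt_three {x y : Fi22.Gen} (h : coxLabel Fi22.edges x y = 3) : (tt x * tt y) ^ 3 = 1 := by
  have h1 := tt_rel x y
  rwa [h] at h1

theorem notAbS {K : Type*} [Group K] [Finite K]
    (hnc : ∃ x y : K, x * y ≠ y * x) (hK : Cfsg.Spor.IsoFi22 K) (h : AbS K) : False := by
  obtain ⟨e⟩ := hK
  have : Finite Fi22 := Finite.of_equiv K e.toEquiv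
  have h' : AbS Fi22 := h.of_equiv e.symm
  have P1 := path_four h' (tt_sq .a) (tt_sq .b) (tt_sq .c) (tt_sq .d) (tt_three (by decide)) (tt_three (by decide))
    (tt_three (by decide)) (tt_comm (by decide)) (tt_comm (by decide)) (tt_comm (by decide))
  have P2 := path_four h' (tt_sq .d) (tt_sq .e) (tt_sq .f) (tt_sq .g) (tt_three (by decide)) (tt_three (by decide))
    (tt_three (by decide)) (tt_comm (by decide)) (tt_comm (by decide)) (tt_comm (by decide))
  have P3 := path_four h' (tt_sq .c) (tt_sq .d) (tt_sq .h) (tt_sq .i) (tt_three (by decide)) (tt_three (by decide))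
    (tt_three (by decide)) (tt_comm (by decide)) (tt_comm (by decide)) (tt_comm (by decide))
  obtain ⟨p1, p2, p3⟩ := P1
  obtain ⟨p4, p5, p6⟩ := P2
  obtain ⟨p7, p8, p9⟩ := P3
  have hall : ∀ x, tt x = tt .d := by
    intro x
    cases x
    · rw [p1, p2, p3]
    · rw [p2, p3]
    · exact p3
    · rfl
    · exact p4.symm
    · rw [← p5, ← p4]
    · rw [← p6, ← p5, ← p4]
    · exact p8.symm
    · rw [← p9, ← p8]
  have hcl : Subgroup.closure (Set.range (PresentedGroup.of : Fi22.Gen → Fi22)) = ⊤ :=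
    PresentedGroup.closure_range_of _
  have hz : ∀ x : Fi22, x ∈ Subgroup.zpowers (tt .d) := by
    intro x
    have h1 : Subgroup.closure (Set.range (PresentedGroup.of : Fi22.Gen → Fi22)) ≤ Subgroup.zpowers (tt .d) := by
      rw [Subgroup.closure_le]
      rintro _ ⟨y, rfl⟩
      have := hall y
      unfold tt at this
      rw [this]
      exact Subgroup.mem_zpowers _
    rw [hcl] at h1
    exact h1 trivial
  obtain ⟨x, y, hxy⟩ := hnc
  apply hxy
  apply e.injective
  obtain ⟨i, hi⟩ := hz (e x)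
  obtain ⟨j, hj⟩ := hz (e y)
  simp only at hi hj
  rw [map_mul, map_mul, ← hi, ← hj, ← zpow_add, ← zpow_add, add_comm]

end H80.AbFi22
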