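import Cfsg.Agent.Lib.H80.BR7
import Cfsg.Agent.Lib.H80.GV

set_option autoImplicit false
set_option linter.unusedSectionVars false
set_option linter.unusedVariables false

/-!
# Bridge, part 8: blocks of `C_G(P)` inducing a block with abelian defect group
-/

namespace H80.BR8

open Cfsg H20.Loc H20.GA H20.Blk H80.GA H80.GB H80.GC H80.GD H80.GE H80.GF H80.GG H80.GH
open H80.BR1 H80.BR2 H80.BR3 H80.BR4 H80.BR5 H80.BR6 H80.BR7

universe u
variable {G : Type u} [Group G] {M : Ideal AlgInt} [Finite G] [M.IsMaximal] {p : ℕ}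
  [Fact p.Prime] [CharP (ResF M) p] [Algebra (ZMod p) (ResF M)]
  [Algebra.IsAlgebraic (ZMod p) (ResF M)]

/-- a block of `C_G(P)` inducing `B`, `P` an abelian defect group of `B`, is a maximal pair -/
theorem max_of_induced (hM : IsPModular p M) {B : Set (IrrCharacter G)} (hB : IsPBlock M B)
    {P : Subgroup G} (hPD : IsDefectGroup p M B P) (hab : ∀ x ∈ P, ∀ y ∈ P, x * y = y * x)
    {c : Set (IrrCharacter (Subgroup.centralizer (P : Set G)))}
    (hc : IsInducedBlock M (Subgroup.centralizer (P : Set G)) c B) :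
    IsMax p ⊤ (ebar M B) P (bl M _ c) := by
  have hd := (isDefectGroup_iff_isDef hM hB).1 hPD
  have hPC : P ≤ Subgroup.centralizer (P : Set G) := by
    intro x hx
    rw [Subgroup.mem_centralizer_iff]
    intro y hy
    exact hab y hy x hx
  have h1 := induced_br_mp hM hd.pgr hPC le_rfl (centralizer_le_normalizer' P) hc
  have h2 : PairOf p ⊤ (ebar M B) P (bl M _ c) :=
    ⟨isPair_bl hd.pgr hc.1, isBlk_ebar hB, h1⟩
  exact (isMax_iff_isDef h2).2 hd

theorem sle_iff_induced (hM : IsPModular p M) {P Q : Subgroup G} (hP : IsPGroup p P) (hQP : Q ≤ P)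
    (hab : ∀ x ∈ P, ∀ y ∈ P, x * y = y * x)
    {c : Set (IrrCharacter (Subgroup.centralizer (P : Set G)))} (hc : IsPBlock M c)
    {f : Set (IrrCharacter (Subgroup.centralizer (Q : Set G)))} (hf : IsPBlock M f) :
    IsInducedBlockIn M (Subgroup.centralizer (Q : Set G)) (Subgroup.centralizer (P : Set G)) c f ↔
      SLE p ⊤ Q (bl M _ f) P (bl M _ c) := by
  have hPC : P ≤ Subgroup.centralizer (P : Set G) := by
    intro x hx
    rw [Subgroup.mem_centralizer_iff]
    intro y hy
    exact hab y hy x hx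
  have hCC : Subgroup.centralizer (P : Set G) ≤ Subgroup.centralizer (Q : Set G) :=
    Subgroup.centralizer_le hQP
  have hN : P ≤ Subgroup.normalizer (Q : Set G) :=
    hPC.trans (hCC.trans (centralizer_le_normalizer' Q))
  have hPp := isPair_bl (M := M) hP hc
  have hQp := isPair_bl (M := M) (hP.to_le hQP) hf
  rw [inducedIn_iff_br hM hP hPC hCC inf_le_left (centralizer_le_normalizer' P) hc hf]
  constructor
  · intro h
    refine NLE.sle ⟨hQp, hPp, hQP, hN, ?_, h⟩
    have h1 : P ≤ CH ⊤ Q := by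
      rw [CH_top]; exact hPC.trans hCC
    exact Fx_mono h1 hQp.blk.mem.1
  · intro h
    exact (h.nle hPp hN).br

end H80.BR8
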