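import Cfsg.Agent.Lib.H80.GS
import Cfsg.Agent.Lib.H80.FS4

set_option autoImplicit false
set_option linter.unusedSectionVars false
set_option linter.unusedVariables false

/-!
# The block of `Q C(Q)`
-/

namespace H80.GT

open MonoidAlgebra H80.GA H80.GB H80.GC H80.GD H80.GE H80.GG H80.GH H80.GJ H80.FS3
open scoped Pointwise

variable {k G : Type*} [Field k] [Group G] [Finite G] {p : ℕ} [Fact p.Prime] [CharP k p]
  [Algebra (ZMod p) k] [Algebra.IsAlgebraic (ZMod p) k]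

theorem nilp_QC [IsAlgClosed k] {K Q : Subgroup G} {f : MonoidAlgebra k G}
    (hK : ∀ x ∈ K, ∃ u ∈ Q, ∃ c ∈ CH K Q, x = u * c) (hmax : IsMax p K f Q f) : Nilp p K f := by
  rw [nilp_iff hmax]
  intro R g hg hfus
  obtain ⟨u, hu, c, hc, rfl⟩ := hK g hg
  refine ⟨u, hu, fun r hr => ?_⟩
  obtain ⟨f', hf', -⟩ := hfus
  have h1 := Subgroup.mem_centralizer_iff.1 hc.1 r (hf'.le' hmax.of.pair hr)
  have h2 : u * c * r * (u * c)⁻¹ = u * (c * r * c⁻¹) * u⁻¹ := by group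
  rw [h2, ← h1]; simp

/-- the defect group of a centric pair in `Q C(Q)` -/
theorem def_QC {K Q : Subgroup G} {f : MonoidAlgebra k G} (hQK : Q ≤ K)
    (hf : IsPair p K Q f) (hfK : IsBlk K f) (hfix : f ∈ Fx k Q)
    (hKn : K ≤ Subgroup.normalizer (Q : Set G))
    (hK : ∀ x ∈ K, ∃ u ∈ Q, ∃ c ∈ CH K Q, x = u * c) (hdef : IsDef p (CH K Q) f (CH Q Q)) :
    IsDef p K f Q := by
  obtain ⟨D, hD⟩ := exists_isDef (p := p) hfK
  have hst : K ≤ ST K Q f := fun x hx => ⟨hx, hKn hx, hfK.mem.1 x hx⟩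
  have hQD : Q ≤ D := le_def_ST hf inf_le_right hst hQK hD
  have h1 : D ⊓ CH K Q ≤ CH Q Q := by
    have h2 : CH Q Q ≤ D ⊓ CH K Q := fun x hx => ⟨hQD hx.2, hx.1, hQK hx.2⟩
    have h3 : IsPGroup p (D ⊓ CH K Q : Subgroup G) := hD.pgr.to_le inf_le_left
    have h4 : br k (D ⊓ CH K Q) f ≠ 0 := by
      intro h0
      apply hD.ne
      have h5 := br_br (k := k) (inf_le_left : D ⊓ CH K Q ≤ D) f
      rw [h0, map_zero] at h5
      exact h5.symm
    obtain ⟨x, hx, hle⟩ := hdef.max _ inf_le_right h3 h4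
    have h6 : Nat.card (D ⊓ CH K Q : Subgroup G) ≤ Nat.card (CH Q Q) := by
      have := Subgroup.card_le_of_le hle
      rwa [card_cs] at this
    have h7 := Subgroup.eq_of_le_of_card_ge h2 h6
    rw [h7]
  have h2 : D = Q := by
    apply le_antisymm _ hQD
    intro x hx
    obtain ⟨u, hu, c, hc, rfl⟩ := hK x (hD.le hx)
    have hcD : c ∈ D := by
      have := mul_mem (D.inv_mem (hQD hu)) hx
      simpa using this
    exact mul_mem hu (h1 ⟨hcD, hc⟩).2
  rw [← h2]; exact hD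

end H80.GT
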