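import Cfsg.Agent.Lib.H80.GT
import Cfsg.Agent.Lib.H80.FS3

set_option autoImplicit false
set_option linter.unusedSectionVars false
set_option linter.unusedVariables false

/-!
# The extended first main theorem
-/

namespace H80.GX

open MonoidAlgebra H80.GA H80.GB H80.GC H80.GD H80.GE H80.GG H80.GH H80.FS H80.FS3
open scoped Pointwise

variable {k G : Type*} [Field k] [Group G] [Finite G] {p : ℕ} [Fact p.Prime] [CharP k p]
variable [Algebra (ZMod p) k] [Algebra.IsAlgebraic (ZMod p) k]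

/-- the block `e` of `P C(P)` is a block of `C(P)` -/
theorem isBlk_cent {P H : Subgroup G} {e : MonoidAlgebra k G} (hP : IsPGroup p P)
    (hH : H = P ⊔ CH ⊤ P) (he : IsBlk H e) : IsBlk (CH ⊤ P) e := by
  have hPH : P ≤ H := by rw [hH]; exact le_sup_left
  have hCH : CH ⊤ P ≤ H := by rw [hH]; exact le_sup_right
  have hHN : H ≤ Subgroup.normalizer (P : Set G) := by
    rw [hH]; exact sup_le Subgroup.le_normalizer CH_le_normalizer
  have h1 := br_idem_eq hP hPH hHN he.mem he.idem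
  have hsp : e ∈ Sp k (CH ⊤ P) := by
    refine Sp_inf ?_ (Sp_top e)
    rw [← h1]; exact br_mem_Sp P e
  refine ⟨⟨Fx_mono hCH he.mem.1, hsp⟩, he.idem, he.ne, ?_⟩
  intro z hz hzz
  refine he.cases ⟨?_, Sp_mono hCH hz.2⟩ hzz
  rw [hH]
  exact mem_Fx_sup_of (H := ⊤) hz le_rfl

/-- for a maximal pair, the block of the stabilizer has defect group `P` -/
theorem def_ST {H P : Subgroup G} {b e : MonoidAlgebra k G} (hmax : IsMax p H b P e) :
    IsDef p (ST H P e) e P := by
  obtain ⟨x, hx, h1, h2⟩ := exists_conj_np hmax hmax.of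
  have h3 : cs x P ≤ P := h1.le' hmax.of.pair
  have h4 : cs x P = P := Subgroup.eq_of_le_of_card_ge h3 (by rw [card_cs])
  rw [h4] at h1 h2
  have h5 : cj x e = e := SLE.unique hmax.of.pair h1 Relation.ReflTransGen.refl
  rw [h5] at h2
  have h6 : NH P P = P := inf_eq_left.2 Subgroup.le_normalizer
  rw [h6] at h2
  exact h2

lemma C_normal_ST {H P : Subgroup G} {e : MonoidAlgebra k G} :
    ((CH H P).subgroupOf (ST H P e)).Normal := by
  refine ⟨fun n hn g => ?_⟩
  rw [Subgroup.mem_subgroupOf] at hn ⊢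
  have hg1 : (g : G) ∈ H := g.2.1
  have hg2 : (g : G) ∈ Subgroup.normalizer (P : Set G) := g.2.2.1
  have : cs (g : G) (CH H P) = CH H P := by
    rw [cs_CH, cs_of_mem hg1, mem_normalizer.1 hg2]
  have h1 : (g : G) * (n : G) * (g : G)⁻¹ ∈ cs (g : G) (CH H P) := conj_mem_cs.2 hn
  rw [this] at h1
  simpa using h1

theorem index_ST [IsAlgClosed k] {P : Subgroup G} {b e : MonoidAlgebra k G}
    (hmax : IsMax p ⊤ b P e) : ¬ p ∣ (P ⊔ CH ⊤ P).relIndex (ST ⊤ P e) := by
  have hD := def_ST hmax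
  have hpair := hmax.of.pair
  have hCT : CH ⊤ P ≤ ST ⊤ P e := CH_le_ST hpair.blk.mem.1
  have hPT : P ≤ ST ⊤ P e := hD.le
  have := C_normal_ST (H := ⊤) (P := P) (e := e)
  have hN : ST ⊤ P e ≤ Subgroup.normalizer (CH ⊤ P : Set G) := by
    intro y hy
    rw [mem_normalizer, cs_CH, mem_normalizer.1 hy.2.1]
    congr 1
    exact mem_normalizer.1 (by rw [Subgroup.normalizer_eq_top]; exact Subgroup.mem_top y)
  have h1 := GK.cover_sylow hCT hN hpair.blk (isBlk_ST hpair) hD
    (QuotientGroup.mk' ((CH ⊤ P).subgroupOf (ST ⊤ P e))) (by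
      intro c hc
      exact (QuotientGroup.eq_one_iff _).2 (Subgroup.mem_subgroupOf.2 hc))
  have h2 : (QuotientGroup.mk' ((CH ⊤ P).subgroupOf (ST ⊤ P e))).range = ⊤ :=
    MonoidHom.range_eq_top.2 (QuotientGroup.mk'_surjective _)
  rw [h2, Subgroup.relIndex_top_right, Subgroup.index_map, h2, Subgroup.index_top, mul_one,
    QuotientGroup.ker_mk', ← Subgroup.subgroupOf_sup hPT hCT] at h1
  exact h1

theorem ext_first [IsAlgClosed k] {P H : Subgroup G} {B e : MonoidAlgebra k G}
    (hH : H = P ⊔ CH ⊤ P) (he : IsBlk H e) (hdef : IsDef p H e P) (hB : IsBlk ⊤ B)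
    (hBe : br k P B * e = e) : IsDef p ⊤ B P ↔ ¬ p ∣ H.relIndex (ST ⊤ P e) := by
  have hPp := hdef.pgr
  have hPH : P ≤ H := hdef.le
  have hCH : CH ⊤ P ≤ H := by rw [hH]; exact le_sup_right
  have hHN : H ≤ Subgroup.normalizer (P : Set G) := by
    rw [hH]; exact sup_le Subgroup.le_normalizer CH_le_normalizer
  have heC := isBlk_cent hPp hH he
  have hpair : PairOf p ⊤ B P e := ⟨⟨hPp, le_top, heC⟩, hB, hBe⟩
  rw [← isMax_iff_isDef hpair]
  constructor
  · intro hmax
    rw [hH]
    exact index_ST hmax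
  · intro hnd
    refine ⟨hpair, ?_⟩
    intro R g hnle
    by_contra hne
    apply hnd
    have hRT : R ≤ ST ⊤ P e := fun y hy =>
      mem_ST.2 ⟨Subgroup.mem_top y, hnle.norm hy, hnle.fx y hy⟩
    have hbr : br k (R ⊓ H) e ≠ 0 := by
      intro h0
      have h1 := hnle.br
      rw [← br_br (inf_le_left : R ⊓ H ≤ R) e, h0, map_zero, zero_mul] at h1
      exact hnle.pairP.blk.ne h1.symm
    obtain ⟨x, hx, h2⟩ := hdef.max (R ⊓ H) inf_le_right
      (hnle.pairP.pgr.to_le inf_le_left) hbr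
    rw [mem_normalizer.1 (hHN hx)] at h2
    have h3 : R ⊓ H = P := le_antisymm h2 (le_inf hnle.le hPH)
    have h4 : H.relIndex R = P.relIndex R := by
      rw [← Subgroup.inf_relIndex_left, h3]
    have hPR : P < R := lt_of_le_of_ne hnle.le (fun h => hne h.symm)
    have h5 : p ∣ P.relIndex R := by
      obtain ⟨n, hn⟩ := (IsPGroup.iff_card.1 hnle.pairP.pgr)
      have h6 : P.relIndex R ∣ p ^ n := by
        rw [← hn]
        exact Subgroup.relIndex_dvd_card P R
      obtain ⟨m, hm, hmm⟩ := (Nat.dvd_prime_pow Fact.out).1 h6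
      rw [hmm]
      have : m ≠ 0 := by
        rintro rfl
        rw [pow_zero, Subgroup.relIndex_eq_one] at hmm
        exact absurd hmm (not_le_of_gt hPR)
      exact dvd_pow_self p this
    have hHT : H ≤ ST ⊤ P e := by
      intro y hy
      exact mem_ST.2 ⟨Subgroup.mem_top y, hHN hy, he.mem.1 y hy⟩
    have hHn : (H.subgroupOf (ST ⊤ P e)).Normal := by
      have h7 : H.subgroupOf (ST ⊤ P e) =
          P.subgroupOf (ST ⊤ P e) ⊔ (CH ⊤ P).subgroupOf (ST ⊤ P e) := by
        rw [← Subgroup.subgroupOf_sup (hPH.trans hHT) (hCH.trans hHT), ← hH]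
      rw [h7]
      have := C_normal_ST (H := ⊤) (P := P) (e := e)
      have : (P.subgroupOf (ST ⊤ P e)).Normal := by
        refine ⟨fun n hn g => ?_⟩
        rw [Subgroup.mem_subgroupOf] at hn ⊢
        have hg2 : (g : G) ∈ Subgroup.normalizer (P : Set G) := g.2.2.1
        have := (mem_normalizer_iff'.1 hg2 (n : G)).1 hn
        simpa using this
      infer_instance
    have h8 : (H.subgroupOf (ST ⊤ P e)).relIndex (R.subgroupOf (ST ⊤ P e)) ∣
        (H.subgroupOf (ST ⊤ P e)).index := Subgroup.relIndex_dvd_index_of_normal _ _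
    rw [Subgroup.relIndex_subgroupOf hRT] at h8
    rw [← h4] at h5
    exact h5.trans h8

end H80.GX
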