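import Cfsg.Agent.Lib.H82.Cliff
import Cfsg.Agent.Lib.H82.Const
import Cfsg.Agent.Lib.H77.SubChar
import Cfsg.Agent.Lib.H77.Conv
import Cfsg.Agent.Lib.H83.Gallagher

/-!
# Isaacs-Passman: characters over an invariant linear character, counting
-/

set_option autoImplicit false
set_option linter.unusedSectionVars false
set_option linter.unusedVariables false
set_option linter.style.haveILetI false

open Cfsg H18.CharBasic H18.CharOrtho H18.CharInd H18.CharQuot H82.Deg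
open scoped ComplexConjugate

namespace H80.IP1

universe u
variable {T : Type u} [Group T]

/-- `χ` transforms on `K` by `μ`. -/
def Over (K : Subgroup T) (μ : T → ℂ) (χ : T → ℂ) : Prop := ∀ k ∈ K, ∀ g, χ (k * g) = μ k * χ g

/-- `μ` is multiplicative on `K`. -/
def IsLin (K : Subgroup T) (μ : T → ℂ) : Prop := μ 1 = 1 ∧ ∀ a ∈ K, ∀ b ∈ K, μ (a * b) = μ a * μ b

theorem IsLin.mul_inv {K : Subgroup T} {μ : T → ℂ} (h : IsLin K μ) {a : T} (ha : a ∈ K) :
    μ a * μ a⁻¹ = 1 := by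
  rw [← h.2 a ha a⁻¹ (K.inv_mem ha), mul_inv_cancel, h.1]

theorem IsLin.ne_zero {K : Subgroup T} {μ : T → ℂ} (h : IsLin K μ) {a : T} (ha : a ∈ K) :
    μ a ≠ 0 := by
  intro h0
  have := h.mul_inv ha
  rw [h0, zero_mul] at this
  exact zero_ne_one this

theorem IsLin.inv {K : Subgroup T} {μ : T → ℂ} (h : IsLin K μ) {a : T} (ha : a ∈ K) :
    μ a⁻¹ = (μ a)⁻¹ := by
  have h1 := h.mul_inv ha
  exact eq_inv_of_mul_eq_one_right h1

theorem IsLin.pow {K : Subgroup T} {μ : T → ℂ} (h : IsLin K μ) {a : T} (ha : a ∈ K) (n : ℕ) :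
    μ (a ^ n) = μ a ^ n := by
  induction n with
  | zero => simp [h.1]
  | succ n ih => rw [pow_succ, h.2 _ (K.pow_mem ha n) _ ha, ih, pow_succ]

theorem IsLin.norm [Finite T] {K : Subgroup T} {μ : T → ℂ} (h : IsLin K μ) {a : T} (ha : a ∈ K) :
    ‖μ a‖ = 1 := by
  have h1 := h.pow ha (Nat.card T)
  rw [pow_card_eq_one', h.1] at h1
  exact Complex.norm_eq_one_of_pow_eq_one h1.symm (Nat.card_pos (α := T)).ne'

theorem IsLin.conj [Finite T] {K : Subgroup T} {μ : T → ℂ} (h : IsLin K μ) {a : T} (ha : a ∈ K) :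
    conj (μ a) = μ a⁻¹ := by
  rw [h.inv ha, Complex.inv_def, Complex.normSq_eq_norm_sq, h.norm ha]
  simp

section E
variable [Finite T] {K : Subgroup T} [hK : K.Normal] {μ : T → ℂ} (hμ : IsLin K μ)
  (hinv : ∀ t, ∀ k ∈ K, μ (t * k * t⁻¹) = μ k)

include hμ hinv in
/-- the dichotomy for irreducible characters -/
theorem over_or [Fintype K] {χ : T → ℂ} (hχ : IsIrrCharacter T χ) :
    Over K μ χ ∨ ∀ x, ∑ k : K, μ (k : T)⁻¹ * χ (k * x) = 0 := by
  classical
  obtain ⟨n, ρ, hρ, rfl⟩ := hχ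
  set E : Module.End ℂ (Fin n → ℂ) := ∑ k : K, μ (k : T)⁻¹ • ρ k with hE
  have hcomm : ∀ g : T, E * ρ g = ρ g * E := by
    intro g
    rw [hE, Finset.sum_mul, Finset.mul_sum]
    let e : K ≃ K :=
      { toFun := fun k => ⟨g⁻¹ * k * g, by simpa using hK.conj_mem k k.2 g⁻¹⟩
        invFun := fun k => ⟨g * k * g⁻¹, hK.conj_mem k k.2 g⟩
        left_inv := fun k => by ext; simp [mul_assoc]
        right_inv := fun k => by ext; simp [mul_assoc] }
    refine Fintype.sum_equiv e _ _ fun k => ?_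
    have h1 : μ (k : T)⁻¹ = μ ((e k : K) : T)⁻¹ := by
      have h2 := hinv g⁻¹ (k : T)⁻¹ (K.inv_mem k.2)
      rw [← h2]
      congr 1
      show _ = (g⁻¹ * k * g)⁻¹
      group
    have h3 : (k : T) * g = g * ((e k : K) : T) := by
      show (k : T) * g = g * (g⁻¹ * k * g)
      group
    rw [smul_mul_assoc, mul_smul_comm, ← h1, ← map_mul, ← map_mul, h3]
  obtain ⟨c, hc⟩ := H83.Schur.scalar_of_commute ρ hρ E hcomm
  have hkE : ∀ k0 ∈ K, ρ k0 * E = μ k0 • E := by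
    intro k0 hk0
    rw [hE, Finset.mul_sum, Finset.smul_sum]
    refine Fintype.sum_equiv (Equiv.mulLeft (⟨k0, hk0⟩ : K)) _ _ fun k => ?_
    have h1 : μ (k : T)⁻¹ = μ k0 * μ ((Equiv.mulLeft (⟨k0, hk0⟩ : K) k : K) : T)⁻¹ := by
      have h2 : (((Equiv.mulLeft (⟨k0, hk0⟩ : K) k : K) : T)) = k0 * k := rfl
      rw [h2, mul_inv_rev, hμ.2 _ (K.inv_mem k.2) _ (K.inv_mem hk0), hμ.inv hk0]
      field_simp [hμ.ne_zero hk0]
    rw [mul_smul_comm, ← map_mul, smul_smul, ← h1]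
    rfl
  by_cases h0 : c = 0
  · right
    intro x
    have h1 : ∑ k : K, μ (k : T)⁻¹ * ρ.character (k * x) = LinearMap.trace ℂ _ (E * ρ x) := by
      rw [hE, Finset.sum_mul, map_sum]
      refine Finset.sum_congr rfl fun k _ => ?_
      rw [smul_mul_assoc, map_smul, ← map_mul]
      rfl
    rw [h1, hc, h0, zero_smul, zero_mul, map_zero]
  · left
    intro k hk g
    have h1 := hkE k hk
    rw [hc, mul_smul_comm, mul_one, smul_smul] at h1
    have h2 : ρ k = μ k • (1 : Module.End ℂ (Fin n → ℂ)) := by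
      have h3 : c • ρ k = c • (μ k • (1 : Module.End ℂ (Fin n → ℂ))) := by
        rw [h1, smul_smul, mul_comm]
      exact smul_right_injective _ h0 h3
    show LinearMap.trace ℂ _ (ρ (k * g)) = μ k * LinearMap.trace ℂ _ (ρ g)
    rw [map_mul, h2, smul_mul_assoc, one_mul, map_smul, smul_eq_mul]

/-- the elements commuting with `x` modulo `K` -/
def Cs (K : Subgroup T) [hK : K.Normal] (x : T) : Subgroup T where
  carrier := {y | y * x * y⁻¹ * x⁻¹ ∈ K}
  one_mem' := by simp [K.one_mem]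
  mul_mem' := by
    intro a b ha hb
    simp only [Set.mem_ofPred_eq] at ha hb ⊢
    have h1 : a * b * x * (a * b)⁻¹ * x⁻¹ = a * (b * x * b⁻¹ * x⁻¹) * a⁻¹ * (a * x * a⁻¹ * x⁻¹) := by
      group
    rw [h1]
    exact K.mul_mem (hK.conj_mem _ hb a) ha
  inv_mem' := by
    intro a ha
    simp only [Set.mem_ofPred_eq] at ha ⊢
    have h1 : a⁻¹ * x * a⁻¹⁻¹ * x⁻¹ = a⁻¹ * (a * x * a⁻¹ * x⁻¹)⁻¹ * a⁻¹⁻¹ := by group
    rw [h1]
    exact hK.conj_mem _ (K.inv_mem ha) _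

theorem mem_Cs {x y : T} : y ∈ Cs K x ↔ y * x * y⁻¹ * x⁻¹ ∈ K := Iff.rfl

theorem le_Cs (x : T) : K ≤ Cs K x := by
  intro k hk
  rw [mem_Cs]
  have : k * x * k⁻¹ * x⁻¹ = k * (x * k⁻¹ * x⁻¹) := by group
  rw [this]
  exact K.mul_mem hk (hK.conj_mem _ (K.inv_mem hk) _)

include hμ hinv in
theorem mul_f {x y z : T} (hy : y ∈ Cs K x) (hz : z ∈ Cs K x) :
    μ ((y * z) * x * (y * z)⁻¹ * x⁻¹) = μ (y * x * y⁻¹ * x⁻¹) * μ (z * x * z⁻¹ * x⁻¹) := by
  rw [mem_Cs] at hy hz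
  have h1 : y * z * x * (y * z)⁻¹ * x⁻¹ = y * (z * x * z⁻¹ * x⁻¹) * y⁻¹ * (y * x * y⁻¹ * x⁻¹) := by
    group
  rw [h1, hμ.2 _ (hK.conj_mem _ hz y) _ hy, hinv _ _ hz, mul_comm]

variable [Fintype (IrrCharacter T)]

open Classical in
/-- the set of irreducible characters over `μ` -/
noncomputable def I (K : Subgroup T) (μ : T → ℂ) : Finset (IrrCharacter T) :=
  Finset.univ.filter fun χ => Over K μ (χ : T → ℂ)

theorem mem_I {χ : IrrCharacter T} : χ ∈ I K μ ↔ Over K μ (χ : T → ℂ) := by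
  simp [I]

include hμ hinv in
open Classical in
theorem sum_over [Fintype T] (x : T) :
    (Nat.card K : ℂ) * ∑ χ ∈ I K μ, (χ : T → ℂ) x * conj ((χ : T → ℂ) x) =
      ∑ y ∈ Finset.univ.filter (fun y : T => y ∈ Cs K x), μ (y * x * y⁻¹ * x⁻¹)⁻¹ := by
  letI := Fintype.ofFinite K
  have h1 : ∀ χ : IrrCharacter T, ∑ k : K, μ (k : T)⁻¹ * ((χ : T → ℂ) (k * x) * conj ((χ : T → ℂ) x)) =
      if Over K μ (χ : T → ℂ) then (Nat.card K : ℂ) * ((χ : T → ℂ) x * conj ((χ : T → ℂ) x)) else 0 := by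
    intro χ
    split_ifs with h
    · have h2 : ∀ k : K, μ (k : T)⁻¹ * ((χ : T → ℂ) (k * x) * conj ((χ : T → ℂ) x)) =
          (χ : T → ℂ) x * conj ((χ : T → ℂ) x) := by
        intro k
        rw [h k k.2 x, hμ.inv k.2]
        field_simp [hμ.ne_zero k.2]
      rw [Finset.sum_congr rfl fun k _ => h2 k, Finset.sum_const, nsmul_eq_mul, Finset.card_univ,
        Nat.card_eq_fintype_card]
    · have h3 := (over_or hμ hinv χ.2).resolve_left h x
      have h4 : ∀ k : K, μ (k : T)⁻¹ * ((χ : T → ℂ) (k * x) * conj ((χ : T → ℂ) x)) =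
          (μ (k : T)⁻¹ * (χ : T → ℂ) (k * x)) * conj ((χ : T → ℂ) x) := fun k => by ring
      rw [Finset.sum_congr rfl fun k _ => h4 k, ← Finset.sum_mul, h3, zero_mul]
  have h5 : (Nat.card K : ℂ) * ∑ χ ∈ I K μ, (χ : T → ℂ) x * conj ((χ : T → ℂ) x) =
      ∑ χ : IrrCharacter T, ∑ k : K, μ (k : T)⁻¹ * ((χ : T → ℂ) (k * x) * conj ((χ : T → ℂ) x)) := by
    rw [Finset.sum_congr rfl fun χ _ => h1 χ, ← Finset.sum_filter, Finset.mul_sum]
    rfl
  rw [h5, Finset.sum_comm]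
  have h6 : ∀ k : K, ∑ χ : IrrCharacter T, μ (k : T)⁻¹ * ((χ : T → ℂ) (k * x) * conj ((χ : T → ℂ) x)) =
      ∑ y : T, if y * x * y⁻¹ * x⁻¹ = k then μ (k : T)⁻¹ else 0 := by
    intro k
    rw [← Finset.mul_sum, H77.Conv.column_transporter]
    rw [← Finset.sum_filter, Finset.sum_const, nsmul_eq_mul, mul_comm]
    congr 1
    have h7 : Nat.card {y : T // y * (k * x) * y⁻¹ = x} =
        (Finset.univ.filter fun y : T => y * x * y⁻¹ * x⁻¹ = k).card := by
      rw [← Fintype.card_subtype, ← Nat.card_eq_fintype_card]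
      refine Nat.card_congr
        { toFun := fun y => ⟨y.1⁻¹, by
            obtain ⟨y, hy⟩ := y
            have h8 : y⁻¹ * x * y = (k : T) * x := by
              conv_lhs => rw [← hy]
              group
            show y⁻¹ * x * y⁻¹⁻¹ * x⁻¹ = k
            rw [inv_inv, h8]; group⟩
          invFun := fun y => ⟨y.1⁻¹, by
            obtain ⟨y, hy⟩ := y
            show y⁻¹ * (k * x) * y⁻¹⁻¹ = x
            rw [← hy]; group⟩
          left_inv := fun y => by ext; simp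
          right_inv := fun y => by ext; simp }
    rw [h7]
  rw [Finset.sum_congr rfl fun k _ => h6 k, Finset.sum_comm, Finset.sum_filter]
  refine Finset.sum_congr rfl fun y _ => ?_
  split_ifs with h
  · rw [mem_Cs] at h
    rw [Finset.sum_eq_single (⟨y * x * y⁻¹ * x⁻¹, h⟩ : K)]
    · simp
    · intro k _ hk
      rw [if_neg]
      intro h2
      exact hk (Subtype.ext h2.symm)
    · intro h2; exact absurd (Finset.mem_univ _) h2
  · refine Finset.sum_eq_zero fun k _ => ?_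
    rw [if_neg]
    intro h2
    apply h
    rw [mem_Cs, h2]; exact k.2

include hμ hinv in
/-- the good case -/
theorem sum_over_good [Fintype T] (x : T) (hx : ∀ y ∈ Cs K x, μ (y * x * y⁻¹ * x⁻¹) = 1) :
    (Nat.card K : ℝ) * ∑ χ ∈ I K μ, ‖(χ : T → ℂ) x‖ ^ 2 = (Nat.card (Cs K x) : ℝ) := by
  classical
  have h1 := sum_over hμ hinv x
  have h2 : ∀ y ∈ Finset.univ.filter (fun y : T => y ∈ Cs K x), μ (y * x * y⁻¹ * x⁻¹)⁻¹ = 1 := by
    intro y hy
    rw [Finset.mem_filter] at hy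
    rw [hμ.inv hy.2, hx y hy.2, inv_one]
  rw [Finset.sum_congr rfl h2, Finset.sum_const, nsmul_eq_mul, mul_one] at h1
  have h3 : (Finset.univ.filter (fun y : T => y ∈ Cs K x)).card = Nat.card (Cs K x) := by
    rw [← Fintype.card_subtype, ← Nat.card_eq_fintype_card]
  rw [h3] at h1
  have h4 : ∀ χ : IrrCharacter T, (χ : T → ℂ) x * conj ((χ : T → ℂ) x) = ((‖(χ : T → ℂ) x‖ ^ 2 : ℝ) : ℂ) := by
    intro χ
    rw [Complex.mul_conj, Complex.normSq_eq_norm_sq]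
  rw [Finset.sum_congr rfl fun χ _ => h4 χ] at h1
  exact_mod_cast h1

include hμ hinv in
/-- the bad case -/
theorem sum_over_bad [Fintype T] (x : T) (hx : ¬ ∀ y ∈ Cs K x, μ (y * x * y⁻¹ * x⁻¹) = 1) :
    ∑ χ ∈ I K μ, ‖(χ : T → ℂ) x‖ ^ 2 = 0 := by
  classical
  push Not at hx
  obtain ⟨y0, hy0, hne⟩ := hx
  have h1 := sum_over hμ hinv x
  set S := ∑ y ∈ Finset.univ.filter (fun y : T => y ∈ Cs K x), μ (y * x * y⁻¹ * x⁻¹)⁻¹ with hS
  have h2 : S = μ (y0 * x * y0⁻¹ * x⁻¹)⁻¹ * S := by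
    conv_rhs => rw [hS, Finset.mul_sum]
    rw [hS]
    refine Finset.sum_nbij' (fun y => y0⁻¹ * y) (fun y => y0 * y) ?_ ?_ ?_ ?_ ?_
    · intro y hy
      rw [Finset.mem_filter] at hy ⊢
      exact ⟨Finset.mem_univ _, (Cs K x).mul_mem ((Cs K x).inv_mem hy0) hy.2⟩
    · intro y hy
      rw [Finset.mem_filter] at hy ⊢
      exact ⟨Finset.mem_univ _, (Cs K x).mul_mem hy0 hy.2⟩
    · intro y _; simp
    · intro y _; simp
    · intro y hy
      rw [Finset.mem_filter] at hy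
      have h3 : y0⁻¹ * y ∈ Cs K x := (Cs K x).mul_mem ((Cs K x).inv_mem hy0) hy.2
      have h4 := mul_f hμ hinv hy0 h3
      rw [mul_inv_cancel_left] at h4
      rw [hμ.inv hy.2, h4, hμ.inv hy0, hμ.inv h3, mul_inv]
  have h5 : S = 0 := by
    have h6 : (1 - μ (y0 * x * y0⁻¹ * x⁻¹)⁻¹) * S = 0 := by
      rw [sub_mul, one_mul, ← h2, sub_self]
    rcases mul_eq_zero.1 h6 with h7 | h7
    · exfalso
      apply hne
      rw [hμ.inv hy0] at h7
      have h8 : (μ (y0 * x * y0⁻¹ * x⁻¹))⁻¹ = 1 := (sub_eq_zero.1 h7).symm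
      exact inv_eq_one.1 h8
    · exact h7
  rw [h5] at h1
  have hK0 : (Nat.card K : ℂ) ≠ 0 := by exact_mod_cast (Nat.card_pos (α := K)).ne'
  have h6 := (mul_eq_zero.1 h1).resolve_left hK0
  have h4 : ∀ χ : IrrCharacter T, (χ : T → ℂ) x * conj ((χ : T → ℂ) x) = ((‖(χ : T → ℂ) x‖ ^ 2 : ℝ) : ℂ) := by
    intro χ
    rw [Complex.mul_conj, Complex.normSq_eq_norm_sq]
  rw [Finset.sum_congr rfl fun χ _ => h4 χ] at h6
  exact_mod_cast h6

end E

end H80.IP1
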