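import Cfsg.Agent.Lib.H80.IP1

/-!
# Isaacs-Passman: existence of elements with small classes
-/

set_option autoImplicit false
set_option linter.unusedSectionVars false
set_option linter.unusedVariables false
set_option linter.style.haveILetI false

open Cfsg H18.CharBasic H18.CharOrtho H18.CharInd H18.CharQuot H82.Deg
open scoped ComplexConjugate

namespace H80.IP2

open H80.IP1

universe u
variable {T : Type u} [Group T]

theorem sum_norm_sq [Fintype T] (χ : IrrCharacter T) :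
    ∑ x : T, ‖(χ : T → ℂ) x‖ ^ 2 = (Nat.card T : ℝ) := by
  have h := inner_irr_self χ.2
  rw [inner_self_eq_sum] at h
  have h1 : ((Nat.card T : ℝ)⁻¹ * ∑ g : T, ‖(χ : T → ℂ) g‖ ^ 2 : ℝ) = 1 := by exact_mod_cast h
  have h0 : (Nat.card T : ℝ) ≠ 0 := by exact_mod_cast (Nat.card_pos (α := T)).ne'
  field_simp at h1
  exact h1

section R
variable [Fintype T] {K : Subgroup T} [hK : K.Normal] {μ : T → ℂ} (hμ : IsLin K μ)
  (hinv : ∀ t, ∀ k ∈ K, μ (t * k * t⁻¹) = μ k) [Fintype (IrrCharacter T)]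

include hμ hinv in
theorem sum_mem {x : T} (hx : x ∈ K) :
    (Nat.card K : ℝ) * ∑ χ ∈ I K μ, ‖(χ : T → ℂ) x‖ ^ 2 = (Nat.card T : ℝ) := by
  rw [sum_over_good hμ hinv x (fun y hy => ?_)]
  · have : Cs K x = ⊤ := by
      rw [eq_top_iff]
      intro y _
      rw [mem_Cs]
      exact K.mul_mem (hK.conj_mem _ hx y) (K.inv_mem hx)
    rw [this, Subgroup.card_top]
  · rw [hμ.2 _ (hK.conj_mem _ hx y) _ (K.inv_mem hx), hinv y x hx, hμ.mul_inv hx]

include hμ hinv in
/-- `|T : K| ≤ k b²` -/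
theorem card_le {b : ℕ} (hb : ∀ χ : IrrCharacter T, Over K μ (χ : T → ℂ) → charDegree (χ : T → ℂ) ≤ b) :
    Nat.card T ≤ Nat.card K * (b ^ 2 * (I K μ).card) := by
  have h1 := sum_mem hμ hinv K.one_mem
  have h2 : ∑ χ ∈ I K μ, ‖(χ : T → ℂ) 1‖ ^ 2 ≤ (I K μ).card * (b : ℝ) ^ 2 := by
    rw [← nsmul_eq_mul]
    apply Finset.sum_le_card_nsmul
    intro χ hχ
    have h3 := hb χ (mem_I.1 hχ)
    rw [← coe_charDegree' χ, Complex.norm_natCast]
    have h4 : (charDegree (χ : T → ℂ) : ℝ) ≤ b := by exact_mod_cast h3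
    gcongr
  have h3 : (Nat.card T : ℝ) ≤ Nat.card K * (b ^ 2 * (I K μ).card) := by
    rw [← h1]
    have : (b : ℝ) ^ 2 * (I K μ).card = (I K μ).card * (b : ℝ) ^ 2 := mul_comm _ _
    rw [this]
    gcongr
  exact_mod_cast h3

include hμ hinv in
/-- bound for the sum at `x` -/
theorem sum_le_of {b : ℕ}
    (hb : ∀ χ : IrrCharacter T, Over K μ (χ : T → ℂ) → charDegree (χ : T → ℂ) ≤ b) {x : T}
    (hx : (∀ y ∈ Cs K x, μ (y * x * y⁻¹ * x⁻¹) = 1) → b ^ 2 * Nat.card (Cs K x) < Nat.card T) :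
    ∑ χ ∈ I K μ, ‖(χ : T → ℂ) x‖ ^ 2 ≤ (I K μ).card - 1 := by
  have h1 := card_le hμ hinv hb
  have hk : 1 ≤ (I K μ).card := by
    by_contra h
    have h0 : (I K μ).card = 0 := by omega
    rw [h0] at h1
    have := Nat.card_pos (α := T)
    omega
  by_cases h : ∀ y ∈ Cs K x, μ (y * x * y⁻¹ * x⁻¹) = 1
  · have h2 := sum_over_good hμ hinv x h
    have h3 := hx h
    obtain ⟨q, hq⟩ := Subgroup.card_dvd_of_le (le_Cs (K := K) x)
    rw [hq] at h2 h3
    have hK0 : 0 < Nat.card K := Nat.card_pos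
    have h4 : ∑ χ ∈ I K μ, ‖(χ : T → ℂ) x‖ ^ 2 = (q : ℝ) := by
      have h5 : (Nat.card K : ℝ) ≠ 0 := by exact_mod_cast hK0.ne'
      push_cast at h2
      exact mul_left_cancel₀ h5 h2
    have h6 : q < (I K μ).card := by
      have h7 : b ^ 2 * (Nat.card K * q) < Nat.card K * (b ^ 2 * (I K μ).card) := lt_of_lt_of_le h3 h1
      have h8 : (Nat.card K * b ^ 2) * q < (Nat.card K * b ^ 2) * (I K μ).card := by
        calc (Nat.card K * b ^ 2) * q = b ^ 2 * (Nat.card K * q) := by ring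
          _ < Nat.card K * (b ^ 2 * (I K μ).card) := h7
          _ = _ := by ring
      exact lt_of_mul_lt_mul_left h8 (Nat.zero_le _)
    rw [h4]
    have h9 : (q : ℝ) + 1 ≤ (I K μ).card := by exact_mod_cast h6
    linarith
  · rw [sum_over_bad hμ hinv x h]
    have h9 : (1 : ℝ) ≤ (I K μ).card := by exact_mod_cast hk
    linarith

include hμ hinv in
/-- Lemma R -/
theorem exists_good {b : ℕ}
    (hb : ∀ χ : IrrCharacter T, Over K μ (χ : T → ℂ) → charDegree (χ : T → ℂ) ≤ b) :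
    Nat.card T ≤ b ^ 2 * Nat.card K ∨ ∃ x, x ∉ K ∧ (∀ y ∈ Cs K x, μ (y * x * y⁻¹ * x⁻¹) = 1) ∧
      Nat.card T ≤ b ^ 2 * Nat.card (Cs K x) := by
  classical
  by_contra hcon
  push Not at hcon
  obtain ⟨h1, h2⟩ := hcon
  have h3 : ∀ x ∉ K, ∑ χ ∈ I K μ, ‖(χ : T → ℂ) x‖ ^ 2 ≤ ((I K μ).card : ℝ) - 1 :=
    fun x hx => sum_le_of hμ hinv hb (fun h => h2 x hx h)
  have h4 : ∑ x : T, ∑ χ ∈ I K μ, ‖(χ : T → ℂ) x‖ ^ 2 = (I K μ).card * (Nat.card T : ℝ) := by
    rw [Finset.sum_comm, Finset.sum_congr rfl fun χ _ => sum_norm_sq χ, Finset.sum_const, nsmul_eq_mul]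
  have hK0 : (0 : ℝ) < Nat.card K := by exact_mod_cast (Nat.card_pos (α := K))
  have h5 : ∑ x ∈ Finset.univ.filter (fun x : T => x ∈ K), ∑ χ ∈ I K μ, ‖(χ : T → ℂ) x‖ ^ 2 =
      (Nat.card T : ℝ) := by
    have h6 : ∀ x ∈ Finset.univ.filter (fun x : T => x ∈ K), ∑ χ ∈ I K μ, ‖(χ : T → ℂ) x‖ ^ 2 =
        (Nat.card T : ℝ) / Nat.card K := by
      intro x hx
      rw [Finset.mem_filter] at hx
      have := sum_mem hμ hinv hx.2
      field_simp
      linarith
    rw [Finset.sum_congr rfl h6, Finset.sum_const, nsmul_eq_mul]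
    have h7 : (Finset.univ.filter (fun y : T => y ∈ K)).card = Nat.card K := by
      rw [← Fintype.card_subtype, ← Nat.card_eq_fintype_card]
    rw [h7]
    field_simp
  have h8 : ∑ x ∈ Finset.univ.filter (fun x : T => x ∉ K), ∑ χ ∈ I K μ, ‖(χ : T → ℂ) x‖ ^ 2 ≤
      ((Nat.card T : ℝ) - Nat.card K) * (((I K μ).card : ℝ) - 1) := by
    have h9 : (Finset.univ.filter (fun y : T => y ∉ K)).card + Nat.card K = Nat.card T := by
      have h7 : (Finset.univ.filter (fun y : T => y ∈ K)).card = Nat.card K := by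
        rw [← Fintype.card_subtype, ← Nat.card_eq_fintype_card]
      rw [← h7, add_comm, Finset.card_filter_add_card_filter_not, Finset.card_univ,
        Nat.card_eq_fintype_card]
    have h10 : ((Finset.univ.filter (fun y : T => y ∉ K)).card : ℝ) = (Nat.card T : ℝ) - Nat.card K := by
      rw [← h9]; push_cast; ring
    rw [← h10, ← nsmul_eq_mul]
    apply Finset.sum_le_card_nsmul
    intro x hx
    rw [Finset.mem_filter] at hx
    exact h3 x hx.2
  have h11 := Finset.sum_filter_add_sum_filter_not Finset.univ (fun x : T => x ∈ K)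
    (fun x => ∑ χ ∈ I K μ, ‖(χ : T → ℂ) x‖ ^ 2)
  rw [h4, h5] at h11
  have h12 : (Nat.card K : ℝ) * (((I K μ).card : ℝ) - 1) ≤ 0 := by nlinarith
  have h13 : ((I K μ).card : ℝ) ≤ 1 := by
    by_contra h
    push Not at h
    have : 0 < (Nat.card K : ℝ) * (((I K μ).card : ℝ) - 1) := mul_pos hK0 (by linarith)
    linarith
  have h14 : (I K μ).card ≤ 1 := by exact_mod_cast h13
  have h15 := card_le hμ hinv hb
  have h16 : Nat.card K * (b ^ 2 * (I K μ).card) ≤ b ^ 2 * Nat.card K := by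
    calc Nat.card K * (b ^ 2 * (I K μ).card) ≤ Nat.card K * (b ^ 2 * 1) := by gcongr
      _ = _ := by ring
  omega

end R

section A
variable {G : Type u} [Group G] [Fintype G] [Fintype (IrrCharacter G)]

/-- the function attached to a homomorphism of the centre -/
noncomputable def fn (l : Subgroup.center G →* ℂˣ) : G → ℂ :=
  extendByZero (Subgroup.center G) (fun z => (l z : ℂ))

theorem fn_apply (l : Subgroup.center G →* ℂˣ) {z : G} (hz : z ∈ Subgroup.center G) :
    fn l z = (l ⟨z, hz⟩ : ℂ) := ext_mem _ _ hz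

theorem isLin_fn (l : Subgroup.center G →* ℂˣ) : IsLin (Subgroup.center G) (fn l) := by
  refine ⟨?_, fun a ha b hb => ?_⟩
  · rw [fn_apply l (Subgroup.one_mem _)]
    have : (⟨1, Subgroup.one_mem _⟩ : Subgroup.center G) = 1 := rfl
    rw [this, map_one]; rfl
  · rw [fn_apply l ha, fn_apply l hb, fn_apply l (Subgroup.mul_mem _ ha hb)]
    have : (⟨a * b, Subgroup.mul_mem _ ha hb⟩ : Subgroup.center G) = ⟨a, ha⟩ * ⟨b, hb⟩ := rfl
    rw [this, map_mul]; rfl

theorem inv_fn (l : Subgroup.center G →* ℂˣ) : ∀ t : G, ∀ k ∈ Subgroup.center G,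
    fn l (t * k * t⁻¹) = fn l k := by
  intro t k hk
  rw [Subgroup.mem_center_iff] at hk
  congr 1
  rw [hk t]; group

/-- Lemma A: a group with degrees at most `n` has a noncentral element with class of size at most
`n²` or is abelian. -/
theorem exists_small_class {n : ℕ} (hn : ∀ χ : IrrCharacter G, charDegree (χ : G → ℂ) ≤ n) :
    Subgroup.center G = ⊤ ∨ ∃ x : G, x ∉ Subgroup.center G ∧
      Nat.card G ≤ n ^ 2 * Nat.card (Subgroup.centralizer ({x} : Set G)) := by
  classical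
  by_contra hcon
  push Not at hcon
  obtain ⟨h1, h2⟩ := hcon
  set Z := Subgroup.center G with hZ
  haveI : Finite (Z →* ℂˣ) := by
    apply Nat.finite_of_card_ne_zero
    rw [card_hom_eq_index]
    exact Subgroup.index_ne_zero_of_finite
  letI : Fintype (Z →* ℂˣ) := Fintype.ofFinite _
  have hcardZ : Fintype.card (Z →* ℂˣ) = Nat.card Z := by
    rw [← Nat.card_eq_fintype_card, card_hom_eq_index]
    have : commutator Z = ⊥ := by
      rw [commutator_def, Subgroup.commutator_eq_bot_iff_le_centralizer]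
      intro a _
      rw [Subgroup.mem_centralizer_iff]
      intro b _
      exact Subtype.ext (Subgroup.mem_center_iff.1 a.2 b)
    rw [this, Subgroup.index_bot]
  -- the key bound
  have h3 : ∀ l : Z →* ℂˣ, Nat.card G ≤ Nat.card Z * (n ^ 2 * (I Z (fn l)).card) :=
    fun l => card_le (isLin_fn l) (inv_fn l) (fun χ _ => hn χ)
  have hZ0 : 0 < Nat.card Z := Nat.card_pos
  have h4 : ∀ x ∉ Z, ∀ l : Z →* ℂˣ, Nat.card (Subgroup.centralizer ({x} : Set G)) + Nat.card Z ≤
      Nat.card Z * (I Z (fn l)).card := by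
    intro x hx l
    have h5 := h2 x hx
    have hle : Z ≤ Subgroup.centralizer ({x} : Set G) := Subgroup.center_le_centralizer _
    obtain ⟨q, hq⟩ := Subgroup.card_dvd_of_le hle
    rw [hq] at h5 ⊢
    have h6 := lt_of_lt_of_le h5 (h3 l)
    have h8 : (Nat.card Z * n ^ 2) * q < (Nat.card Z * n ^ 2) * (I Z (fn l)).card := by
      calc (Nat.card Z * n ^ 2) * q = n ^ 2 * (Nat.card Z * q) := by ring
        _ < Nat.card Z * (n ^ 2 * (I Z (fn l)).card) := h6
        _ = _ := by ring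
    have h9 : q < (I Z (fn l)).card := lt_of_mul_lt_mul_left h8 (Nat.zero_le _)
    calc Nat.card Z * q + Nat.card Z = Nat.card Z * (q + 1) := by ring
      _ ≤ _ := Nat.mul_le_mul_left _ h9
  -- disjointness
  have hdis : ∀ χ : IrrCharacter G, (Finset.univ.filter fun l : Z →* ℂˣ => χ ∈ I Z (fn l)).card ≤ 1 := by
    intro χ
    rw [Finset.card_le_one]
    intro l hl l' hl'
    rw [Finset.mem_filter, mem_I] at hl hl'
    ext z
    have h5 := hl.2 z z.2 1
    have h6 := hl'.2 z z.2 1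
    rw [h5, fn_apply l z.2, fn_apply l' z.2] at h6
    exact mul_right_cancel₀ (irr_one_ne_zero χ.2) h6
  have hsum : ∀ x : G, ∑ l : Z →* ℂˣ, ∑ χ ∈ I Z (fn l), ‖(χ : G → ℂ) x‖ ^ 2 ≤
      (Nat.card (Subgroup.centralizer ({x} : Set G)) : ℝ) := by
    intro x
    have h5 := column_orthogonality x x
    rw [if_pos (IsConj.refl x)] at h5
    have h6 : ∑ χ : IrrCharacter G, ‖(χ : G → ℂ) x‖ ^ 2 =
        (Nat.card (Subgroup.centralizer ({x} : Set G)) : ℝ) := by
      have h4 : ∀ χ : IrrCharacter G, (χ : G → ℂ) x * conj ((χ : G → ℂ) x) =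
          ((‖(χ : G → ℂ) x‖ ^ 2 : ℝ) : ℂ) := by
        intro χ
        rw [Complex.mul_conj, Complex.normSq_eq_norm_sq]
      rw [Finset.sum_congr rfl fun χ _ => h4 χ] at h5
      exact_mod_cast h5
    rw [← h6]
    have h7 : ∀ l : Z →* ℂˣ, ∑ χ ∈ I Z (fn l), ‖(χ : G → ℂ) x‖ ^ 2 =
        ∑ χ : IrrCharacter G, if χ ∈ I Z (fn l) then ‖(χ : G → ℂ) x‖ ^ 2 else 0 := by
      intro l
      rw [← Finset.sum_filter]
      congr 1
      ext χ; simp
    rw [Finset.sum_congr rfl fun l _ => h7 l, Finset.sum_comm]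
    apply Finset.sum_le_sum
    intro χ _
    rw [← Finset.sum_filter, Finset.sum_const, nsmul_eq_mul]
    have h8 : ((Finset.univ.filter fun l : Z →* ℂˣ => χ ∈ I Z (fn l)).card : ℝ) ≤ 1 := by
      exact_mod_cast hdis χ
    nlinarith [sq_nonneg ‖(χ : G → ℂ) x‖]
  set κ : ℝ := ∑ l : Z →* ℂˣ, ((I Z (fn l)).card : ℝ) with hκ
  have hZr : (0 : ℝ) < Nat.card Z := by exact_mod_cast hZ0
  have h10 : ∑ x : G, ∑ l : Z →* ℂˣ, ∑ χ ∈ I Z (fn l), ‖(χ : G → ℂ) x‖ ^ 2 = κ * (Nat.card G : ℝ) := by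
    rw [Finset.sum_comm, hκ, Finset.sum_mul]
    refine Finset.sum_congr rfl fun l _ => ?_
    rw [Finset.sum_comm, Finset.sum_congr rfl fun χ _ => sum_norm_sq χ, Finset.sum_const, nsmul_eq_mul]
  have h11 : ∑ x ∈ Finset.univ.filter (fun x : G => x ∈ Z),
      ∑ l : Z →* ℂˣ, ∑ χ ∈ I Z (fn l), ‖(χ : G → ℂ) x‖ ^ 2 ≤ (Nat.card Z : ℝ) * Nat.card G := by
    have h7 : (Finset.univ.filter (fun y : G => y ∈ Z)).card = Nat.card Z := by
      rw [← Fintype.card_subtype, ← Nat.card_eq_fintype_card]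
    rw [← h7, ← nsmul_eq_mul]
    apply Finset.sum_le_card_nsmul
    intro x _
    refine (hsum x).trans ?_
    exact_mod_cast Nat.le_of_dvd Nat.card_pos (Subgroup.card_subgroup_dvd_card _)
  have h12 : ∑ x ∈ Finset.univ.filter (fun x : G => x ∉ Z),
      ∑ l : Z →* ℂˣ, ∑ χ ∈ I Z (fn l), ‖(χ : G → ℂ) x‖ ^ 2 ≤
        ((Nat.card G : ℝ) - Nat.card Z) * (κ - Nat.card Z) := by
    have h9 : (Finset.univ.filter (fun y : G => y ∉ Z)).card + Nat.card Z = Nat.card G := by
      have h7 : (Finset.univ.filter (fun y : G => y ∈ Z)).card = Nat.card Z := by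
        rw [← Fintype.card_subtype, ← Nat.card_eq_fintype_card]
      rw [← h7, add_comm, Finset.card_filter_add_card_filter_not, Finset.card_univ,
        Nat.card_eq_fintype_card]
    have h10 : ((Finset.univ.filter (fun y : G => y ∉ Z)).card : ℝ) = (Nat.card G : ℝ) - Nat.card Z := by
      rw [← h9]; push_cast; ring
    rw [← h10, ← nsmul_eq_mul]
    apply Finset.sum_le_card_nsmul
    intro x hx
    rw [Finset.mem_filter] at hx
    refine (hsum x).trans ?_
    -- |C(x)| = ∑_l |C(x)|/|Z| ≤ ∑_l (k_l - 1)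
    have h13 : ∀ l ∈ (Finset.univ : Finset (Z →* ℂˣ)),
        (Nat.card (Subgroup.centralizer ({x} : Set G)) : ℝ) / Nat.card Z ≤ ((I Z (fn l)).card : ℝ) - 1 := by
      intro l _
      rw [div_le_iff₀ hZr]
      have h14 := h4 x hx.2 l
      have h15 : (Nat.card (Subgroup.centralizer ({x} : Set G)) : ℝ) + Nat.card Z ≤
          Nat.card Z * (I Z (fn l)).card := by exact_mod_cast h14
      linarith
    have h16 := Finset.sum_le_sum h13
    rw [Finset.sum_const, Finset.card_univ, hcardZ, nsmul_eq_mul, Finset.sum_sub_distrib, Finset.sum_const,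
      Finset.card_univ, hcardZ, nsmul_eq_mul, mul_one] at h16
    have h17 : (Nat.card Z : ℝ) * ((Nat.card (Subgroup.centralizer ({x} : Set G)) : ℝ) / Nat.card Z) =
        Nat.card (Subgroup.centralizer ({x} : Set G)) := by field_simp
    rw [h17] at h16
    exact h16
  have h13 := Finset.sum_filter_add_sum_filter_not Finset.univ (fun x : G => x ∈ Z)
    (fun x => ∑ l : Z →* ℂˣ, ∑ χ ∈ I Z (fn l), ‖(χ : G → ℂ) x‖ ^ 2)
  rw [h10] at h13
  have h14 : (Nat.card Z : ℝ) * (κ - Nat.card Z) ≤ 0 := by nlinarith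
  have h15 : κ ≤ Nat.card Z := by
    by_contra h
    push Not at h
    have : 0 < (Nat.card Z : ℝ) * (κ - Nat.card Z) := mul_pos hZr (by linarith)
    linarith
  -- contradiction with a noncentral element
  have h16 : ∃ x, x ∉ Z := by
    by_contra h
    push Not at h
    exact h1 (eq_top_iff.2 fun x _ => h x)
  obtain ⟨x, hx⟩ := h16
  have h17 : ∀ l ∈ (Finset.univ : Finset (Z →* ℂˣ)), (2 : ℝ) ≤ (I Z (fn l)).card := by
    intro l _
    have h18 := h4 x hx l
    have hle : Z ≤ Subgroup.centralizer ({x} : Set G) := Subgroup.center_le_centralizer _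
    have h19 := Nat.le_of_dvd Nat.card_pos (Subgroup.card_dvd_of_le hle)
    have h20 : Nat.card Z * 2 ≤ Nat.card Z * (I Z (fn l)).card := by omega
    exact_mod_cast Nat.le_of_mul_le_mul_left h20 hZ0
  have h18 := Finset.sum_le_sum h17
  rw [Finset.sum_const, Finset.card_univ, hcardZ, nsmul_eq_mul] at h18
  rw [← hκ] at h18
  linarith

end A

end H80.IP2
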