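import Cfsg.Agent.Lib.H80.IP2

/-!
# Isaacs-Passman: the relative theorem
-/

set_option autoImplicit false
set_option linter.unusedSectionVars false
set_option linter.unusedVariables false
set_option linter.style.haveILetI false

open Cfsg H18.CharBasic H18.CharOrtho H18.CharInd H18.CharQuot H82.Deg H82.Cliff
open scoped ComplexConjugate

namespace H80.IP3

open H80.IP1 H80.IP2

universe u

section ovr
variable {T : Type u} [Group T] [Finite T]

theorem over_of_liesOver (C K : Subgroup T) [hK : K.Normal] (hKC : K ≤ C) {μ : T → ℂ}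
    (hμ : IsLin K μ) (hinv : ∀ t, ∀ k ∈ K, μ (t * k * t⁻¹) = μ k) (χ : IrrCharacter T)
    (ψ : IrrCharacter C) (hψ : Over (K.subgroupOf C) (fun c : C => μ c) (ψ : C → ℂ))
    (h : LiesOver C (χ : T → ℂ) (ψ : C → ℂ)) : Over K μ (χ : T → ℂ) := by
  letI := Fintype.ofFinite K
  letI := Fintype.ofFinite C
  rcases over_or hμ hinv χ.2 with h1 | h1
  · exact h1
  · exfalso
    rw [liesOver_iff] at h
    apply h
    have h2 : (Nat.card K : ℂ) * ∑ c : C, (χ : T → ℂ) c * conj ((ψ : C → ℂ) c) = 0 := by
      have h3 : ∀ k : K, ∑ c : C, (χ : T → ℂ) c * conj ((ψ : C → ℂ) c) =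
          ∑ c : C, μ (k : T)⁻¹ * (χ : T → ℂ) (k * c) * conj ((ψ : C → ℂ) c) := by
        intro k
        symm
        have hkC : (k : T) ∈ C := hKC k.2
        have e : ∑ c : C, (χ : T → ℂ) ((⟨k, hkC⟩ : C) * c : C) * conj ((ψ : C → ℂ) (⟨k, hkC⟩ * c)) =
          ∑ c : C, (χ : T → ℂ) c * conj ((ψ : C → ℂ) c) :=
          Fintype.sum_equiv (Equiv.mulLeft (⟨k, hkC⟩ : C)) _ _ fun c => rfl
        rw [← e]
        refine Finset.sum_congr rfl fun c _ => ?_
        have h4 : (ψ : C → ℂ) (⟨k, hkC⟩ * c) = μ k * (ψ : C → ℂ) c :=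
          hψ ⟨k, hkC⟩ (Subgroup.mem_subgroupOf.2 k.2) c
        rw [h4, map_mul, hμ.conj k.2]
        show μ (k : T)⁻¹ * (χ : T → ℂ) (k * c) * _ = (χ : T → ℂ) (k * c) * _
        ring
      calc (Nat.card K : ℂ) * ∑ c : C, (χ : T → ℂ) c * conj ((ψ : C → ℂ) c)
          = ∑ k : K, ∑ c : C, (χ : T → ℂ) c * conj ((ψ : C → ℂ) c) := by
            rw [Finset.sum_const, nsmul_eq_mul, Finset.card_univ, Nat.card_eq_fintype_card]
        _ = ∑ k : K, ∑ c : C, μ (k : T)⁻¹ * (χ : T → ℂ) (k * c) * conj ((ψ : C → ℂ) c) :=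
            Finset.sum_congr rfl fun k _ => h3 k
        _ = ∑ c : C, (∑ k : K, μ (k : T)⁻¹ * (χ : T → ℂ) (k * c)) * conj ((ψ : C → ℂ) c) := by
            rw [Finset.sum_comm]
            exact Finset.sum_congr rfl fun c _ => by rw [Finset.sum_mul]
        _ = 0 := by
            refine Finset.sum_eq_zero fun c _ => ?_
            rw [h1 c, zero_mul]
    have hK0 : (Nat.card K : ℂ) ≠ 0 := by exact_mod_cast (Nat.card_pos (α := K)).ne'
    have h5 := (mul_eq_zero.1 h2).resolve_left hK0
    unfold classInner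
    rw [h5, mul_zero]

/-- an element commuting with an irreducibly acting subgroup is scalar -/
theorem scalar_of {χ : T → ℂ} (hχ : IsIrrCharacter T χ) (C : Subgroup T)
    (hC : IsIrrCharacter C (fun c : C => χ c)) {x : T}
    (hx : ∀ c ∈ C, χ (c * x * c⁻¹ * x⁻¹) = χ 1) : ∃ a : ℂ, ∀ g, χ (x * g) = a * χ g := by
  obtain ⟨n, ρ, hρ, rfl⟩ := hχ
  have hirr := H83.Gallagher.restrict_irreducible ρ C hC
  obtain ⟨a, ha⟩ := H83.Schur.scalar_of_commute (H83.Gallagher.resRep ρ C) hirr (ρ x) (by
    intro c
    have h1 := (rep_eq_one_iff ρ _).1 (hx c c.2)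
    rw [H83.Gallagher.resRep_apply]
    have h2 : (c : T) * x = (c * x * (c : T)⁻¹ * x⁻¹) * (x * c) := by group
    rw [← map_mul, ← map_mul, h2, map_mul ρ (c * x * (c : T)⁻¹ * x⁻¹) (x * c), h1, one_mul])
  refine ⟨a, fun g => ?_⟩
  show LinearMap.trace ℂ _ (ρ (x * g)) = a * LinearMap.trace ℂ _ (ρ g)
  rw [map_mul, ha, smul_mul_assoc, one_mul, map_smul, smul_eq_mul]

theorem charDegree_le_of_liesOver {C : Subgroup T} {χ : IrrCharacter T} {ψ : IrrCharacter C}
    (h : LiesOver C (χ : T → ℂ) (ψ : C → ℂ)) : charDegree (ψ : C → ℂ) ≤ charDegree (χ : T → ℂ) := by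
  letI := Fintype.ofFinite C
  rw [liesOver_iff] at h
  exact H82.Const.degree_le_of_constituent (isCharacter_restrict C (isCharacter_of_isIrr χ.2)) ψ.2 h

theorem eq_of_liesOver_of_le {C : Subgroup T} {χ : IrrCharacter T} {ψ : IrrCharacter C}
    (h : LiesOver C (χ : T → ℂ) (ψ : C → ℂ)) (hd : charDegree (χ : T → ℂ) ≤ charDegree (ψ : C → ℂ)) :
    (fun c : C => (χ : T → ℂ) c) = (ψ : C → ℂ) := by
  letI := Fintype.ofFinite C
  rw [liesOver_iff] at h
  exact H82.Const.eq_of_constituent_of_degree (isCharacter_restrict C (isCharacter_of_isIrr χ.2)) ψ.2 h hd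

end ovr

theorem rel (b : ℕ) : ∀ (m : ℕ) (T : Type u) [Group T] [Finite T] (K : Subgroup T) [K.Normal]
    (μ : T → ℂ), Nat.card T - Nat.card K ≤ m → IsLin K μ → (∀ t, ∀ k ∈ K, μ (t * k * t⁻¹) = μ k) →
    (∀ χ : IrrCharacter T, Over K μ (χ : T → ℂ) → charDegree (χ : T → ℂ) ≤ b) →
    ∃ Y : Subgroup T, K ≤ Y ∧ Nat.card T ≤ (b.factorial) ^ 2 * Nat.card Y ∧
      ∃ l : T → ℂ, IsLin Y l ∧ ∀ k ∈ K, l k = μ k := by
  classical
  induction b with
  | zero =>
    intro m T _ _ K _ μ _ hμ hinv hb
    letI := Fintype.ofFinite T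
    letI := Fintype.ofFinite (IrrCharacter T)
    exfalso
    have h1 := card_le hμ hinv hb
    have := Nat.card_pos (α := T)
    simp at h1
  | succ b ihb =>
    intro m
    induction m using Nat.strong_induction_on with
    | _ m ihm =>
      intro T _ _ K hKn μ hm hμ hinv hb
      letI := Fintype.ofFinite T
      letI := Fintype.ofFinite (IrrCharacter T)
      rcases exists_good hμ hinv hb with h1 | ⟨x, hxK, hgood, hcard⟩
      · refine ⟨K, le_refl _, h1.trans ?_, μ, hμ, fun k _ => rfl⟩
        have : b + 1 ≤ (b + 1).factorial := Nat.self_le_factorial _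
        gcongr
      · by_cases hA : ∃ χ : IrrCharacter T, Over K μ (χ : T → ℂ) ∧ ∃ c : ℂ, ∀ g, (χ : T → ℂ) (x * g) = c * (χ : T → ℂ) g
        · -- case A
          obtain ⟨χ, hχ, c, hc⟩ := hA
          have hχ1 : (χ : T → ℂ) 1 ≠ 0 := irr_one_ne_zero χ.2
          have hcl := isClassFunction_of_isIrr χ.2
          let Z : Subgroup T :=
            { carrier := {z | ∃ c : ℂ, ∀ g, (χ : T → ℂ) (z * g) = c * (χ : T → ℂ) g}
              one_mem' := ⟨1, fun g => by rw [one_mul, one_mul]⟩
              mul_mem' := by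
                rintro y z ⟨c1, h1⟩ ⟨c2, h2⟩
                exact ⟨c1 * c2, fun g => by rw [mul_assoc, h1, h2, mul_assoc]⟩
              inv_mem' := by
                rintro y ⟨c1, h1⟩
                have hc1 : c1 ≠ 0 := by
                  rintro rfl
                  have := h1 y⁻¹
                  rw [mul_inv_cancel, zero_mul] at this
                  exact hχ1 this
                refine ⟨c1⁻¹, fun g => ?_⟩
                have := h1 (y⁻¹ * g)
                rw [mul_inv_cancel_left] at this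
                rw [this, inv_mul_cancel_left₀ hc1] }
          have hZn : Z.Normal := by
            refine ⟨fun z hz t => ?_⟩
            obtain ⟨c1, h1⟩ := hz
            refine ⟨c1, fun g => ?_⟩
            have h2 : (χ : T → ℂ) (t * z * t⁻¹ * g) = (χ : T → ℂ) (z * (t⁻¹ * g * t)) := by
              have := hcl (z * (t⁻¹ * g * t)) t
              rw [← this]; congr 1; group
            rw [h2, h1]
            have := hcl (t⁻¹ * g * t) t
            rw [← this]; congr 2; group
          set l0 : T → ℂ := fun z => (χ : T → ℂ) z / (χ : T → ℂ) 1 with hl0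
          have hval : ∀ z ∈ Z, ∀ g, (χ : T → ℂ) (z * g) = l0 z * (χ : T → ℂ) g := by
            rintro z ⟨c1, h1⟩ g
            have h2 := h1 1
            rw [mul_one] at h2
            rw [h1 g, hl0]
            show _ = (χ : T → ℂ) z / (χ : T → ℂ) 1 * _
            rw [h2]
            field_simp
          have hKZ : K ≤ Z := fun k hk => ⟨μ k, fun g => hχ k hk g⟩
          have hlin : IsLin Z l0 := by
            refine ⟨by rw [hl0]; exact div_self hχ1, fun a ha b' hb' => ?_⟩
            show (χ : T → ℂ) (a * b') / (χ : T → ℂ) 1 = _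
            rw [hval a ha b', mul_div_assoc]
          have hlinv : ∀ t, ∀ k ∈ Z, l0 (t * k * t⁻¹) = l0 k := by
            intro t k _
            show (χ : T → ℂ) (t * k * t⁻¹) / (χ : T → ℂ) 1 = (χ : T → ℂ) k / (χ : T → ℂ) 1
            rw [hcl k t]
          have hlK : ∀ k ∈ K, l0 k = μ k := by
            intro k hk
            show (χ : T → ℂ) k / (χ : T → ℂ) 1 = μ k
            have := hχ k hk 1
            rw [mul_one] at this
            rw [this]; field_simp
          have hxZ : x ∈ Z := ⟨c, hc⟩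
          have hlt : Nat.card K < Nat.card Z := by
            by_contra h
            push Not at h
            have h2 : K = Z := by
              apply Subgroup.eq_of_le_of_card_ge hKZ h
            exact hxK (h2 ▸ hxZ)
          have hZT : Nat.card Z ≤ Nat.card T := Nat.le_of_dvd Nat.card_pos (Subgroup.card_subgroup_dvd_card _)
          obtain ⟨Y, hY1, hY2, l, hl1, hl2⟩ := ihm (Nat.card T - Nat.card Z) (by omega) T Z l0 (le_refl _) hlin hlinv
            (fun χ' hχ' => hb χ' (fun k hk g => by rw [hχ' k (hKZ hk) g, hlK k hk]))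
          exact ⟨Y, hKZ.trans hY1, hY2, l, hl1, fun k hk => by rw [hl2 k (hKZ hk), hlK k hk]⟩
        · -- case B
          set C := Cs K x with hC
          have hKC : K ≤ C := le_Cs x
          have hlin : IsLin (K.subgroupOf C) (fun c : C => μ c) := by
            refine ⟨hμ.1, fun a ha b' hb' => ?_⟩
            exact hμ.2 _ (Subgroup.mem_subgroupOf.1 ha) _ (Subgroup.mem_subgroupOf.1 hb')
          have hinv' : ∀ t : C, ∀ k ∈ K.subgroupOf C, (fun c : C => μ c) (t * k * t⁻¹) = (fun c : C => μ c) k :=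
            fun t k hk => hinv t k (Subgroup.mem_subgroupOf.1 hk)
          have hdeg : ∀ ψ : IrrCharacter C, Over (K.subgroupOf C) (fun c : C => μ c) (ψ : C → ℂ) →
              charDegree (ψ : C → ℂ) ≤ b := by
            intro ψ hψ
            obtain ⟨χ, hχ⟩ := exists_liesOver C ψ
            have h1 := over_of_liesOver C K hKC hμ hinv χ ψ hψ hχ
            have h2 := hb χ h1
            have h3 := charDegree_le_of_liesOver hχ
            by_contra h4
            push Not at h4
            have h5 : charDegree (χ : T → ℂ) ≤ charDegree (ψ : C → ℂ) := by omega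
            have h6 := eq_of_liesOver_of_le hχ h5
            apply hA
            refine ⟨χ, h1, scalar_of χ.2 C (by rw [h6]; exact ψ.2) (fun c hc => ?_)⟩
            have h7 := h1 _ hc 1
            rw [mul_one] at h7
            rw [h7, hgood c hc, one_mul]
          obtain ⟨Y, hY1, hY2, l, hl1, hl2⟩ := ihb _ C (K.subgroupOf C) (fun c : C => μ c) (le_refl _) hlin hinv' hdeg
          refine ⟨Y.map C.subtype, ?_, ?_, extendByZero C l, ?_, ?_⟩
          · intro k hk
            exact ⟨⟨k, hKC hk⟩, hY1 (Subgroup.mem_subgroupOf.2 hk), rfl⟩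
          · rw [Nat.card_congr (Subgroup.equivMapOfInjective Y C.subtype C.subtype_injective).toEquiv.symm]
            calc Nat.card T ≤ (b + 1) ^ 2 * Nat.card C := hcard
              _ ≤ (b + 1) ^ 2 * (b.factorial ^ 2 * Nat.card Y) := by gcongr
              _ = ((b + 1).factorial) ^ 2 * Nat.card Y := by rw [Nat.factorial_succ]; ring
          · refine ⟨?_, ?_⟩
            · rw [ext_mem C l C.one_mem]
              exact hl1.1
            · rintro _ ⟨a, ha, rfl⟩ _ ⟨b', hb', rfl⟩
              have h1 : C.subtype a * C.subtype b' = C.subtype (a * b') := rfl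
              rw [h1]
              show extendByZero C l ((a * b' : C) : T) = extendByZero C l (a : T) * extendByZero C l (b' : T)
              rw [ext_coe, ext_coe, ext_coe]
              exact hl1.2 a ha b' hb'
          · intro k hk
            rw [ext_mem C l (hKC hk)]
            exact hl2 ⟨k, hKC hk⟩ (Subgroup.mem_subgroupOf.2 hk)

end H80.IP3
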