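import Cfsg.Agent.Lib.H80.IP3

/-!
# Isaacs-Passman: vanishing off the core, the quotient by a normal subgroup with large degrees
-/

set_option autoImplicit false
set_option linter.unusedSectionVars false
set_option linter.unusedVariables false
set_option linter.style.haveILetI false

open Cfsg H18.CharBasic H18.CharOrtho H18.CharInd H18.CharQuot H82.Deg H82.Cliff H31.Clifford
open scoped ComplexConjugate commutatorElement

namespace H80.IP4

open H80.IP1 H80.IP2 H80.IP3

universe u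
variable {G : Type u} [Group G]

section core
variable [Fintype G] [Fintype (IrrCharacter G)] {n : ℕ}
  (hn : ∀ χ : IrrCharacter G, charDegree (χ : G → ℂ) ≤ n) (H : Subgroup G)
  {ψ : IrrCharacter H} (hψ : n ≤ charDegree (ψ : H → ℂ)) {χ : IrrCharacter G}
  (hχ : LiesOver H (χ : G → ℂ) (ψ : H → ℂ))

open Classical in
/-- the extensions of `ψ` -/
noncomputable def F (H : Subgroup G) (ψ : IrrCharacter H) : Finset (IrrCharacter G) :=
  Finset.univ.filter fun φ => (fun h : H => (φ : G → ℂ) h) = (ψ : H → ℂ)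

include hn hψ in
theorem res_eq {φ : IrrCharacter G} (hφ : LiesOver H (φ : G → ℂ) (ψ : H → ℂ)) :
    (fun h : H => (φ : G → ℂ) h) = (ψ : H → ℂ) :=
  eq_of_liesOver_of_le hφ ((hn φ).trans hψ)

include hn hψ hχ in
theorem ind_eq (g : G) : indFun H (fun _ => 1) g * (χ : G → ℂ) g = ∑ φ ∈ F H ψ, (φ : G → ℂ) g := by
  classical
  letI := Fintype.ofFinite H
  have h1 := indFun_mul_restrict H (fun _ => (1 : ℂ)) (isClassFunction_of_isIrr χ.2)
  have h2 : (fun x : H => (1 : ℂ) * (χ : G → ℂ) x) = (ψ : H → ℂ) := by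
    rw [← res_eq hn H hψ hχ]
    funext x; rw [one_mul]
  rw [h2] at h1
  have h3 := congrFun h1 g
  rw [Pi.mul_apply] at h3
  rw [← h3]
  have h4 := mem_classFun_expand (isClassFunction_indFun H (ψ : H → ℂ))
  rw [congrFun h4 g, Finset.sum_apply]
  have h5 : ∀ φ : IrrCharacter G, (classInner (indFun H (ψ : H → ℂ)) (φ : G → ℂ) • (φ : G → ℂ)) g =
      if (fun h : H => (φ : G → ℂ) h) = (ψ : H → ℂ) then (φ : G → ℂ) g else 0 := by
    intro φ
    rw [Pi.smul_apply, frobenius H _ (isClassFunction_of_isIrr φ.2)]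
    split_ifs with h
    · rw [h, inner_irr_self ψ.2, one_smul]
    · have h6 : classInner (ψ : H → ℂ) (fun x : H => (φ : G → ℂ) x) = 0 := by
        by_contra h7
        apply h
        apply res_eq hn H hψ
        rw [liesOver_iff]
        intro h8
        apply h7
        rw [← H18.CharOrtho.inner_conj_symm, h8, map_zero]
      rw [h6, zero_smul]
  rw [Finset.sum_congr rfl fun φ _ => h5 φ, ← Finset.sum_filter]
  refine Finset.sum_congr ?_ fun _ _ => rfl
  ext φ
  simp [F]

theorem mem_F {φ : IrrCharacter G} : φ ∈ F H ψ ↔ (fun h : H => (φ : G → ℂ) h) = (ψ : H → ℂ) := by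
  simp [F]

theorem mem_F_apply {φ : IrrCharacter G} (h : φ ∈ F H ψ) (x : H) : (φ : G → ℂ) x = (ψ : H → ℂ) x :=
  congrFun ((mem_F H).1 h) x

include hn hψ hχ in
theorem card_F : (H.index : ℂ) = (F H ψ).card := by
  have h1 := ind_eq hn H hψ hχ 1
  have h2 : ∀ φ ∈ F H ψ, (φ : G → ℂ) 1 = (ψ : H → ℂ) 1 := fun φ hφ => mem_F_apply H hφ 1
  have h3 : (χ : G → ℂ) 1 = (ψ : H → ℂ) 1 := congrFun (res_eq hn H hψ hχ) 1
  rw [Finset.sum_congr rfl h2, Finset.sum_const, nsmul_eq_mul, indFun_one, mul_one, h3] at h1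
  exact mul_right_cancel₀ (irr_one_ne_zero ψ.2) h1

/-- the permutation character is maximal only on the core -/
theorem mem_core_of_ind {g : G} (h : indFun H (fun _ => (1 : ℂ)) g = (H.index : ℂ)) :
    ∀ x : G, x⁻¹ * g * x ∈ H := by
  classical
  rw [indFun_apply] at h
  have h1 : ∑ x : G, extendByZero H (fun _ => (1 : ℂ)) (x⁻¹ * g * x) = (Nat.card G : ℂ) := by
    have h0 : (Nat.card H : ℂ) ≠ 0 := by exact_mod_cast (Nat.card_pos (α := H)).ne'
    rw [← Subgroup.card_mul_index H, Nat.cast_mul, ← h, mul_inv_cancel_left₀ h0]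
  have h2 : ∀ x : G, extendByZero H (fun _ => (1 : ℂ)) (x⁻¹ * g * x) =
      if x⁻¹ * g * x ∈ H then 1 else 0 := by
    intro x
    split_ifs with h3
    · rw [ext_mem H _ h3]
    · rw [ext_notMem H _ h3]
  rw [Finset.sum_congr rfl fun x _ => h2 x, ← Finset.sum_filter, Finset.sum_const, nsmul_eq_mul,
    mul_one] at h1
  have h3 : (Finset.univ.filter fun x : G => x⁻¹ * g * x ∈ H).card = Fintype.card G := by
    have : (Finset.univ.filter fun x : G => x⁻¹ * g * x ∈ H).card = Nat.card G := by exact_mod_cast h1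
    rw [this, Nat.card_eq_fintype_card]
  have h4 := (Finset.card_eq_iff_eq_univ _).1 h3
  intro x
  have : x ∈ Finset.univ.filter fun x : G => x⁻¹ * g * x ∈ H := by rw [h4]; exact Finset.mem_univ _
  exact (Finset.mem_filter.1 this).2

include hn hψ hχ in
/-- vanishing off the core -/
theorem mem_core_of_ne_zero {h : G} (hh : h ∈ H) (h0 : (χ : G → ℂ) h ≠ 0) : h ∈ H.normalCore := by
  have h1 := ind_eq hn H hψ hχ h
  have h2 : ∀ φ ∈ F H ψ, (φ : G → ℂ) h = (ψ : H → ℂ) ⟨h, hh⟩ := fun φ hφ => mem_F_apply H hφ ⟨h, hh⟩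
  have h3 : (χ : G → ℂ) h = (ψ : H → ℂ) ⟨h, hh⟩ := congrFun (res_eq hn H hψ hχ) ⟨h, hh⟩
  rw [Finset.sum_congr rfl h2, Finset.sum_const, nsmul_eq_mul, ← card_F hn H hψ hχ, ← h3] at h1
  have h4 := mem_core_of_ind H (mul_right_cancel₀ h0 h1)
  intro g
  have := h4 g⁻¹
  rwa [inv_inv] at this

include hn hψ hχ in
theorem mem_core_of_ker {y : G} (hy : ∀ φ ∈ F H ψ, (φ : G → ℂ) y = (φ : G → ℂ) 1) :
    y ∈ H.normalCore := by
  have h1 := ind_eq hn H hψ hχ y
  have h2 : ∀ φ ∈ F H ψ, (φ : G → ℂ) y = (ψ : H → ℂ) 1 := fun φ hφ => by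
    rw [hy φ hφ]; exact mem_F_apply H hφ 1
  have hχF : χ ∈ F H ψ := (mem_F H).2 (res_eq hn H hψ hχ)
  rw [Finset.sum_congr rfl h2, Finset.sum_const, nsmul_eq_mul, ← card_F hn H hψ hχ, h2 χ hχF] at h1
  have h4 := mem_core_of_ind H (mul_right_cancel₀ (irr_one_ne_zero ψ.2) h1)
  intro g
  have := h4 g⁻¹
  rwa [inv_inv] at this

include hn hψ hχ in
/-- `|H| ≤ n² |core|` -/
theorem card_le_core : Nat.card H ≤ n ^ 2 * Nat.card H.normalCore := by
  classical
  letI := Fintype.ofFinite H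
  have h1 := sum_norm_sq ψ
  have h2 : ∀ h : H, (ψ : H → ℂ) h = (χ : G → ℂ) h := fun h => (congrFun (res_eq hn H hψ hχ) h).symm
  have h3 : ∀ h : H, ‖(ψ : H → ℂ) h‖ ^ 2 ≤ if (h : G) ∈ H.normalCore then (n : ℝ) ^ 2 else 0 := by
    intro h
    split_ifs with h4
    · have h5 := char_norm_le (isCharacter_of_isIrr ψ.2) h
      rw [← coe_charDegree' ψ, Complex.natCast_re] at h5
      have h6 : (charDegree (ψ : H → ℂ) : ℝ) ≤ n := by
        exact_mod_cast (charDegree_le_of_liesOver hχ).trans (hn χ)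
      have h7 : ‖(ψ : H → ℂ) h‖ ≤ n := h5.trans h6
      gcongr
    · have : (χ : G → ℂ) h = 0 := by
        by_contra h5
        exact h4 (mem_core_of_ne_zero hn H hψ hχ h.2 h5)
      rw [h2, this]; simp
  have h4 : (Nat.card H : ℝ) ≤ n ^ 2 * Nat.card H.normalCore := by
    rw [← h1]
    refine (Finset.sum_le_sum fun h _ => h3 h).trans ?_
    rw [← Finset.sum_filter, Finset.sum_const, nsmul_eq_mul, mul_comm]
    have h5 : (Finset.univ.filter fun h : H => (h : G) ∈ H.normalCore).card ≤ Nat.card H.normalCore := by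
      rw [← Fintype.card_subtype, ← Nat.card_eq_fintype_card]
      exact Nat.card_le_card_of_injective
        (fun h : {h : H // (h : G) ∈ H.normalCore} => (⟨h.1, h.2⟩ : H.normalCore)) (by
          intro a b hab
          have : (a.1 : G) = b.1 := congrArg (fun z : H.normalCore => (z : G)) hab
          exact Subtype.ext (Subtype.ext this))
    gcongr
  exact_mod_cast h4

end core

/-- bad elements commute with their conjugates -/
theorem comm_mem [Finite G] {n : ℕ} (hn : ∀ χ : IrrCharacter G, charDegree (χ : G → ℂ) ≤ n) {x : G}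
    {ψ : IrrCharacter (Subgroup.centralizer ({x} : Set G))}
    (hψ : n ≤ charDegree (ψ : Subgroup.centralizer ({x} : Set G) → ℂ)) (g : G) :
    g * x * g⁻¹ * x⁻¹ ∈ Subgroup.centralizer ({x} : Set G) := by
  letI := Fintype.ofFinite G
  letI := Fintype.ofFinite (IrrCharacter G)
  obtain ⟨χ, hχ⟩ := exists_liesOver _ ψ
  refine Subgroup.normalCore_le _ (mem_core_of_ker hn _ hψ hχ (fun φ hφ => ?_))
  obtain ⟨a, ha⟩ := scalar_of φ.2 (Subgroup.centralizer ({x} : Set G)) (x := x)
    (by rw [(mem_F _).1 hφ]; exact ψ.2) (fun c hc => by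
      rw [Subgroup.mem_centralizer_singleton_iff] at hc
      congr 1
      rw [hc]; group)
  have hcl := isClassFunction_of_isIrr φ.2
  have h1 : (φ : G → ℂ) (g * x * g⁻¹ * x⁻¹) = (φ : G → ℂ) (x * (g⁻¹ * x⁻¹ * g)) := by
    have := hcl (x * (g⁻¹ * x⁻¹ * g)) g
    rw [← this]; congr 1; group
  have h2 : (φ : G → ℂ) (g⁻¹ * x⁻¹ * g) = (φ : G → ℂ) x⁻¹ := by
    have := hcl x⁻¹ g⁻¹
    rw [← this]; congr 1; group
  rw [h1, ha, h2, ← ha, mul_inv_cancel]

/-- a normal subgroup with a large degree has abelian quotient -/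
theorem commutator_le_of_degree [Finite G] {n : ℕ}
    (hn : ∀ χ : IrrCharacter G, charDegree (χ : G → ℂ) ≤ n) (N : Subgroup G) [hN : N.Normal]
    {θ : IrrCharacter N} (hθ : n < 2 * charDegree (θ : N → ℂ)) : commutator G ≤ N := by
  letI := Fintype.ofFinite G
  obtain ⟨χ, hχ⟩ := exists_liesOver N θ
  have h1 := degree_dvd_of_liesOver' N χ θ hχ
  have h2 := charDegree_pos χ
  have h3 := hn χ
  have h4 : charDegree (χ : G → ℂ) = charDegree (θ : N → ℂ) := by
    obtain ⟨k, hk⟩ := h1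
    rw [hk] at h2 h3 ⊢
    have hk1 : k = 1 := by
      have : 0 < k := Nat.pos_of_ne_zero (by rintro rfl; simp at h2)
      by_contra hne
      have h5 : 2 ≤ k := by omega
      have : charDegree (θ : N → ℂ) * 2 ≤ charDegree (θ : N → ℂ) * k := Nat.mul_le_mul_left _ h5
      omega
    rw [hk1, mul_one]
  have h5 := eq_of_liesOver_of_le hχ h4.le
  rw [commutator_def, Subgroup.commutator_le]
  intro a _ b _
  rw [← QuotientGroup.eq_one_iff]
  apply eq_one_of_forall_irr
  intro β hβ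
  -- β is linear
  have h6 := H83.Gallagher.isIrr_mul χ.2 N (by rw [h5]; exact θ.2) (isIrrCharacter_inflate N hβ) (by
    intro m hm
    show β (m : G ⧸ N) = β ((1 : G) : G ⧸ N)
    rw [(QuotientGroup.eq_one_iff m).2 hm, QuotientGroup.mk_one])
  have h7 := hn ⟨_, h6⟩
  have h8 : charDegree (fun g : G => β (g : G ⧸ N) * (χ : G → ℂ) g) = charDegree β * charDegree (χ : G → ℂ) := by
    apply charDegree_eq_of
    rw [QuotientGroup.mk_one, ← coe_charDegree (isCharacter_of_isIrr hβ), ← coe_charDegree' χ]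
    push_cast; rfl
  have h9 : charDegree β * charDegree (χ : G → ℂ) ≤ n := by rw [← h8]; exact h7
  have h10 : charDegree β = 1 := by
    have h11 := charDegree_pos ⟨β, hβ⟩
    by_contra hne
    have h12 : 2 ≤ charDegree β := by
      have : 0 < charDegree β := h11
      omega
    have : 2 * charDegree (χ : G → ℂ) ≤ charDegree β * charDegree (χ : G → ℂ) := Nat.mul_le_mul_right _ h12
    omega
  have h11 : β 1 = 1 := by rw [← coe_charDegree (isCharacter_of_isIrr hβ), h10, Nat.cast_one]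
  obtain ⟨f, rfl⟩ := exists_hom_of_degree_one (isCharacter_of_isIrr hβ) h11
  show (f ((⁅a, b⁆ : G) : G ⧸ N) : ℂ) = (f 1 : ℂ)
  have h12 : ((⁅a, b⁆ : G) : G ⧸ N) = ⁅(a : G ⧸ N), (b : G ⧸ N)⁆ := rfl
  rw [h12, map_commutatorElement, commutatorElement_eq_one_iff_mul_comm.2 (mul_comm _ _), map_one]

end H80.IP4
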