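import Cfsg.Agent.Lib.H80.IP4

/-!
# Isaacs-Passman: abelian subgroups of index at most `(n!)²`
-/

set_option autoImplicit false
set_option linter.unusedSectionVars false
set_option linter.unusedVariables false
set_option linter.style.haveILetI false

open Cfsg H18.CharBasic H18.CharOrtho H18.CharInd H18.CharQuot H82.Deg H82.Cliff H31.Clifford
open scoped ComplexConjugate commutatorElement

namespace H80.IP5

open H80.IP1 H80.IP2 H80.IP3 H80.IP4

universe u

/-! ### arithmetic -/

theorem fac_aux (k : ℕ) : ((k + 1).factorial) ^ 2 ≤ (2 * k + 1).factorial := by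
  induction k with
  | zero => simp
  | succ k ih =>
    have h1 : (2 * (k + 1) + 1).factorial = (2 * k + 3) * ((2 * k + 2) * (2 * k + 1).factorial) := by
      have : 2 * (k + 1) + 1 = (2 * k + 1) + 1 + 1 := by ring
      rw [this, Nat.factorial_succ, Nat.factorial_succ]
    have h2 : ((k + 1 + 1).factorial) ^ 2 = (k + 2) ^ 2 * ((k + 1).factorial) ^ 2 := by
      rw [Nat.factorial_succ]; ring
    rw [h1, h2]
    calc (k + 2) ^ 2 * ((k + 1).factorial) ^ 2 ≤ (k + 2) ^ 2 * (2 * k + 1).factorial := by gcongr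
      _ ≤ ((2 * k + 3) * (2 * k + 2)) * (2 * k + 1).factorial := by
          apply Nat.mul_le_mul_right
          nlinarith
      _ = _ := by ring

theorem fac_half {n : ℕ} (hn : 2 ≤ n) : n * ((n / 2).factorial) ^ 2 ≤ n.factorial := by
  obtain ⟨k, hk | hk⟩ : ∃ k, n = 2 * (k + 1) ∨ n = 2 * (k + 1) + 1 := ⟨n / 2 - 1, by omega⟩
  · subst hk
    have h1 : 2 * (k + 1) / 2 = k + 1 := by omega
    rw [h1]
    have h2 : (2 * (k + 1)).factorial = (2 * (k + 1)) * (2 * k + 1).factorial := by
      have : 2 * (k + 1) = (2 * k + 1) + 1 := by ring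
      rw [this, Nat.factorial_succ]
    rw [h2]
    exact Nat.mul_le_mul_left _ (fac_aux k)
  · subst hk
    have h1 : (2 * (k + 1) + 1) / 2 = k + 1 := by omega
    rw [h1, Nat.factorial_succ]
    apply Nat.mul_le_mul_left
    refine (fac_aux k).trans ?_
    exact Nat.factorial_le (by omega)

theorem sq_le_fac {n : ℕ} (hn : 4 ≤ n) : n ^ 2 ≤ n.factorial := by
  induction n, hn using Nat.le_induction with
  | base => decide
  | succ n hn ih =>
    rw [Nat.factorial_succ]
    have : n + 1 ≤ n.factorial := by nlinarith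
    nlinarith

theorem cube_le {n : ℕ} (hn : 3 ≤ n) : n ^ 3 * ((n / 2).factorial) ^ 2 ≤ (n.factorial) ^ 2 := by
  rcases Nat.eq_or_lt_of_le hn with h | h
  · subst h; decide
  · have h1 := fac_half (n := n) (by omega)
    have h2 := sq_le_fac (n := n) (by omega)
    calc n ^ 3 * ((n / 2).factorial) ^ 2 = n ^ 2 * (n * ((n / 2).factorial) ^ 2) := by ring
      _ ≤ n.factorial * n.factorial := Nat.mul_le_mul h2 h1
      _ = _ := by ring

/-! ### abelian subgroups of bounded index -/

/-- there is an abelian subgroup of index at most `f` -/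
def AB (G : Type u) [Group G] (f : ℕ) : Prop :=
  ∃ A : Subgroup G, (∀ x ∈ A, ∀ y ∈ A, x * y = y * x) ∧ A.index ≤ f

theorem AB.mono {G : Type u} [Group G] {f f' : ℕ} (h : AB G f) (hf : f ≤ f') : AB G f' := by
  obtain ⟨A, h1, h2⟩ := h
  exact ⟨A, h1, h2.trans hf⟩

theorem AB.of_sub {G : Type u} [Group G] (H : Subgroup G) {f : ℕ} (h : AB H f) :
    AB G (f * H.index) := by
  obtain ⟨A, h1, h2⟩ := h
  refine ⟨A.map H.subtype, ?_, ?_⟩
  · rintro _ ⟨a, ha, rfl⟩ _ ⟨b, hb, rfl⟩
    rw [← map_mul, h1 a ha b hb, map_mul]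
  · rw [Subgroup.index_map_subtype]
    exact Nat.mul_le_mul_right _ h2

theorem AB.of_sub_card {G : Type u} [Group G] [Finite G] (H : Subgroup G) {f e g : ℕ} (h : AB H f)
    (hc : Nat.card G ≤ e * Nat.card H) (hg : f * e ≤ g) : AB G g := by
  refine (AB.of_sub H h).mono (le_trans (Nat.mul_le_mul_left _ ?_) hg)
  rw [← Subgroup.card_mul_index H, mul_comm e] at hc
  exact Nat.le_of_mul_le_mul_left hc Nat.card_pos

/-- degrees bounded by `n` -/
def DB (G : Type u) [Group G] (n : ℕ) : Prop := ∀ χ : IrrCharacter G, charDegree (χ : G → ℂ) ≤ n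

section main
variable {G : Type u} [Group G] [Finite G] {n : ℕ}

/-- a noninvariant character of `K` forces small degrees over it -/
theorem degree_half (hn : DB G n) (K N : Subgroup G) [hK : K.Normal] [hN : N.Normal] (hKN : K ≤ N)
    {κ : G → ℂ} (hκ : ∃ g : G, ∃ k ∈ K, κ (g * k * g⁻¹) ≠ κ k) {θ : IrrCharacter N}
    (hθ : Over (K.subgroupOf N) (fun x : N => κ x) (θ : N → ℂ)) :
    charDegree (θ : N → ℂ) ≤ n / 2 := by
  letI := Fintype.ofFinite G
  obtain ⟨χ, hχ⟩ := exists_liesOver N θ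
  have h1 := degree_dvd_of_liesOver N χ θ hχ
  have h2 := Nat.le_of_dvd (charDegree_pos χ) h1
  have h3 := hn χ
  have h4 : 2 ≤ (inertia N (θ : N → ℂ)).index := by
    have h5 : (inertia N (θ : N → ℂ)).index ≠ 0 := Subgroup.index_ne_zero_of_finite
    have h6 : (inertia N (θ : N → ℂ)).index ≠ 1 := by
      intro h7
      rw [Subgroup.index_eq_one] at h7
      obtain ⟨g, k, hk, hne⟩ := hκ
      have h8 : g ∈ inertia N (θ : N → ℂ) := by rw [h7]; trivial
      rw [mem_inertia_iff] at h8
      have h9 := h8 ⟨k, hKN hk⟩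
      have h10 := hθ ⟨k, hKN hk⟩ (Subgroup.mem_subgroupOf.2 hk) 1
      have h11 := hθ ⟨g * k * g⁻¹, hN.conj_mem k (hKN hk) g⟩
        (Subgroup.mem_subgroupOf.2 (hK.conj_mem k hk g)) 1
      rw [mul_one] at h10 h11
      have h12 : κ (g * k * g⁻¹) * (θ : N → ℂ) 1 = κ k * (θ : N → ℂ) 1 := by
        rw [← h10, ← h11]
        exact h9
      exact hne (mul_right_cancel₀ (irr_one_ne_zero θ.2) h12)
    omega
  have h5 : 2 * charDegree (θ : N → ℂ) ≤ n := by
    calc 2 * charDegree (θ : N → ℂ) ≤ (inertia N (θ : N → ℂ)).index * charDegree (θ : N → ℂ) :=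
          Nat.mul_le_mul_right _ h4
      _ ≤ _ := h2
      _ ≤ n := h3
  omega

/-- the trick with the stabilizers of the characters of an abelian normal subgroup -/
theorem stab (hn2 : 2 ≤ n) (hn : DB G n)
    (ih : ∀ m < n, ∀ (H : Type u) [Group H] [Finite H], DB H m → AB H ((m.factorial) ^ 2))
    (K : Subgroup G) [hK : K.Normal] (l : K →* ℂˣ) :
    AB G ((n.factorial) ^ 2) ∨ commutator G ≤ inertia K (fun k : K => (l k : ℂ)) := by
  letI := Fintype.ofFinite G
  letI := Fintype.ofFinite (IrrCharacter G)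
  set T := inertia K (fun k : K => (l k : ℂ)) with hT
  have hTn : T.index ≤ n := by
    let θ : IrrCharacter K := ⟨fun k : K => (l k : ℂ), isIrrCharacter_of_hom l⟩
    obtain ⟨χ, hχ⟩ := exists_liesOver K θ
    have h1 := degree_dvd_of_liesOver K χ θ hχ
    have h2 : charDegree (θ : K → ℂ) = 1 := charDegree_eq_of (by
      show ((l 1 : ℂˣ) : ℂ) = _
      rw [map_one]; simp)
    rw [h2, mul_one] at h1
    exact (Nat.le_of_dvd (charDegree_pos χ) h1).trans (hn χ)
  have hTc : Nat.card G ≤ n * Nat.card T := by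
    rw [← Subgroup.card_mul_index T, mul_comm]
    exact Nat.mul_le_mul_right _ hTn
  by_cases hT1 : DB T (n - 1)
  · left
    refine AB.of_sub_card T (ih (n - 1) (by omega) T hT1) hTc ?_
    have h3 : n.factorial = n * (n - 1).factorial := (Nat.mul_factorial_pred (by omega)).symm
    rw [h3]
    nlinarith [Nat.factorial_pos (n - 1), sq_nonneg (n - 1).factorial,
      Nat.mul_le_mul_right ((n - 1).factorial ^ 2) (show n ≤ n ^ 2 by nlinarith)]
  · unfold DB at hT1
    push Not at hT1
    obtain ⟨ψ, hψ⟩ := hT1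
    have hψn : n ≤ charDegree (ψ : T → ℂ) := by omega
    obtain ⟨χ, hχ⟩ := exists_liesOver T ψ
    have h1 := card_le_core hn T hψn hχ
    by_cases hT0 : DB T.normalCore (n / 2)
    · left
      rcases Nat.eq_or_lt_of_le hn2 with h2 | h2
      · -- n = 2
        exfalso
        subst h2
        have hTnor : T.Normal := by
          have h3 : T.index ≠ 0 := Subgroup.index_ne_zero_of_finite
          rcases (show T.index = 1 ∨ T.index = 2 by omega) with h4 | h4
          · exact Subgroup.normal_of_index_eq_one h4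
          · exact Subgroup.normal_of_index_eq_two h4
        have h5 : T.normalCore = T := Subgroup.normalCore_eq_self T
        rw [h5] at hT0
        have := hT0 ψ
        omega
      · refine AB.of_sub_card T.normalCore (ih (n / 2) (by omega) _ hT0) (e := n * n ^ 2) ?_ ?_
        · calc Nat.card G ≤ n * Nat.card T := hTc
            _ ≤ n * (n ^ 2 * Nat.card T.normalCore) := Nat.mul_le_mul_left _ h1
            _ = _ := by ring
        · calc (n / 2).factorial ^ 2 * (n * n ^ 2) = n ^ 3 * ((n / 2).factorial) ^ 2 := by ring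
            _ ≤ _ := cube_le h2
    · right
      unfold DB at hT0
      push Not at hT0
      obtain ⟨θ, hθ⟩ := hT0
      exact (commutator_le_of_degree hn T.normalCore (θ := θ) (by omega)).trans (Subgroup.normalCore_le T)

end main

/-- scalars of the centre -/
theorem over_center {Y : Type u} [Group Y] [Finite Y] (ψ : IrrCharacter Y) (K : Subgroup Y)
    (hK : ∀ k ∈ K, ∀ y, k * y = y * k) :
    IsLin K (fun y => (ψ : Y → ℂ) y / (ψ : Y → ℂ) 1) ∧
      Over K (fun y => (ψ : Y → ℂ) y / (ψ : Y → ℂ) 1) (ψ : Y → ℂ) := by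
  have h1 : (ψ : Y → ℂ) 1 ≠ 0 := irr_one_ne_zero ψ.2
  have hov : Over K (fun y => (ψ : Y → ℂ) y / (ψ : Y → ℂ) 1) (ψ : Y → ℂ) := by
    intro k hk g
    have hirr : IsIrrCharacter (⊤ : Subgroup Y) (fun c : (⊤ : Subgroup Y) => (ψ : Y → ℂ) c) :=
      isIrrCharacter_comp (⊤ : Subgroup Y).subtype (fun y => ⟨⟨y, trivial⟩, rfl⟩) ψ.2
    obtain ⟨a, ha⟩ := scalar_of ψ.2 ⊤ hirr (x := k) (fun c _ => by
      have : c * k * c⁻¹ * k⁻¹ = 1 := by rw [← hK k hk c]; group
      rw [this])
    have h2 := ha 1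
    rw [mul_one] at h2
    rw [ha g]
    show _ = (ψ : Y → ℂ) k / (ψ : Y → ℂ) 1 * _
    rw [h2]; field_simp
  refine ⟨⟨div_self h1, fun a ha b hb => ?_⟩, hov⟩
  show (ψ : Y → ℂ) (a * b) / (ψ : Y → ℂ) 1 = _
  rw [hov a ha b, mul_div_assoc]

theorem isIrr_twist {Y : Type u} [Group Y] [Finite Y] (ψ : IrrCharacter Y) {l : Y → ℂ}
    (hl : IsLin ⊤ l) : IsIrrCharacter Y (fun y => l y * (ψ : Y → ℂ) y) := by
  letI := Fintype.ofFinite Y
  have hf : ∃ f : Y →* ℂˣ, ∀ y, (f y : ℂ) = l y := by
    refine ⟨{ toFun := fun y => Units.mk0 (l y) (hl.ne_zero trivial)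
              map_one' := by ext; exact hl.1
              map_mul' := fun a b => by ext; exact hl.2 a trivial b trivial }, fun y => rfl⟩
  obtain ⟨f, hf⟩ := hf
  have h1 := isIrrCharacter_of_hom f
  have h2 : (fun y => (f y : ℂ)) = l := funext hf
  rw [h2] at h1
  apply isIrr_of_norm_one (isCharacter_mul (isCharacter_of_isIrr h1) (isCharacter_of_isIrr ψ.2))
  have h3 := inner_irr_self ψ.2
  rw [← h3]
  unfold classInner
  congr 1
  refine Finset.sum_congr rfl fun y _ => ?_
  rw [Pi.mul_apply, map_mul, hl.conj trivial]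
  have := hl.mul_inv (a := y) trivial
  linear_combination ((ψ : Y → ℂ) y * conj ((ψ : Y → ℂ) y)) * this

end H80.IP5
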