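import Cfsg.Agent.Lib.H80.IP5

/-!
# Isaacs-Passman: the main theorem
-/

set_option autoImplicit false
set_option linter.unusedSectionVars false
set_option linter.unusedVariables false
set_option linter.style.haveILetI false

open Cfsg H18.CharBasic H18.CharOrtho H18.CharInd H18.CharQuot H82.Deg H82.Cliff H31.Clifford
open scoped ComplexConjugate commutatorElement

namespace H80.IP6

open H80.IP1 H80.IP2 H80.IP3 H80.IP4 H80.IP5

universe u

section
variable {G : Type u} [Group G] [Finite G] {n : ℕ}

/-- a homomorphism of an abelian normal subgroup separating from `1` -/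
theorem exists_hom (K : Subgroup G) (hab : ∀ a ∈ K, ∀ b ∈ K, a * b = b * a) {y : G} (hy : y ∈ K)
    (h1 : y ≠ 1) : ∃ l : K →* ℂˣ, l ⟨y, hy⟩ ≠ 1 := by
  apply exists_hom_ne_one
  have : commutator K = ⊥ := by
    rw [commutator_def, Subgroup.commutator_eq_bot_iff_le_centralizer]
    intro a _
    rw [Subgroup.mem_centralizer_iff]
    intro b _
    exact Subtype.ext (hab b b.2 a a.2)
  rw [this, Subgroup.mem_bot]
  intro h
  exact h1 (congrArg (fun z : K => (z : G)) h)

theorem isLin_ext (K : Subgroup G) (l : K →* ℂˣ) : IsLin K (extendByZero K (fun k : K => (l k : ℂ))) := by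
  refine ⟨?_, fun a ha b hb => ?_⟩
  · rw [ext_mem K _ K.one_mem]
    have : (⟨1, K.one_mem⟩ : K) = 1 := rfl
    rw [this, map_one]; rfl
  · rw [ext_mem K _ ha, ext_mem K _ hb, ext_mem K _ (K.mul_mem ha hb)]
    have : (⟨a * b, K.mul_mem ha hb⟩ : K) = ⟨a, ha⟩ * ⟨b, hb⟩ := rfl
    rw [this, map_mul]; rfl

/-- degree bound for a subgroup of the centralizer -/
theorem degree_Y (hn : DB G n) (K N : Subgroup G) [hK : K.Normal] [hN : N.Normal] (hKN : K ≤ N)
    (hcent : ∀ t ∈ N, ∀ k ∈ K, t * k * t⁻¹ = k) (Y : Subgroup N) (hKY : K.subgroupOf N ≤ Y)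
    (ψ : IrrCharacter Y) {κ : G → ℂ} (hlin : IsLin K κ)
    (hψ : Over ((K.subgroupOf N).subgroupOf Y) (fun y : Y => κ ((y : N) : G)) (ψ : Y → ℂ))
    (hκ : ∃ g : G, ∃ k ∈ K, κ (g * k * g⁻¹) ≠ κ k) : charDegree (ψ : Y → ℂ) ≤ n / 2 := by
  obtain ⟨θ, hθ⟩ := exists_liesOver Y ψ
  refine (charDegree_le_of_liesOver hθ).trans ?_
  refine degree_half hn K N hKN hκ ?_
  refine over_of_liesOver Y (K.subgroupOf N) hKY (μ := fun y : N => κ y) ?_ ?_ θ ψ hψ hθ
  · refine ⟨hlin.1, fun a ha b hb => ?_⟩
    exact hlin.2 _ (Subgroup.mem_subgroupOf.1 ha) _ (Subgroup.mem_subgroupOf.1 hb)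
  · intro t k hk
    show κ ((t : G) * k * (t : G)⁻¹) = κ k
    rw [hcent t t.2 k (Subgroup.mem_subgroupOf.1 hk)]

/-- all degrees of `Y` are small -/
theorem DB_Y (hn : DB G n) (K N : Subgroup G) [hK : K.Normal] [hN : N.Normal] (hKN : K ≤ N)
    (hcent : ∀ t ∈ N, ∀ k ∈ K, t * k * t⁻¹ = k) (Y : Subgroup N) (hKY : K.subgroupOf N ≤ Y)
    {μ : G → ℂ} (hμ : IsLin K μ) (hμn : ∃ g : G, ∃ k ∈ K, μ (g * k * g⁻¹) ≠ μ k)
    {l : N → ℂ} (hl : IsLin Y l) (hlK : ∀ k ∈ K.subgroupOf N, l k = μ k) : DB Y (n / 2) := by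
  intro ψ
  have hcY : ∀ k ∈ (K.subgroupOf N).subgroupOf Y, ∀ y : Y, k * y = y * k := by
    intro k hk y
    have h1 : ((k : N) : G) ∈ K := Subgroup.mem_subgroupOf.1 (Subgroup.mem_subgroupOf.1 hk)
    have h2 := hcent ((y : N) : G) (y : N).2 _ h1
    apply Subtype.ext
    apply Subtype.ext
    show ((k : N) : G) * ((y : N) : G) = ((y : N) : G) * ((k : N) : G)
    conv_lhs => rw [← h2]
    group
  obtain ⟨h1, h2⟩ := over_center ψ ((K.subgroupOf N).subgroupOf Y) hcY
  have hmem : ∀ k : K, (⟨(k : G), hKN k.2⟩ : N) ∈ Y := fun k => hKY (Subgroup.mem_subgroupOf.2 k.2)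
  set κ : G → ℂ := extendByZero K (fun k : K => (ψ : Y → ℂ) ⟨⟨k, hKN k.2⟩, hmem k⟩ / (ψ : Y → ℂ) 1) with hκ
  have hκv : ∀ y ∈ (K.subgroupOf N).subgroupOf Y, κ ((y : N) : G) = (ψ : Y → ℂ) y / (ψ : Y → ℂ) 1 := by
    intro y hy
    have h3 : ((y : N) : G) ∈ K := Subgroup.mem_subgroupOf.1 (Subgroup.mem_subgroupOf.1 hy)
    rw [hκ, ext_mem K _ h3]
  have hlin : IsLin K κ := by
    refine ⟨?_, fun a ha b hb => ?_⟩
    · have := hκv 1 (Subgroup.one_mem _)
      rw [show (((1 : Y) : N) : G) = 1 from rfl] at this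
      rw [this]
      exact h1.1
    · have ha' : (⟨⟨a, hKN ha⟩, hmem ⟨a, ha⟩⟩ : Y) ∈ (K.subgroupOf N).subgroupOf Y :=
        Subgroup.mem_subgroupOf.2 (Subgroup.mem_subgroupOf.2 ha)
      have hb' : (⟨⟨b, hKN hb⟩, hmem ⟨b, hb⟩⟩ : Y) ∈ (K.subgroupOf N).subgroupOf Y :=
        Subgroup.mem_subgroupOf.2 (Subgroup.mem_subgroupOf.2 hb)
      have h3 := hκv _ ha'
      have h4 := hκv _ hb'
      have h5 := hκv _ (Subgroup.mul_mem _ ha' hb')
      have h6 := h1.2 _ ha' _ hb'
      exact h5.trans (h6.trans (congrArg₂ (· * ·) h3.symm h4.symm))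
  have hov : Over ((K.subgroupOf N).subgroupOf Y) (fun y : Y => κ ((y : N) : G)) (ψ : Y → ℂ) := by
    intro k hk g
    rw [h2 k hk g]
    show _ = κ ((k : N) : G) * _
    rw [hκv k hk]
  by_cases hκn : ∃ g : G, ∃ k ∈ K, κ (g * k * g⁻¹) ≠ κ k
  · exact degree_Y hn K N hKN hcent Y hKY ψ hlin hov hκn
  · push Not at hκn
    have hlY : IsLin (⊤ : Subgroup Y) (fun y : Y => l y) :=
      ⟨hl.1, fun a _ b _ => hl.2 a a.2 b b.2⟩
    have h3 := isIrr_twist ψ hlY
    have h4 := degree_Y hn K N hKN hcent Y hKY ⟨_, h3⟩ (κ := fun g => μ g * κ g) ?_ ?_ ?_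
    · have h5 : charDegree (fun y : Y => l y * (ψ : Y → ℂ) y) = charDegree (ψ : Y → ℂ) := by
        unfold charDegree
        show ⌊(l 1 * (ψ : Y → ℂ) 1).re⌋₊ = _
        rw [hl.1, one_mul]
      rw [← h5]
      exact h4
    · refine ⟨?_, fun a ha b hb => ?_⟩
      · show μ 1 * κ 1 = 1
        rw [hμ.1, hlin.1, one_mul]
      · show μ (a * b) * κ (a * b) = (μ a * κ a) * (μ b * κ b)
        rw [hμ.2 a ha b hb, hlin.2 a ha b hb]; ring
    · intro k hk g
      show l ((k * g : Y) : N) * (ψ : Y → ℂ) (k * g) = (μ ((k : N) : G) * κ ((k : N) : G)) * (l g * (ψ : Y → ℂ) g)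
      have h6 := hov k hk g
      rw [h6]
      have h7 : l ((k * g : Y) : N) = l (k : N) * l (g : N) := hl.2 _ k.2 _ g.2
      rw [h7, hlK _ (Subgroup.mem_subgroupOf.1 hk)]
      ring
    · obtain ⟨g, k, hk, hne⟩ := hμn
      refine ⟨g, k, hk, ?_⟩
      show μ (g * k * g⁻¹) * κ (g * k * g⁻¹) ≠ μ k * κ k
      rw [hκn g k hk]
      intro h
      exact hne (mul_right_cancel₀ (hlin.ne_zero hk) h)

end

theorem main (n : ℕ) : ∀ (G : Type u) [Group G] [Finite G], DB G n → AB G ((n.factorial) ^ 2) := by
  classical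
  induction n using Nat.strong_induction_on with
  | _ n ih =>
    intro G _ _ hn
    letI := Fintype.ofFinite G
    letI := Fintype.ofFinite (IrrCharacter G)
    rcases exists_small_class hn with hZ | ⟨x, hxZ, hx⟩
    · refine ⟨⊤, fun a _ b _ => ?_, ?_⟩
      · have : a ∈ Subgroup.center G := by rw [hZ]; trivial
        exact ((Subgroup.mem_center_iff.1 this) b).symm
      · rw [Subgroup.index_top]
        exact Nat.one_le_iff_ne_zero.2 (pow_ne_zero 2 (Nat.factorial_ne_zero n))
    · set C := Subgroup.centralizer ({x} : Set G) with hC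
      have hn2 : 2 ≤ n := by
        by_contra h
        have h1 : n ^ 2 ≤ 1 := by
          have : n ≤ 1 := by omega
          calc n ^ 2 ≤ 1 ^ 2 := Nat.pow_le_pow_left this 2
            _ = 1 := one_pow 2
        have h2 : Nat.card G ≤ Nat.card C := hx.trans (by
          calc n ^ 2 * Nat.card C ≤ 1 * Nat.card C := Nat.mul_le_mul_right _ h1
            _ = _ := one_mul _)
        have h3 : C = ⊤ := Subgroup.eq_top_of_le_card C h2
        apply hxZ
        rw [Subgroup.mem_center_iff]
        intro g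
        have : g ∈ C := by rw [h3]; trivial
        rw [hC, Subgroup.mem_centralizer_singleton_iff] at this
        exact this
      by_cases hC1 : DB C (n - 1)
      · refine AB.of_sub_card C (ih (n - 1) (by omega) C hC1) hx ?_
        have h3 : n.factorial = n * (n - 1).factorial := (Nat.mul_factorial_pred (by omega)).symm
        rw [h3]
        exact le_of_eq (by ring)
      · unfold DB at hC1
        push Not at hC1
        obtain ⟨ψ, hψ⟩ := hC1
        have hcomm := comm_mem hn (x := x) (ψ := ψ) (by omega)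
        by_cases hAB : AB G ((n.factorial) ^ 2)
        · exact hAB
        exfalso
        -- the abelian normal subgroup
        set K : Subgroup G := Subgroup.normalClosure {x} with hKdef
        have hxK : x ∈ K := Subgroup.subset_normalClosure rfl
        have hcx : ∀ g : G, x * (g * x * g⁻¹) = g * x * g⁻¹ * x := by
          intro g
          have h1 := hcomm g
          rw [Subgroup.mem_centralizer_singleton_iff] at h1
          calc x * (g * x * g⁻¹) = x * (g * x * g⁻¹ * x⁻¹) * x := by group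
            _ = (g * x * g⁻¹ * x⁻¹ * x) * x := by rw [← h1]
            _ = g * x * g⁻¹ * x := by group
        have hconj : ∀ g h : G, g * x * g⁻¹ * (h * x * h⁻¹) = h * x * h⁻¹ * (g * x * g⁻¹) := by
          intro g h
          have h1 := hcx (g⁻¹ * h)
          have h2 : g * (x * (g⁻¹ * h * x * (g⁻¹ * h)⁻¹)) * g⁻¹ = g * (g⁻¹ * h * x * (g⁻¹ * h)⁻¹ * x) * g⁻¹ := by
            rw [h1]
          calc g * x * g⁻¹ * (h * x * h⁻¹) = g * (x * (g⁻¹ * h * x * (g⁻¹ * h)⁻¹)) * g⁻¹ := by group
            _ = g * (g⁻¹ * h * x * (g⁻¹ * h)⁻¹ * x) * g⁻¹ := h2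
            _ = _ := by group
        have hset : ∀ a ∈ Group.conjugatesOfSet ({x} : Set G), ∃ g : G, a = g * x * g⁻¹ := by
          intro a ha
          rw [Group.mem_conjugatesOfSet_iff] at ha
          obtain ⟨y, hy, hc⟩ := ha
          rw [Set.mem_singleton_iff] at hy
          subst hy
          obtain ⟨g, hg⟩ := isConj_iff.1 hc
          exact ⟨g, hg.symm⟩
        have hK1 : ∀ a ∈ K, ∀ g : G, a * (g * x * g⁻¹) = g * x * g⁻¹ * a := by
          intro a ha g
          have h1 : K ≤ Subgroup.centralizer ({g * x * g⁻¹} : Set G) := by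
            rw [hKdef]
            unfold Subgroup.normalClosure
            rw [Subgroup.closure_le]
            intro b hb
            obtain ⟨h, rfl⟩ := hset b hb
            rw [SetLike.mem_coe, Subgroup.mem_centralizer_singleton_iff]
            exact hconj h g
          have := h1 ha
          rw [Subgroup.mem_centralizer_singleton_iff] at this
          exact this
        have hKab : ∀ a ∈ K, ∀ b ∈ K, a * b = b * a := by
          intro a ha b hb
          have h1 : K ≤ Subgroup.centralizer ({a} : Set G) := by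
            conv_lhs => rw [hKdef]
            unfold Subgroup.normalClosure
            rw [Subgroup.closure_le]
            intro c hc
            obtain ⟨h, rfl⟩ := hset c hc
            rw [SetLike.mem_coe, Subgroup.mem_centralizer_singleton_iff]
            exact (hK1 a ha h).symm
          have := h1 hb
          rw [Subgroup.mem_centralizer_singleton_iff] at this
          exact this.symm
        haveI hKn : K.Normal := by rw [hKdef]; infer_instance
        have hstab : ∀ l : K →* ℂˣ, commutator G ≤ inertia K (fun k : K => (l k : ℂ)) :=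
          fun l => (stab hn2 hn ih K l).resolve_left hAB
        -- the derived subgroup centralizes K
        have hcomK : ∀ c ∈ commutator G, ∀ k ∈ K, c * k * c⁻¹ = k := by
          intro c hc k hk
          by_contra hne
          have h1 : c * k * c⁻¹ * k⁻¹ ∈ K := K.mul_mem (hKn.conj_mem k hk c) (K.inv_mem hk)
          have h2 : c * k * c⁻¹ * k⁻¹ ≠ 1 := by
            intro h
            exact hne (mul_inv_eq_one.1 h)
          obtain ⟨l, hl⟩ := exists_hom K hKab h1 h2
          have h3 := hstab l hc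
          rw [mem_inertia_iff] at h3
          have h4 := h3 ⟨k, hk⟩
          apply hl
          have h5 : (⟨c * k * c⁻¹ * k⁻¹, h1⟩ : K) = ⟨c * k * c⁻¹, hKn.conj_mem k hk c⟩ * (⟨k, hk⟩ : K)⁻¹ := rfl
          rw [h5, map_mul, map_inv, mul_inv_eq_one]
          exact Units.ext h4
        set N : Subgroup G := Subgroup.centralizer (K : Set G) with hN
        haveI hNn : N.Normal := by rw [hN]; infer_instance
        have hCN : C ≤ N := by
          intro c hc
          rw [hC, Subgroup.mem_centralizer_singleton_iff] at hc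
          have h1 : K ≤ Subgroup.centralizer ({c} : Set G) := by
            conv_lhs => rw [hKdef]
            unfold Subgroup.normalClosure
            rw [Subgroup.closure_le]
            intro b hb
            obtain ⟨g, rfl⟩ := hset b hb
            rw [SetLike.mem_coe, Subgroup.mem_centralizer_singleton_iff]
            have h2 : ⁅c⁻¹, g⁻¹⁆ ∈ commutator G := by
              rw [commutator_def]
              exact Subgroup.commutator_mem_commutator trivial trivial
            have h3 := hcomK _ h2 x hxK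
            have h4 : c * g = g * c * ⁅c⁻¹, g⁻¹⁆ := by
              rw [commutatorElement_def]; group
            have h5 : c * (g * x * g⁻¹) * c⁻¹ = g * x * g⁻¹ := by
              calc c * (g * x * g⁻¹) * c⁻¹ = (c * g) * x * (c * g)⁻¹ := by group
                _ = (g * c) * (⁅c⁻¹, g⁻¹⁆ * x * ⁅c⁻¹, g⁻¹⁆⁻¹) * (g * c)⁻¹ := by rw [h4]; group
                _ = g * (c * x) * c⁻¹ * g⁻¹ := by rw [h3]; group
                _ = g * x * g⁻¹ := by rw [hc]; group
            calc g * x * g⁻¹ * c = (c * (g * x * g⁻¹) * c⁻¹) * c := by rw [h5]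
              _ = c * (g * x * g⁻¹) := by group
          rw [hN, Subgroup.mem_centralizer_iff]
          intro k hk
          have := h1 hk
          rw [Subgroup.mem_centralizer_singleton_iff] at this
          exact this
        have hNC : Nat.card C ≤ Nat.card N := Nat.le_of_dvd Nat.card_pos (Subgroup.card_dvd_of_le hCN)
        have hGN : Nat.card G ≤ n ^ 2 * Nat.card N := hx.trans (Nat.mul_le_mul_left _ hNC)
        have hKN : K ≤ N := by
          intro k hk
          rw [hN, Subgroup.mem_centralizer_iff]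
          intro k' hk'
          exact hKab k' hk' k hk
        have hcent : ∀ t ∈ N, ∀ k ∈ K, t * k * t⁻¹ = k := by
          intro t ht k hk
          rw [hN, Subgroup.mem_centralizer_iff] at ht
          rw [← ht k hk]; group
        -- a noninvariant character
        have hng : ∃ g : G, g * x * g⁻¹ * x⁻¹ ≠ 1 := by
          by_contra h
          push Not at h
          apply hxZ
          rw [Subgroup.mem_center_iff]
          intro g
          have h1 := mul_inv_eq_one.1 (h g)
          exact mul_inv_eq_iff_eq_mul.1 h1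
        obtain ⟨g, hg⟩ := hng
        have hgK : g * x * g⁻¹ ∈ K := hKn.conj_mem x hxK g
        obtain ⟨l, hl⟩ := exists_hom K hKab (K.mul_mem hgK (K.inv_mem hxK)) hg
        set μ : G → ℂ := extendByZero K (fun k : K => (l k : ℂ)) with hμdef
        have hμ : IsLin K μ := isLin_ext K l
        have hμn : ∃ g : G, ∃ k ∈ K, μ (g * k * g⁻¹) ≠ μ k := by
          refine ⟨g, x, hxK, fun h => hl ?_⟩
          rw [hμdef, ext_mem K _ hgK, ext_mem K _ hxK] at h
          have h5 : (⟨g * x * g⁻¹ * x⁻¹, K.mul_mem hgK (K.inv_mem hxK)⟩ : K) =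
            ⟨g * x * g⁻¹, hgK⟩ * (⟨x, hxK⟩ : K)⁻¹ := rfl
          rw [h5, map_mul, map_inv, mul_inv_eq_one]
          exact Units.ext h
        obtain ⟨Y, hKY, hYc, l', hl', hl'K⟩ := rel (n / 2) _ N (K.subgroupOf N) (fun y : N => μ y) (le_refl _)
          ⟨hμ.1, fun a ha b hb => hμ.2 _ (Subgroup.mem_subgroupOf.1 ha) _ (Subgroup.mem_subgroupOf.1 hb)⟩
          (fun t k hk => by
            show μ ((t : G) * k * (t : G)⁻¹) = μ k
            rw [hcent t t.2 k (Subgroup.mem_subgroupOf.1 hk)])
          (fun θ hθ => degree_half hn K N hKN hμn hθ)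
        have hDBY : DB Y (n / 2) := DB_Y hn K N hKN hcent Y hKY hμ hμn hl' hl'K
        have hABY := ih (n / 2) (by omega) Y hDBY
        have hABN : AB N ((n / 2).factorial ^ 2 * (n / 2).factorial ^ 2) := AB.of_sub_card Y hABY hYc (le_refl _)
        apply hAB
        refine AB.of_sub_card N hABN hGN ?_
        have h6 := fac_half hn2
        calc (n / 2).factorial ^ 2 * (n / 2).factorial ^ 2 * n ^ 2 =
            (n * (n / 2).factorial ^ 2) ^ 2 := by ring
          _ ≤ _ := Nat.pow_le_pow_left h6 2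

end H80.IP6
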