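import Cfsg.Agent.Lib.H69.IC0
import Cfsg.Agent.Lib.H27.LBalTwo

/-! S1315, piece P3: 2-components of `C(t)` modulo the core lift. -/

set_option autoImplicit false
set_option linter.unusedSectionVars false

open Subgroup Cfsg H26.LocalFitting H69.IC
open scoped commutatorElement Pointwise

universe u

namespace H80.IcP3

variable {G : Type u} [Group G] [Finite G]

local instance instFactTwo : Fact (Nat.Prime 2) := ⟨Nat.prime_two⟩

theorem cent_z {H : Type u} [Group H] (t : H) :
    centralizer ((zpowers t : Subgroup H) : Set H) = centralizer ({t} : Set H) := by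
  rw [zpowers_eq_closure, centralizer_closure]

/-- coprime action -/
theorem map_cent {t : G} (ht : t * t = 1) :
    (centralizer ({t} : Set G)).map (QuotientGroup.mk' (pPrimeCore 2 G)) =
      centralizer ({(QuotientGroup.mk' (pPrimeCore 2 G)) t} : Set (G ⧸ pPrimeCore 2 G)) := by
  have hT : IsPGroup 2 (zpowers t) := by
    intro g
    obtain ⟨k, hk⟩ := Subgroup.mem_zpowers_iff.1 g.2
    refine ⟨1, Subtype.ext ?_⟩
    show (g : G) ^ 2 ^ 1 = 1
    rw [← hk, pow_one, ← zpow_natCast, ← zpow_mul, mul_comm, zpow_mul, zpow_natCast, pow_two, ht, one_zpow]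
  have h1 : ¬ 2 ∣ Nat.card (pPrimeCore 2 G) := by
    have := H1.Cores.coprime_card_pPrimeCore (p := 2) (G := G)
    rw [Nat.coprime_comm] at this
    exact (Nat.Prime.coprime_iff_not_dvd Nat.prime_two).1 this
  have h2 := H26.PxQ.map_centralizer_eq (A := zpowers t) (N := pPrimeCore 2 G) hT h1
  rw [cent_z, MonoidHom.map_zpowers, cent_z] at h2
  exact h2.symm

theorem lift {t : G} (ht : t * t = 1) {D : Subgroup (G ⧸ pPrimeCore 2 G)}
    (hD : IsPComponentOf 2 D (centralizer ({(QuotientGroup.mk' (pPrimeCore 2 G)) t} : Set _))) :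
    ∃ E : Subgroup G, IsPComponentOf 2 E (centralizer ({t} : Set G)) ∧
      E.map (QuotientGroup.mk' (pPrimeCore 2 G)) = D := by
  set q := QuotientGroup.mk' (pPrimeCore 2 G) with hq
  have hCm := map_cent ht
  rw [← hq] at hCm
  set C := centralizer ({t} : Set G) with hC
  rw [← hCm] at hD
  obtain ⟨hsn, hqs⟩ := H37.PCOf.pcOf_iff.1 hD
  set L := D.comap q ⊓ C with hL
  have hLm : L.map q = D := by
    apply le_antisymm
    · rintro _ ⟨x, hx, rfl⟩
      exact hx.1
    · intro d hd
      obtain ⟨x, hx, rfl⟩ := hsn.1 hd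
      exact ⟨x, ⟨hd, hx⟩, rfl⟩
  have hLC : L ≤ C := inf_le_right
  have hsnL : H37.PCOf.SN L C := by
    refine ⟨hLC, ?_⟩
    have h1 : ((D.subgroupOf (C.map q)).comap (q.subgroupMap C)).IsSubnormal := hsn.2.comap _
    have h2 : (D.subgroupOf (C.map q)).comap (q.subgroupMap C) = L.subgroupOf C := by
      ext x
      constructor
      · intro hx
        exact ⟨hx, x.2⟩
      · intro hx
        exact hx.1
    rwa [h2] at h1
  set E := H26.OPPrime.opp 2 L with hE
  have hEL : E ≤ L := H26.OPPrime.opp_le 2 L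
  have hEm : E.map q = D := by
    rw [hE, H26.OPPrime.map_opp, hLm, hqs.2]
  have hsnE : H37.PCOf.SN E C := (H37.PCOf.SN.of_normal hEL (H26.OPPrime.le_normalizer_opp 2 L)).trans hsnL
  refine ⟨E, H37.PCOf.pcOf_iff.2 ⟨hsnE, ?_, H26.OPPrime.opp_opp 2 L⟩, hEm⟩
  -- `E / O(E) ≅ D / O(D)`
  have hqD : IsQuasisimple (E.map q ⧸ pPrimeCore 2 (E.map q)) := by
    rw [hEm]; exact hqs.1
  set f := q.subgroupMap E with hfdef
  have hf : Function.Surjective f := q.subgroupMap_surjective E
  have hk : (Nat.card f.ker).Coprime 2 := by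
    have h1 : f.ker.map E.subtype ≤ pPrimeCore 2 G := by
      rintro _ ⟨x, hx, rfl⟩
      have h2 : ((f x : E.map q) : G ⧸ pPrimeCore 2 G) = 1 := by
        rw [MonoidHom.mem_ker.mp hx]; rfl
      exact (QuotientGroup.eq_one_iff _).mp h2
    rw [← card_map_of_injective E.subtype_injective]
    exact Nat.Coprime.coprime_dvd_left (card_dvd_of_le h1) (H1.Cores.coprime_card_pPrimeCore 2)
  have h1 := H13.CoresQuot.comap_pPrimeCore (p := 2) hf hk
  let g : E →* (E.map q ⧸ pPrimeCore 2 (E.map q)) := (QuotientGroup.mk' (pPrimeCore 2 (E.map q))).comp f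
  have hg : Function.Surjective g := (QuotientGroup.mk'_surjective _).comp hf
  have hgk : g.ker = pPrimeCore 2 E := by
    rw [← h1]
    ext x
    rw [MonoidHom.mem_ker, Subgroup.mem_comap]
    exact QuotientGroup.eq_one_iff _
  exact (H26.Quasisimple.mulEquiv_iff ((QuotientGroup.quotientMulEquivOfEq hgk.symm).trans
    (QuotientGroup.quotientKerEquivOfSurjective g hg))).mpr hqD

end H80.IcP3
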