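import Mathlib

set_option autoImplicit false
set_option linter.unusedSectionVars false
set_option linter.unusedVariables false

/-!
# Local summands of modules over an algebra with a normal nilpotent element
-/

namespace H80.ML1

variable {k Λ V : Type*} [Field k] [Ring Λ] [Algebra k Λ] [AddCommGroup V] [Module k V]
  [Module Λ V] [IsScalarTower k Λ V]

/-- normal elements -/
structure Nrm (y : Λ) : Prop where
  l : ∀ a : Λ, ∃ b, y * a = b * y
  r : ∀ a : Λ, ∃ b, a * y = y * b

lemma Nrm.pow {y : Λ} (h : Nrm y) (n : ℕ) : Nrm (y ^ n) := by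
  induction n with
  | zero => exact ⟨fun a => ⟨a, by simp⟩, fun a => ⟨a, by simp⟩⟩
  | succ n ih =>
    refine ⟨fun a => ?_, fun a => ?_⟩
    · obtain ⟨b, hb⟩ := h.l a
      obtain ⟨c, hc⟩ := ih.l b
      exact ⟨c, by rw [pow_succ, mul_assoc, hb, ← mul_assoc, hc, mul_assoc]⟩
    · obtain ⟨b, hb⟩ := ih.r a
      obtain ⟨c, hc⟩ := h.r b
      exact ⟨c, by rw [pow_succ, ← mul_assoc, hb, mul_assoc, hc, mul_assoc]⟩

/-- image under a normal element -/
def mp (y : Λ) (hy : Nrm y) (U : Submodule Λ V) : Submodule Λ V where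
  carrier := {v | ∃ u ∈ U, y • u = v}
  add_mem' := by
    rintro _ _ ⟨u, hu, rfl⟩ ⟨v, hv, rfl⟩
    exact ⟨u + v, U.add_mem hu hv, smul_add _ _ _⟩
  zero_mem' := ⟨0, U.zero_mem, smul_zero _⟩
  smul_mem' := by
    rintro a _ ⟨u, hu, rfl⟩
    obtain ⟨b, hb⟩ := hy.r a
    exact ⟨b • u, U.smul_mem _ hu, by rw [← mul_smul, ← mul_smul, hb]⟩

/-- preimage under a normal element -/
def cp (y : Λ) (hy : Nrm y) (W : Submodule Λ V) : Submodule Λ V where
  carrier := {v | y • v ∈ W}
  add_mem' := by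
    intro u v hu hv
    show y • (u + v) ∈ W
    rw [smul_add]; exact W.add_mem hu hv
  zero_mem' := by show y • (0 : V) ∈ W; rw [smul_zero]; exact W.zero_mem
  smul_mem' := by
    intro a u hu
    obtain ⟨b, hb⟩ := hy.l a
    show y • a • u ∈ W
    rw [← mul_smul, hb, mul_smul]
    exact W.smul_mem _ hu

lemma mem_mp {y : Λ} {hy : Nrm y} {U : Submodule Λ V} {v : V} :
    v ∈ mp y hy U ↔ ∃ u ∈ U, y • u = v := Iff.rfl

lemma mem_cp {y : Λ} {hy : Nrm y} {W : Submodule Λ V} {v : V} :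
    v ∈ cp y hy W ↔ y • v ∈ W := Iff.rfl

lemma smul_k (x : Λ) (c : k) (v : V) : x • c • v = c • x • v := by
  rw [← algebraMap_smul Λ c v, ← algebraMap_smul Λ c (x • v), ← mul_smul, ← mul_smul,
    Algebra.commutes]

variable (k) in
/-- multiplication on a submodule, `k`-linear -/
def ml (x : Λ) (U : Submodule Λ V) : U →ₗ[k] U where
  toFun u := x • u
  map_add' u v := smul_add _ _ _
  map_smul' c u := by
    apply Subtype.ext
    exact smul_k x c (u : V)

variable (k) in
lemma fd_sub [FiniteDimensional k V] (U : Submodule Λ V) : FiniteDimensional k U :=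
  Module.Finite.of_injective (LinearMap.restrictScalars k U.subtype) Subtype.val_injective

/-- **the main lemma**: a direct summand with a unique maximal submodule -/
theorem exists_local_summand [FiniteDimensional k V] [Nontrivial V] (x : Λ)
    (hnil : IsNilpotent x) (hx : Nrm x)
    (hss : ∀ A B : Submodule Λ V, A ≤ B → (∀ v ∈ B, x • v ∈ A) → ∀ W, A ≤ W → W ≤ B →
      ∃ W', A ≤ W' ∧ W' ≤ B ∧ W ⊓ W' = A ∧ W ⊔ W' = B) :
    ∃ U V' : Submodule Λ V, IsCompl U V' ∧ ∃ K, K < U ∧ ∀ W, W < U → W ≤ K := by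
  classical
  have : IsArtinian Λ V := isArtinian_of_tower k inferInstance
  have : IsNoetherian Λ V := isNoetherian_of_tower k inferInstance
  have hex : ∃ n, ∀ v : V, x ^ n • v = 0 := by
    obtain ⟨n, hn⟩ := hnil
    exact ⟨n, fun v => by rw [hn, zero_smul]⟩
  obtain ⟨n, hn0, hnv, hnm⟩ : ∃ n, n ≠ 0 ∧ (∀ v : V, x ^ n • v = 0) ∧
      ∃ v : V, x ^ (n - 1) • v ≠ 0 := by
    have hne : Nat.find hex ≠ 0 := by
      intro h0
      have := Nat.find_spec hex
      rw [h0] at this
      obtain ⟨v, hv⟩ := exists_ne (0 : V)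
      exact hv (by simpa using this v)
    refine ⟨Nat.find hex, hne, Nat.find_spec hex, ?_⟩
    have := Nat.find_min hex (m := Nat.find hex - 1) (by omega)
    push Not at this
    exact this
  have hyN : Nrm (x ^ (n - 1)) := hx.pow _
  have hxy : ∀ v : V, x • x ^ (n - 1) • v = 0 := by
    intro v
    rw [← mul_smul, ← pow_succ', Nat.sub_add_cancel (Nat.one_le_iff_ne_zero.2 hn0)]
    exact hnv v
  have hyx : ∀ v : V, x ^ (n - 1) • x • v = 0 := by
    intro v
    rw [← mul_smul, ← pow_succ, Nat.sub_add_cancel (Nat.one_le_iff_ne_zero.2 hn0)]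
    exact hnv v
  -- a minimal submodule not killed by `x ^ (n - 1)`
  obtain ⟨U, ⟨u0, hu0, hu0'⟩, hUmin⟩ := (wellFounded_lt (α := Submodule Λ V)).has_min
    {U : Submodule Λ V | ∃ u ∈ U, x ^ (n - 1) • u ≠ 0}
    ⟨⊤, by obtain ⟨v, hv⟩ := hnm; exact ⟨v, Submodule.mem_top, hv⟩⟩
  set K : Submodule Λ V := U ⊓ cp (x ^ (n - 1)) hyN ⊥ with hKdef
  have hKU : K < U := by
    refine lt_of_le_of_ne inf_le_left ?_
    intro h
    rw [← h] at hu0
    exact hu0' ((Submodule.mem_bot Λ).1 (mem_cp.1 hu0.2))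
  have hloc : ∀ W, W < U → W ≤ K := by
    intro W hW
    refine le_inf hW.le ?_
    intro w hw
    show x ^ (n - 1) • w ∈ (⊥ : Submodule Λ V)
    by_contra hcon
    exact hUmin W ⟨w, hw, fun h => hcon (by rw [h]; exact (⊥ : Submodule Λ V).zero_mem)⟩ hW
  have hxUK : mp x hx U ≤ K := by
    rintro _ ⟨u, hu, rfl⟩
    refine ⟨U.smul_mem _ hu, ?_⟩
    show x ^ (n - 1) • x • u ∈ (⊥ : Submodule Λ V)
    rw [hyx]; exact Submodule.zero_mem _
  have hK : K = mp x hx U := by
    obtain ⟨K', h1, h2, h3, h4⟩ := hss (mp x hx U) U (hxUK.trans hKU.le)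
      (fun v hv => ⟨v, hv, rfl⟩) K hxUK hKU.le
    have h5 : K' = U := by
      by_contra hne
      have := hloc K' (lt_of_le_of_ne h2 hne)
      rw [sup_eq_left.2 this] at h4
      exact hKU.ne h4
    rw [h5, inf_eq_left.2 hKU.le] at h3
    exact h3
  -- the kernel of `x` on `U`
  have hker : ∀ u ∈ U, x • u = 0 → ∃ u' ∈ U, x ^ (n - 1) • u' = u := by
    have : FiniteDimensional k U := fd_sub k U
    have r1 := LinearMap.finrank_range_add_finrank_ker (ml k x U)
    have r2 := LinearMap.finrank_range_add_finrank_ker (ml k (x ^ (n - 1)) U)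
    have e1 : LinearMap.range (ml k x U) = LinearMap.ker (ml k (x ^ (n - 1)) U) := by
      ext w
      rw [LinearMap.mem_range, LinearMap.mem_ker]
      constructor
      · rintro ⟨u, rfl⟩
        exact Subtype.ext (hyx (u : V))
      · intro hw
        have hwK : (w : V) ∈ K := ⟨w.2, (Submodule.mem_bot Λ).2 (congrArg Subtype.val hw)⟩
        rw [hK] at hwK
        obtain ⟨u, hu, hu'⟩ := hwK
        exact ⟨⟨u, hu⟩, Subtype.ext hu'⟩
    have e2 : LinearMap.range (ml k (x ^ (n - 1)) U) ≤ LinearMap.ker (ml k x U) := by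
      rintro _ ⟨u, rfl⟩
      exact Subtype.ext (hxy (u : V))
    have e3 : LinearMap.range (ml k (x ^ (n - 1)) U) = LinearMap.ker (ml k x U) := by
      apply Submodule.eq_of_le_of_finrank_eq e2
      rw [e1] at r1
      omega
    intro u hu h0
    have : (⟨u, hu⟩ : U) ∈ LinearMap.ker (ml k x U) := Subtype.ext h0
    rw [← e3] at this
    obtain ⟨u', hu'⟩ := this
    exact ⟨u', u'.2, congrArg Subtype.val hu'⟩
  -- a maximal submodule meeting the socle trivially
  set T : Submodule Λ V := mp (x ^ (n - 1)) hyN U with hTdef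
  obtain ⟨V', hV'T, hV'max⟩ := (wellFounded_gt (α := Submodule Λ V)).has_min
    {W : Submodule Λ V | W ⊓ T = ⊥} ⟨⊥, bot_inf_eq _⟩
  have hxT : ∀ v ∈ T, x • v = 0 := by
    rintro _ ⟨u, hu, rfl⟩
    exact hxy u
  have hcp : ∀ v, x • v ∈ V' → v ∈ V' ⊔ T := by
    obtain ⟨W', h1, h2, h3, h4⟩ := hss V' (cp x hx V') (fun v hv => V'.smul_mem _ hv)
      (fun v hv => hv) (V' ⊔ T) le_sup_left
      (sup_le (fun v hv => V'.smul_mem _ hv) (fun v hv => by
        show x • v ∈ V'
        rw [hxT v hv]; exact V'.zero_mem))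
    have h5 : W' ⊓ T = ⊥ := by
      rw [Submodule.eq_bot_iff]
      rintro z ⟨hz1, hz2⟩
      have h6 : z ∈ V' := by
        rw [← h3]
        exact ⟨Submodule.mem_sup_right hz2, hz1⟩
      have h7 : z ∈ V' ⊓ T := ⟨h6, hz2⟩
      rw [hV'T] at h7
      exact (Submodule.mem_bot _).1 h7
    have h6 : W' = V' := by
      by_contra hne
      exact hV'max W' h5 (lt_of_le_of_ne h1 (Ne.symm hne))
    intro v hv
    have h7 : v ∈ V' ⊔ T ⊔ W' := by rw [h4]; exact hv
    rw [h6, sup_assoc, sup_comm T V', ← sup_assoc, sup_idem] at h7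
    exact h7
  have hcod : ∀ i, i ≤ n → ∀ w : V, x ^ i • w ∈ V' → w ∈ U ⊔ V' := by
    intro i
    induction i with
    | zero =>
      intro _ w hw
      rw [pow_zero, one_smul] at hw
      exact Submodule.mem_sup_right hw
    | succ i ih =>
      intro hi w hw
      rw [pow_succ', mul_smul] at hw
      obtain ⟨v', hv', t, ⟨u, hu, rfl⟩, h1⟩ := Submodule.mem_sup.1 (hcp _ hw)
      have h2 : x ^ (n - 1) = x ^ i * x ^ (n - 1 - i) := by
        rw [← pow_add]; congr 1; omega
      have h3 : x ^ i • (w - x ^ (n - 1 - i) • u) = v' := by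
        rw [smul_sub, ← mul_smul, ← h2, ← h1]; abel
      have h4 := ih (by omega) (w - x ^ (n - 1 - i) • u) (by rw [h3]; exact hv')
      have h5 : w = (w - x ^ (n - 1 - i) • u) + x ^ (n - 1 - i) • u := by abel
      rw [h5]
      exact Submodule.add_mem _ h4 (Submodule.mem_sup_left (U.smul_mem _ hu))
  refine ⟨U, V', ⟨?_, ?_⟩, K, hKU, hloc⟩
  · rw [Submodule.disjoint_def]
    intro w hw hw'
    by_contra hne
    -- the last nonzero power
    have hex' : ∃ j, x ^ j • w = 0 := ⟨n, hnv w⟩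
    have hj0 : Nat.find hex' ≠ 0 := by
      intro h0
      have := Nat.find_spec hex'
      rw [h0, pow_zero, one_smul] at this
      exact hne this
    have hj := Nat.find_min hex' (m := Nat.find hex' - 1) (by omega)
    have hj1 : x • x ^ (Nat.find hex' - 1) • w = 0 := by
      rw [← mul_smul, ← pow_succ', Nat.sub_add_cancel (Nat.one_le_iff_ne_zero.2 hj0)]
      exact Nat.find_spec hex'
    obtain ⟨u', hu', h1⟩ := hker _ (U.smul_mem _ hw) hj1
    have h2 : x ^ (Nat.find hex' - 1) • w ∈ V' ⊓ T :=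
      ⟨V'.smul_mem _ hw', ⟨u', hu', h1⟩⟩
    rw [hV'T] at h2
    exact hj ((Submodule.mem_bot _).1 h2)
  · rw [codisjoint_iff, eq_top_iff]
    intro w _
    exact hcod n le_rfl w (by rw [hnv]; exact V'.zero_mem)

end H80.ML1
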