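import Cfsg.Agent.Lib.H20.BrT5

set_option autoImplicit false
set_option linter.unusedSectionVars false
set_option linter.unusedVariables false
set_option linter.style.haveILetI false

/-!
# Simple modules and Wedderburn data
-/

namespace H80.ML9

open H20.BrT Matrix

universe u w

variable {k : Type u} {Λ : Type w} [Field k] [Ring Λ] [Algebra k Λ]

/-- the standard module -/
def SW (D : Dat k Λ) (i : Fin D.n) : Type u := Fin (D.d i) → k

variable (D : Dat k Λ) (i : Fin D.n)

noncomputable instance : AddCommGroup (SW D i) := inferInstanceAs (AddCommGroup (Fin (D.d i) → k))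
noncomputable instance : Module k (SW D i) := inferInstanceAs (Module k (Fin (D.d i) → k))
instance : FiniteDimensional k (SW D i) := inferInstanceAs (FiniteDimensional k (Fin (D.d i) → k))

noncomputable instance : Module Λ (SW D i) where
  smul a v := (D.π a i).mulVec v
  one_smul v := by
    show (D.π 1 i).mulVec v = v
    rw [map_one]; exact Matrix.one_mulVec v
  mul_smul a b v := by
    show (D.π (a * b) i).mulVec v = (D.π a i).mulVec ((D.π b i).mulVec v)
    rw [map_mul]
    exact (Matrix.mulVec_mulVec _ _ _).symm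
  smul_zero a := Matrix.mulVec_zero _
  smul_add a v w := Matrix.mulVec_add _ _ _
  add_smul a b v := by
    show (D.π (a + b) i).mulVec v = (D.π a i).mulVec v + (D.π b i).mulVec v
    rw [map_add]
    exact Matrix.add_mulVec _ _ _
  zero_smul v := by
    show (D.π 0 i).mulVec v = 0
    rw [map_zero]
    exact Matrix.zero_mulVec _

variable {D i}

/-- to vectors -/
def toV (v : SW D i) : Fin (D.d i) → k := v

/-- from vectors -/
def ofV (v : Fin (D.d i) → k) : SW D i := v

lemma toV_ofV (v : Fin (D.d i) → k) : toV (ofV v : SW D i) = v := rfl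
lemma toV_inj {v w : SW D i} (h : toV v = toV w) : v = w := h
lemma toV_add (v w : SW D i) : toV (v + w) = toV v + toV w := rfl
lemma toV_zero : toV (0 : SW D i) = 0 := rfl
lemma smul_eq (a : Λ) (v : SW D i) : toV (a • v) = (D.π a i).mulVec (toV v) := rfl

instance : IsScalarTower k Λ (SW D i) := ⟨fun c a v => by
  apply toV_inj
  rw [smul_eq, map_smul]
  exact Matrix.smul_mulVec c _ _⟩

lemma exists_pre (D : Dat k Λ) (i : Fin D.n) (A : Matrix (Fin (D.d i)) (Fin (D.d i)) k) :
    ∃ a : Λ, D.π a = Pi.single i A := D.surj _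

lemma exists_smul {v : SW D i} (hv : v ≠ 0) (w : SW D i) : ∃ a : Λ, a • v = w := by
  obtain ⟨j, hj⟩ : ∃ j, toV v j ≠ 0 := by
    by_contra hcon
    push Not at hcon
    exact hv (toV_inj (funext hcon))
  obtain ⟨a, ha⟩ := exists_pre D i (vecMulVec (toV w) (Pi.single j (toV v j)⁻¹))
  refine ⟨a, toV_inj ?_⟩
  rw [smul_eq, ha, Pi.single_eq_same, Matrix.vecMulVec_mulVec]
  funext l
  have h1 : (Pi.single j (toV v j)⁻¹ : Fin (D.d i) → k) ⬝ᵥ toV v = 1 := by
    rw [single_dotProduct, inv_mul_cancel₀ hj]
  rw [h1]
  simp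

instance : Nontrivial (SW D i) := by
  have := D.hd i
  exact inferInstanceAs (Nontrivial (Fin (D.d i) → k))

instance : IsSimpleModule Λ (SW D i) := by
  refine (isSimpleModule_iff_toSpanSingleton_surjective).2 ⟨inferInstance, ?_⟩
  intro v hv w
  obtain ⟨a, ha⟩ := exists_smul hv w
  exact ⟨a, ha⟩

/-- the idempotents distinguish the standard modules -/
lemma E_smul (j : Fin D.n) (hij : j ≠ i) (v : SW D i) : D.E j • v = 0 := by
  apply toV_inj
  rw [smul_eq, D.πE, Pi.single_eq_of_ne hij.symm]
  exact Matrix.zero_mulVec _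

lemma exists_E_smul : ∃ v : SW D i, v ≠ 0 ∧ D.E i • v = v := by
  haveI := D.hd i
  refine ⟨ofV (Pi.single 0 1 : Fin (D.d i) → k), ?_, toV_inj ?_⟩
  · intro h
    have := congrFun (congrArg toV h) 0
    rw [toV_ofV, toV_zero] at this
    simp at this
  · rw [smul_eq, D.πE, Pi.single_eq_same, Matrix.vecMulVec_mulVec, toV_ofV]
    have h1 : (Pi.single 0 1 : Fin (D.d i) → k) ⬝ᵥ (Pi.single 0 1) = 1 := by
      rw [single_dotProduct, one_mul, Pi.single_eq_same]
    rw [h1]
    simp

theorem eq_of_iso {j : Fin D.n} (h : Nonempty (SW D i ≃ₗ[Λ] SW D j)) : i = j := by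
  obtain ⟨φ⟩ := h
  by_contra hne
  obtain ⟨v, hv, hE⟩ := exists_E_smul (D := D) (i := i)
  have h1 : φ v = 0 := by
    rw [← hE, map_smul, E_smul i hne]
  exact hv (φ.injective (by rw [h1, map_zero]))

section
variable {T : Type*} [AddCommGroup T] [Module Λ T] [IsSimpleModule Λ T]

lemma ker_smul {x : Λ} (hx : D.π x = 0) (t : T) : x • t = 0 := by
  by_contra hne
  obtain ⟨a, ha⟩ := (isSimpleModule_iff_toSpanSingleton_surjective.1
    (inferInstance : IsSimpleModule Λ T)).2 _ hne t
  have h1 : (a * x) • t = t := by rw [mul_smul]; exact ha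
  obtain ⟨n, hn⟩ := D.nil (a * x) (by rw [map_mul, hx, mul_zero])
  have h2 : ∀ m : ℕ, (a * x) ^ m • t = t := by
    intro m
    induction m with
    | zero => rw [pow_zero, one_smul]
    | succ m ih => rw [pow_succ, mul_smul, h1, ih]
  have h3 := h2 n
  rw [hn, zero_smul] at h3
  exact hne (by rw [← h3, smul_zero])

lemma smul_congr {x y : Λ} (h : D.π x = D.π y) (t : T) : x • t = y • t := by
  have := ker_smul (D := D) (x := x - y) (by rw [map_sub, h, sub_self]) t
  rw [sub_smul, sub_eq_zero] at this
  exact this

variable (D T) in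
/-- **classification of the simple modules** -/
theorem exists_iso : ∃ i, Nonempty (SW D i ≃ₗ[Λ] T) := by
  classical
  have hnt : Nontrivial T := IsSimpleModule.nontrivial Λ T
  obtain ⟨t, ht⟩ := exists_ne (0 : T)
  have hε : ∀ (q : (i : Fin D.n) × Fin (D.d i)), ∃ a : Λ, D.π a = Pi.single q.1
      (vecMulVec (Pi.single q.2 1) (Pi.single q.2 1)) := fun q => exists_pre D q.1 _
  choose ε hε' using hε
  have hsum : (∑ q, ε q) • t = t := by
    have : D.π (∑ q, ε q) = D.π 1 := by
      rw [map_sum, map_one]
      simp only [hε']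
      funext i
      rw [Fintype.sum_sigma, Finset.sum_apply, Finset.sum_eq_single i]
      · rw [Finset.sum_apply]
        simp only [Pi.single_eq_same]
        ext a b
        rw [Matrix.sum_apply, Pi.one_apply, Matrix.one_apply]
        simp only [vecMulVec_apply]
        by_cases hab : a = b
        · subst hab
          rw [Finset.sum_eq_single a]
          · simp
          · intro c _ hc; simp [Pi.single_eq_of_ne hc.symm]
          · intro h; exact absurd (Finset.mem_univ _) h
        · rw [if_neg hab]
          apply Finset.sum_eq_zero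
          intro c _
          by_cases hc : a = c
          · subst hc
            rw [Pi.single_eq_of_ne (Ne.symm hab), mul_zero]
          · rw [Pi.single_eq_of_ne hc, zero_mul]
      · intro j _ hj
        rw [Finset.sum_apply]
        apply Finset.sum_eq_zero
        intro l _
        exact Pi.single_eq_of_ne hj.symm _
      · intro h; exact absurd (Finset.mem_univ _) h
    rw [smul_congr this, one_smul]
  obtain ⟨⟨i, j⟩, hij⟩ : ∃ q, ε q • t ≠ 0 := by
    by_contra hcon
    push Not at hcon
    rw [Finset.sum_smul, Finset.sum_eq_zero (fun q _ => hcon q)] at hsum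
    exact ht hsum.symm
  refine ⟨i, ?_⟩
  have hA : ∀ v : SW D i, ∃ a : Λ, D.π a = Pi.single i (vecMulVec (toV v) (Pi.single j 1)) :=
    fun v => exists_pre D i _
  choose A hA' using hA
  let g : SW D i →ₗ[Λ] T :=
    { toFun := fun v => A v • ε ⟨i, j⟩ • t
      map_add' := fun v w => by
        rw [← add_smul]
        apply smul_congr (D := D)
        rw [map_add, hA', hA', hA', ← Pi.single_add, toV_add, add_vecMulVec]
      map_smul' := fun a v => by
        rw [RingHom.id_apply, ← mul_smul a]
        apply smul_congr (D := D)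
        rw [map_mul, hA', hA']
        funext l
        rw [Pi.mul_apply]
        by_cases hl : l = i
        · subst hl
          rw [Pi.single_eq_same, Pi.single_eq_same, Matrix.mul_vecMulVec]
          rfl
        · rw [Pi.single_eq_of_ne hl, Pi.single_eq_of_ne hl, mul_zero] }
  have hg : g ≠ 0 := by
    intro h
    have h1 : g (ofV (Pi.single j 1 : Fin (D.d i) → k)) = 0 := by rw [h]; rfl
    have h2 : g (ofV (Pi.single j 1 : Fin (D.d i) → k)) = ε ⟨i, j⟩ • t := by
      show A _ • ε ⟨i, j⟩ • t = _
      rw [← mul_smul]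
      apply smul_congr (D := D)
      rw [map_mul, hA', hε']
      funext l
      rw [Pi.mul_apply]
      show (Pi.single i (vecMulVec (Pi.single j 1) (Pi.single j 1)) : (i : Fin D.n) →
        Matrix (Fin (D.d i)) (Fin (D.d i)) k) l *
        (Pi.single i (vecMulVec (Pi.single j 1) (Pi.single j 1)) : (i : Fin D.n) →
        Matrix (Fin (D.d i)) (Fin (D.d i)) k) l = (Pi.single i (vecMulVec (Pi.single j 1)
          (Pi.single j 1)) : (i : Fin D.n) → Matrix (Fin (D.d i)) (Fin (D.d i)) k) l
      by_cases hl : l = i
      · subst hl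
        rw [Pi.single_eq_same, Matrix.vecMulVec_mul_vecMulVec]
        simp
      · rw [Pi.single_eq_of_ne hl, mul_zero]
    exact hij (h2 ▸ h1)
  exact ⟨LinearEquiv.ofBijective g (LinearMap.bijective_of_ne_zero hg)⟩

end

end H80.ML9
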