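import Cfsg.Agent.Lib.H80.ML8
import Cfsg.Agent.Lib.H80.ML9
import Cfsg.Agent.Lib.H80.GF

set_option autoImplicit false
set_option linter.unusedSectionVars false
set_option linter.unusedVariables false
set_option linter.style.haveILetI false

/-!
# The injection from simple modules of the local block to simple modules of the block
-/

namespace H80.ML10

open H80.GA H80.GB H80.GC H80.GF H80.ML1 H80.ML2 H80.ML3 H80.ML5 H80.ML6 H80.ML7 H80.ML8 H80.ML9
open MonoidAlgebra
open H20.BrT (Dat)
open scoped Pointwise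

universe v w

/-- restriction -/
def Rs {G : Type*} [Group G] (N : Subgroup G) (S : Type*) : Type _ := S

section rs
variable {k G : Type*} [Field k] [Group G] (N : Subgroup G) (S : Type*)
variable [AddCommGroup S] [Module k S] [Module (MonoidAlgebra k G) S]
  [IsScalarTower k (MonoidAlgebra k G) S]

instance : AddCommGroup (Rs N S) := inferInstanceAs (AddCommGroup S)
instance : Module k (Rs N S) := inferInstanceAs (Module k S)

noncomputable instance : Module (MonoidAlgebra k N) (Rs N S) :=
  Module.compHom S (inc k N.subtype).toRingHom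

instance [FiniteDimensional k S] : FiniteDimensional k (Rs N S) :=
  inferInstanceAs (FiniteDimensional k S)

instance [Nontrivial S] : Nontrivial (Rs N S) := inferInstanceAs (Nontrivial S)

variable {N S}

/-- underlying element -/
def toS (s : Rs N S) : S := s

/-- element of the restriction -/
def ofS (s : S) : Rs N S := s

lemma toS_smul (a : MonoidAlgebra k N) (s : Rs N S) :
    toS (a • s) = inc k N.subtype a • toS s := rfl

lemma inc_sg (n : N) : inc k N.subtype (sg k n) = sg k (n : G) := by
  rw [inc]; simp [sg]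

lemma toS_sg (n : N) (s : Rs N S) : toS (sg k n • s) = sg k (n : G) • toS s := by
  rw [toS_smul, inc_sg]

lemma toS_k (c : k) (s : Rs N S) : toS (c • s) = c • toS s := rfl

lemma toS_inj {s t : Rs N S} (h : toS s = toS t) : s = t := h

instance : IsScalarTower k (MonoidAlgebra k N) (Rs N S) := ⟨fun c a s => by
  apply toS_inj
  rw [toS_smul, toS_k, toS_smul, map_smul, smul_assoc]⟩

end rs

section top
variable {k G : Type*} [Field k] [Group G] [Finite G] {N : Subgroup G} [Fintype N]
variable {S : Type v} [AddCommGroup S] [Module k S] [Module (MonoidAlgebra k G) S]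
  [IsScalarTower k (MonoidAlgebra k G) S]

/-- the block part of the restriction -/
noncomputable def BV (S : Type v) [AddCommGroup S] [Module k S] [Module (MonoidAlgebra k G) S]
    [IsScalarTower k (MonoidAlgebra k G) S] (βN : MonoidAlgebra k N)
    (hc : ∀ a, βN * a = a * βN) : Submodule (MonoidAlgebra k N) (Rs N S) where
  carrier := {s | βN • s = s}
  add_mem' := fun {s t} h h' => by
    show βN • (s + t) = s + t
    rw [smul_add]; exact congrArg₂ (· + ·) h h'
  zero_mem' := smul_zero _
  smul_mem' := fun a s h => by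
    show βN • a • s = a • s
    rw [← mul_smul, hc, mul_smul]
    exact congrArg (a • ·) h

theorem top_iso [IsAlgClosed k] [FiniteDimensional k S] [IsSimpleModule (MonoidAlgebra k G) S]
    {T1 T2 : Type w} [AddCommGroup T1] [Module k T1]
    [Module (MonoidAlgebra k N) T1] [IsScalarTower k (MonoidAlgebra k N) T1] [AddCommGroup T2]
    [Module k T2] [Module (MonoidAlgebra k N) T2] [IsScalarTower k (MonoidAlgebra k N) T2]
    [IsSimpleModule (MonoidAlgebra k N) T1] [IsSimpleModule (MonoidAlgebra k N) T2]
    {D L : Subgroup G} (hDN : D ≤ N) (hNL : N ≤ L)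
    (h1 : ∀ g, g ∉ L → D ⊓ cs g D = ⊥) {a β : MonoidAlgebra k G} (ha : a ∈ Fx k D)
    (haN : a ∈ Sp k N) (hβ : β ∈ Fx k N) (hββ : β * β = β) (hβa : β * a = a)
    (hTr : Tr D N a = β) (h2 : ∀ g ∈ L, g ∉ N → β * cj g β = 0)
    {βN : MonoidAlgebra k N} (hβN : inc k N.subtype βN = β) (hc : ∀ a, βN * a = a * βN)
    (hD : ∀ (V : Type v) [AddCommGroup V] [Module k V] [Module (MonoidAlgebra k N) V]
      [IsScalarTower k (MonoidAlgebra k N) V] [FiniteDimensional k V] [Nontrivial V],
      (∀ v : V, βN • v = v) → Dec k (X := N) V)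
    (hT1 : ∀ t : T1, βN • t = t) (hT2 : ∀ t : T2, βN • t = t)
    (f1 : S →ₗ[k] T1) (hf1 : EqN (N := N) f1) (hf1' : ¬ IsTr (N := N) f1)
    (f2 : S →ₗ[k] T2) (hf2 : EqN (N := N) f2) (hf2' : ¬ IsTr (N := N) f2) :
    Nonempty (T1 ≃ₗ[MonoidAlgebra k N] T2) := by
  set V := BV S βN hc with hV
  have hVmem : ∀ s : S, (ofS (β • s) : Rs N S) ∈ V := by
    intro s
    show βN • (ofS (β • s) : Rs N S) = ofS (β • s)
    apply toS_inj
    rw [toS_smul, hβN]
    show β • β • s = β • s
    rw [← mul_smul, hββ]
  have hVβ : ∀ v : V, β • toS (v : Rs N S) = toS (v : Rs N S) := by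
    intro v
    have := congrArg toS (show βN • (v : Rs N S) = v from v.2)
    rw [toS_smul, hβN] at this
    exact this
  have hβsg : ∀ g ∈ N, β * sg k g = sg k g * β := fun g hg => comm_of_mem hβ (fun x hx => by
    classical
    have : x = g := by
      by_contra hne
      apply hx
      rw [MonoidAlgebra.coeff_single, Finsupp.single_eq_of_ne hne]
    rw [this]; exact hg)
  -- projection to the block part
  let pr : S →ₗ[k] V :=
    { toFun := fun s => ⟨ofS (β • s), hVmem s⟩
      map_add' := fun s t => Subtype.ext (smul_add β s t)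
      map_smul' := fun c s => Subtype.ext (smul_k' β c s) }
  have hprV : ∀ v : V, pr (toS (v : Rs N S)) = v := fun v => Subtype.ext (hVβ v)
  have hprg : ∀ (g : N) (s : S), pr (sg k (g : G) • s) = sg k g • pr s := by
    intro g s
    apply Subtype.ext
    apply toS_inj
    show β • sg k (g : G) • s = toS (sg k g • (ofS (β • s) : Rs N S))
    rw [toS_sg]
    show β • sg k (g : G) • s = sg k (g : G) • β • s
    rw [← mul_smul, hβsg _ g.2, mul_smul]
  -- maps to simple modules
  have key : ∀ {T : Type w} [AddCommGroup T] [Module k T] [Module (MonoidAlgebra k N) T]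
      [IsScalarTower k (MonoidAlgebra k N) T] (hT : ∀ t : T, βN • t = t) (f : S →ₗ[k] T)
      (hf : EqN (N := N) f) (hf' : ¬ IsTr (N := N) f),
      ∃ f' : V →ₗ[MonoidAlgebra k N] T, ¬ Pj f' := by
    intro T _ _ _ _ hT f hf hf'
    let fR : Rs N S →ₗ[k] T := f
    have hfR : ∀ (a : MonoidAlgebra k N) (s : Rs N S), fR (a • s) = a • fR s :=
      map_smul_of_comm fR (fun g s => by
        show f (toS (sg k g • s)) = _
        rw [toS_sg]; exact hf g s)
    refine ⟨{ toFun := fun v => fR v, map_add' := fun u v => by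
                show fR ((u : Rs N S) + v) = _
                rw [map_add]
              map_smul' := fun a v => hfR a v }, ?_⟩
    rintro ⟨θ, hθ⟩
    apply hf'
    refine ⟨θ ∘ₗ pr, fun s => ?_⟩
    have e1 : f s = fR (pr s : Rs N S) := by
      have e3 : fR (βN • (ofS s : Rs N S)) = βN • fR (ofS s) := hfR _ _
      rw [hT] at e3
      have e4 : (βN • (ofS s : Rs N S)) = (pr s : Rs N S) := by
        apply toS_inj
        rw [toS_smul, hβN]; rfl
      rw [e4] at e3
      exact e3.symm
    rw [e1]
    refine (hθ (pr s)).trans (Finset.sum_congr rfl fun n _ => ?_)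
    rw [LinearMap.comp_apply, ← Subgroup.coe_inv, hprg]
  obtain ⟨f1', hf1''⟩ := key hT1 f1 hf1 hf1'
  obtain ⟨f2', hf2''⟩ := key hT2 f2 hf2 hf2'
  have hfdV : FiniteDimensional k V := fd_sub k V
  refine H80.ML2.top_unique βN hD V
    (fun v => Subtype.ext (show βN • (v : Rs N S) = v from v.2)) ?_ f1' hf1'' f2' hf2''
  intro φ
  let f : S →ₗ[k] S :=
    { toFun := fun s => toS ((φ (pr s) : V) : Rs N S)
      map_add' := fun s t => by rw [map_add, map_add]; rfl
      map_smul' := fun c s => by
        rw [map_smul, show φ (c • pr s) = c • φ (pr s) from (lk φ).map_smul c _]; rfl }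
  have hff : ∀ g ∈ N, cjE k S g f = f := by
    intro g hg
    rw [cjE_eq_iff]
    intro s
    show toS ((φ (pr (sg k g • s)) : V) : Rs N S) = sg k g • toS ((φ (pr s) : V) : Rs N S)
    have := hprg ⟨g, hg⟩ s
    rw [show pr (sg k g • s) = sg k (⟨g, hg⟩ : N) • pr s from this, map_smul]
    show toS (sg k (⟨g, hg⟩ : N) • ((φ (pr s) : V) : Rs N S)) = _
    rw [toS_sg]
  obtain ⟨c, θ, hθ⟩ := endo hDN hNL h1 ha haN hβ hββ hβa hTr h2 f hff (fun s => hVβ _)
  refine ⟨c, ?_⟩
  let ιk : V →ₗ[k] S :=
    { toFun := fun v => toS (v : Rs N S)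
      map_add' := fun _ _ => rfl
      map_smul' := fun _ _ => rfl }
  refine ⟨pr ∘ₗ θ ∘ₗ ιk, fun v => ?_⟩
  have e5 : φ v = pr (f (toS (v : Rs N S))) := by
    show φ v = pr (toS ((φ (pr (toS (v : Rs N S))) : V) : Rs N S))
    rw [hprV, hprV]
  rw [LinearMap.sub_apply, smulMap_apply, LinearMap.id_apply, e5, hθ, hVβ, map_add, map_smul, hprV,
    add_sub_cancel_left, map_sum]
  refine Finset.sum_congr rfl fun g _ => ?_
  rw [hprg]
  show _ = sg k g • pr (θ (toS (sg k g⁻¹ • (v : Rs N S))))
  rw [toS_sg]
  rfl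

end top

end H80.ML10
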