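import Cfsg.Agent.Lib.H80.ML10

set_option autoImplicit false
set_option linter.unusedSectionVars false
set_option linter.unusedVariables false
set_option linter.style.haveILetI false

/-!
# Comparison of the numbers of simple modules
-/

namespace H80.ML11

open H80.GA H80.GB H80.GC H80.GF H80.ML1 H80.ML2 H80.ML3 H80.ML5 H80.ML6 H80.ML7 H80.ML8 H80.ML9
open H80.ML10
open MonoidAlgebra
open H20.BrT (Dat)
open scoped Pointwise

universe u w

section
variable {k : Type u} {Λ : Type w} [Field k] [Ring Λ] [Algebra k Λ] (D : Dat k Λ)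

theorem pi_central {b : Λ} (hc : ∀ a, b * a = a * b) (hb : b * b = b) (i : Fin D.n) :
    D.π b i = 0 ∨ D.π b i = 1 := by
  classical
  haveI := D.hd i
  have hcomm : ∀ X : Matrix (Fin (D.d i)) (Fin (D.d i)) k, D.π b i * X = X * D.π b i := by
    intro X
    obtain ⟨a, ha⟩ := D.surj (Pi.single i X)
    have h1 := congrArg (fun b => D.π b i) (hc a)
    simp only [map_mul, Pi.mul_apply, ha, Pi.single_eq_same] at h1
    exact h1
  obtain ⟨c, hc⟩ := Matrix.mem_range_scalar_of_commute_single (M := D.π b i) (fun a b _ => by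
    exact (hcomm _).symm)
  have hid : D.π b i * D.π b i = D.π b i := by
    rw [← Pi.mul_apply, ← map_mul, hb]
  rw [← hc] at hid ⊢
  rw [← map_mul] at hid
  have hcc : c * c = c := by
    have h2 := congrFun (congrFun hid 0) 0
    simpa using h2
  have hcc' : c * (c - 1) = 0 := by rw [mul_sub, hcc, mul_one, sub_self]
  rcases mul_eq_zero.1 hcc' with h | h
  · left; rw [h, map_zero]
  · right; rw [sub_eq_zero.1 h, map_one]

lemma smul_id {b : Λ} {i : Fin D.n} (h : D.π b i = 1) (v : SW D i) : b • v = v := by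
  apply toV_inj
  rw [H80.ML9.smul_eq, h, Matrix.one_mulVec]

lemma pi_ne_of_smul {b : Λ} {i : Fin D.n} (h : ∀ v : SW D i, b • v = v) : D.π b i ≠ 0 := by
  intro h0
  obtain ⟨v, hv⟩ := exists_ne (0 : SW D i)
  apply hv
  rw [← h v]
  apply toV_inj
  rw [H80.ML9.smul_eq, h0, Matrix.zero_mulVec]
  rfl

end

section
variable {k X : Type*} [Field k] [Group X] {T : Type*} [AddCommGroup T] [Module k T]
  [Module (MonoidAlgebra k X) T] [IsScalarTower k (MonoidAlgebra k X) T]

lemma smul_sum_coeff [Fintype X] (a : MonoidAlgebra k X) (t : T) :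
    a • t = ∑ g : X, a.coeff g • sg k g • t := by
  induction a using MonoidAlgebra.induction_linear with
  | zero =>
    rw [zero_smul]
    symm
    apply Finset.sum_eq_zero
    intro g _
    exact zero_smul k _
  | add f g hf hg =>
    rw [add_smul, hf, hg, ← Finset.sum_add_distrib]
    refine Finset.sum_congr rfl fun x _ => ?_
    rw [coeff_add', add_smul]
  | single g r =>
    have h1 : single g r = r • sg k g := by simp [sg]
    conv_lhs => rw [h1, smul_assoc]
    rw [Finset.sum_eq_single g]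
    · congr 1
      rw [MonoidAlgebra.coeff_single, Finsupp.single_eq_same]
    · intro x _ hx
      rw [MonoidAlgebra.coeff_single, Finsupp.single_eq_of_ne hx, zero_smul]
    · intro h; exact absurd (Finset.mem_univ g) h

end

section
variable {k : Type w} {G : Type u} [Field k] [Group G] [Finite G] {N : Subgroup G} [Fintype N]
variable {p : ℕ} [Fact p.Prime] [CharP k p]

/-- local data: the action of the block idempotent on local simple modules -/
theorem hpi {Z : Subgroup G} (hZN : Z ≤ N) (hNZ : N ≤ Subgroup.normalizer (Z : Set G))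
    (hpZ : Nat.card Z = p) {e β : MonoidAlgebra k G} (he : e ∈ Fx k (⊤ : Subgroup G))
    (hβ : β ∈ Sp k (Subgroup.centralizer (Z : Set G))) (hCN : Subgroup.centralizer (Z : Set G) ≤ N)
    (heβ : br k Z e * β = β) {βN : MonoidAlgebra k N} (hβN : inc k N.subtype βN = β)
    {T : Type w} [AddCommGroup T] [Module k T] [Module (MonoidAlgebra k N) T]
    [IsScalarTower k (MonoidAlgebra k N) T] [IsSimpleModule (MonoidAlgebra k N) T]
    (hT : ∀ t : T, βN • t = t) :
    (∀ t : T, ∑ n : N, e.coeff (n : G) • sg k n • t = t) ∧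
    ¬ ∃ θ : T →ₗ[k] T, ∀ t, t = ∑ n : N, sg k n • θ (sg k n⁻¹ • t) := by
  classical
  have hnt : Nontrivial T := IsSimpleModule.nontrivial (MonoidAlgebra k N) T
  have hp : p.Prime := Fact.out
  have hcyc : IsCyclic Z := isCyclic_of_prime_card hpZ
  obtain ⟨z, hz⟩ := hcyc.exists_generator
  have hZn : (Z.subgroupOf N).Normal := Subgroup.normal_subgroupOf_of_le_normalizer hNZ
  have hCn : ((Subgroup.centralizer (Z : Set G)).subgroupOf N).Normal := by
    refine Subgroup.normal_subgroupOf_of_le_normalizer ?_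
    intro x hx
    rw [mem_normalizer, cs_centralizer, mem_normalizer.1 (hNZ hx)]
  have hcard : p ∣ Nat.card (Z.subgroupOf N) := by
    rw [Nat.card_congr (Subgroup.subgroupOfEquivOfLe hZN).toEquiv, hpZ]
  set zN : N := ⟨z, hZN z.2⟩ with hzN
  have hact : ∀ (t : T), ∀ y ∈ Z.subgroupOf N, sg k y • t = t := by
    intro t
    refine trivial_act (p := p) hZn (z := zN) (m := 1) ?_ ?_ ?_ t
    · apply Subtype.ext
      have h1 : z ^ p = 1 := by rw [← hpZ]; exact pow_card_eq_one'
      rw [pow_one]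
      exact congrArg (fun y : Z => (y : G)) h1
    · intro y hy
      obtain ⟨n, hn⟩ := Subgroup.mem_zpowers_iff.1 (hz ⟨y, hy⟩)
      refine Subgroup.mem_zpowers_iff.2 ⟨n, Subtype.ext ?_⟩
      have := congrArg (fun y : Z => (y : G)) hn
      simpa using this
    · exact z.2
  refine ⟨fun t => ?_, id_not_tr (p := p) hcard (fun y hy t => hact t y hy)⟩
  have hstep := central_part (p := p) (T := T) hZn hcard (fun y hy t => hact t y hy)
    (C := (Subgroup.centralizer (Z : Set G)).subgroupOf N) ?_ hCn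
    (fun x => e.coeff (x : G)) ?_ t
  · rw [hstep]
    -- the C-part
    obtain ⟨eN, heN⟩ := exists_inc (k := k) (φ := N.subtype) N.subtype_injective
      (b := br k Z e) (by
        rw [Subgroup.range_subtype]
        exact Sp_mono hCN (br_mem_Sp Z e))
    have h1 : eN * βN = βN := by
      apply inc_injective (k := k) N.subtype_injective
      rw [map_mul, heN, hβN, heβ]
    have h2 : eN • t = t := by
      conv_lhs => rw [← hT t]
      rw [← mul_smul, h1, hT]
    conv_rhs => rw [← h2, smul_sum_coeff eN t]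
    refine Finset.sum_congr rfl fun n _ => ?_
    have h3 : eN.coeff n = (br k Z e).coeff (n : G) := by
      rw [← heN]
      exact (coeff_inc (k := k) N.subtype_injective eN n).symm
    rw [h3]
    by_cases hn : n ∈ (Subgroup.centralizer (Z : Set G)).subgroupOf N
    · rw [if_pos hn, coeff_br_of_mem (Subgroup.mem_subgroupOf.1 hn)]
    · rw [if_neg hn, coeff_br_of_not_mem (fun h => hn (Subgroup.mem_subgroupOf.2 h)), zero_smul]
  · intro x hx y hy hyx
    by_contra hne
    apply hx
    rw [Subgroup.mem_subgroupOf, Subgroup.mem_centralizer_iff]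
    -- y generates Z
    have hy' : (⟨(y : G), hy⟩ : Z) ≠ 1 := by
      intro h
      apply hne
      apply Subtype.ext
      exact congrArg (fun y : Z => (y : G)) h
    have hgen : ∀ g' : Z, g' ∈ Subgroup.zpowers (⟨(y : G), hy⟩ : Z) :=
      fun g' => mem_zpowers_of_prime_card hpZ hy'
    intro s hs
    obtain ⟨n, hn⟩ := Subgroup.mem_zpowers_iff.1 (hgen ⟨s, hs⟩)
    have hn' : (y : G) ^ n = s := by
      have := congrArg (fun y : Z => (y : G)) hn
      simpa using this
    have hcomm : Commute (y : G) (x : G) := congrArg (fun y : N => (y : G)) hyx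
    rw [← hn']
    exact (hcomm.zpow_left n).eq
  · intro x y hy
    show e.coeff ((y : G) * x * (y : G)⁻¹) = e.coeff (x : G)
    exact mem_Fx'.1 he _ (Subgroup.mem_top _) _

/-- **the number of simple modules of the local block is at most that of the block** -/
theorem card_le [IsAlgClosed k] {Z D : Subgroup G} (hZN : Z ≤ N)
    (hNZ : N ≤ Subgroup.normalizer (Z : Set G)) (hpZ : Nat.card Z = p)
    {e β : MonoidAlgebra k G} (he : e ∈ Fx k (⊤ : Subgroup G)) (hee : e * e = e)
    (hβC : β ∈ Sp k (Subgroup.centralizer (Z : Set G))) (hCN : Subgroup.centralizer (Z : Set G) ≤ N)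
    (heβ : br k Z e * β = β)
    (hDN : D ≤ N)
    (h1 : ∀ g, g ∉ Subgroup.normalizer (Z : Set G) → D ⊓ cs g D = ⊥) {a : MonoidAlgebra k G}
    (ha : a ∈ Fx k D)
    (haN : a ∈ Sp k N) (hβ : β ∈ Fx k N) (hββ : β * β = β) (hβa : β * a = a)
    (hTr : Tr D N a = β)
    (h2 : ∀ g ∈ Subgroup.normalizer (Z : Set G), g ∉ N → β * cj g β = 0)
    {βN : MonoidAlgebra k N} (hβN : inc k N.subtype βN = β) (hc : ∀ a, βN * a = a * βN)
    (hD : ∀ (V : Type w) [AddCommGroup V] [Module k V] [Module (MonoidAlgebra k N) V]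
      [IsScalarTower k (MonoidAlgebra k N) V] [FiniteDimensional k V] [Nontrivial V],
      (∀ v : V, βN • v = v) → Dec k (X := N) V)
    (DN : Dat k (MonoidAlgebra k N)) (DG : Dat k (MonoidAlgebra k G)) :
    Nat.card {i : Fin DN.n // DN.π βN i ≠ 0} ≤ Nat.card {j : Fin DG.n // DG.π e j ≠ 0} := by
  classical
  have hββN : βN * βN = βN := by
    apply inc_injective (k := k) N.subtype_injective
    rw [map_mul, hβN, hββ]
  have hT : ∀ i : {i : Fin DN.n // DN.π βN i ≠ 0}, ∀ t : SW DN i.1, βN • t = t := fun i =>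
    smul_id DN ((pi_central DN hc hββN i.1).resolve_left i.2)
  have key : ∀ i : {i : Fin DN.n // DN.π βN i ≠ 0}, ∃ j : {j : Fin DG.n // DG.π e j ≠ 0},
      ∃ f : SW DG j.1 →ₗ[k] SW DN i.1, EqN (N := N) f ∧ ¬ IsTr (N := N) f := by
    intro i
    obtain ⟨hπ, hid⟩ := hpi hZN hNZ hpZ he hβC hCN heβ hβN (T := SW DN i.1) (hT i)
    obtain ⟨V, _, _, _, _, _, f, hfe, hf, hf'⟩ := exists_map (N := N) (T := SW DN i.1) he hee hπ hid
    obtain ⟨S, _, _, _, _, _, _, f, hfe, hf, hf'⟩ := exists_simple (N := N) (T := SW DN i.1) e _ V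
      hfe rfl f hf hf'
    obtain ⟨j, ⟨φ⟩⟩ := exists_iso DG S
    refine ⟨⟨j, ?_⟩, f ∘ₗ lk φ.toLinearMap, ?_, ?_⟩
    · apply pi_ne_of_smul
      intro v
      apply φ.injective
      rw [map_smul, hfe]
    · intro n v
      show f (φ (sg k (n : G) • v)) = sg k n • f (φ v)
      rw [map_smul, hf]
    · rintro ⟨θ, hθ⟩
      apply hf'
      refine ⟨θ ∘ₗ lk φ.symm.toLinearMap, fun v => ?_⟩
      have h3 := hθ (φ.symm v)
      have h4 : (f ∘ₗ lk φ.toLinearMap) (φ.symm v) = f v := by
        show f (φ (φ.symm v)) = f v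
        rw [LinearEquiv.apply_symm_apply]
      rw [h4] at h3
      rw [h3]
      refine Finset.sum_congr rfl fun n _ => ?_
      show _ = sg k n • θ (φ.symm (sg k (n : G)⁻¹ • v))
      rw [map_smul φ.symm]
  choose J f hf hf' using key
  refine Nat.card_le_card_of_injective J ?_
  intro i1 i2 h12
  have h5 := hf i2
  have h6 := hf' i2
  obtain ⟨g2, hg2, hg2'⟩ : ∃ g2 : SW DG (J i1).1 →ₗ[k] SW DN i2.1,
      EqN (N := N) g2 ∧ ¬ IsTr (N := N) g2 := by
    rw [h12]; exact ⟨f i2, h5, h6⟩
  have h7 := top_iso (N := N) (S := SW DG (J i1).1) (T1 := SW DN i1.1) (T2 := SW DN i2.1) hDN hNZ h1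
    ha haN hβ hββ hβa hTr h2 hβN hc hD (hT i1) (hT i2) (f i1) (hf i1) (hf' i1) g2 hg2 hg2'
  exact Subtype.ext (eq_of_iso h7)

end

end H80.ML11
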