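import Cfsg.Agent.Lib.H80.ML9

set_option autoImplicit false
set_option linter.unusedSectionVars false
set_option linter.unusedVariables false
set_option linter.style.haveILetI false

/-!
# Algebras with one simple module and a long central nilpotent element
-/

namespace H80.ML12

open H20.BrT H80.ML9 Matrix

section
variable {Λ V : Type*} [Ring Λ] [AddCommGroup V] [Module Λ V]

theorem exists_killed [IsArtinian Λ V] [Nontrivial V] (K : Set Λ) (hK : ∀ x ∈ K, ∀ a, a * x ∈ K)
    (hnil : ∀ x ∈ K, IsNilpotent x) : ∃ v : V, v ≠ 0 ∧ ∀ x ∈ K, x • v = 0 := by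
  obtain ⟨S, hS, -⟩ := (IsAtomic.eq_bot_or_exists_atom_le (⊤ : Submodule Λ V)).resolve_left top_ne_bot
  obtain ⟨v, hv, hv0⟩ := (Submodule.ne_bot_iff S).1 hS.1
  refine ⟨v, hv0, fun x hx => ?_⟩
  by_contra hne
  have h1 : Submodule.span Λ {x • v} ≤ S := by
    rw [Submodule.span_le]
    rintro _ rfl
    exact S.smul_mem x hv
  have h2 : Submodule.span Λ {x • v} = S := by
    rcases hS.le_iff.1 h1 with h | h
    · exact absurd (Submodule.span_singleton_eq_bot.1 h) hne
    · exact h
  have h3 : v ∈ Submodule.span Λ {x • v} := by rw [h2]; exact hv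
  obtain ⟨a, ha⟩ := Submodule.mem_span_singleton.1 h3
  obtain ⟨n, hn⟩ := hnil _ (hK x hx a)
  rw [← mul_smul] at ha
  have h4 : ∀ m : ℕ, (a * x) ^ m • v = v := by
    intro m
    induction m with
    | zero => rw [pow_zero, one_smul]
    | succ m ih => rw [pow_succ, mul_smul, ha, ih]
  have := h4 n
  rw [hn, zero_smul] at this
  exact hv0 this.symm

end

universe u w

section
variable {k : Type u} {Λ : Type w} [Field k] [Ring Λ] [Algebra k Λ] [FiniteDimensional k Λ]
variable (D : Dat k Λ) (i : Fin D.n)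

/-- a nonzero ideal in the block of a single simple module is large -/
theorem ideal_dim {e : Λ} (he : ∀ j, j ≠ i → D.π e j = 0) (I : Submodule k Λ) (hI : I ≠ ⊥)
    (hl : ∀ a, ∀ v ∈ I, a * v ∈ I) (hr : ∀ a, ∀ v ∈ I, v * a ∈ I)
    (hel : ∀ v ∈ I, e * v = v) (her : ∀ v ∈ I, v * e = v) :
    D.d i * D.d i ≤ Module.finrank k I := by
  classical
  set K : Set Λ := {x | D.π x = 0} with hK
  -- step 1
  let IL : Submodule Λ Λ :=
    { carrier := I, add_mem' := I.add_mem, zero_mem' := I.zero_mem, smul_mem' := fun a v hv => hl a v hv }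
  have hILne : Nontrivial IL := by
    obtain ⟨v, hv, hv0⟩ := (Submodule.ne_bot_iff I).1 hI
    exact ⟨⟨⟨v, hv⟩, 0, fun h => hv0 (congrArg Subtype.val h)⟩⟩
  have hart : IsArtinian Λ Λ := isArtinian_of_tower k inferInstance
  obtain ⟨v, hv0, hv⟩ := exists_killed (V := IL) K
    (fun x hx a => by show D.π (a * x) = 0; rw [map_mul, hx, mul_zero]) (fun x hx => D.nil x hx)
  -- step 2
  let IR : Submodule Λᵐᵒᵖ Λ :=
    { carrier := {v | v ∈ I ∧ ∀ x ∈ K, x * v = 0}
      add_mem' := fun {a b} ha hb => ⟨I.add_mem ha.1 hb.1, fun x hx => by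
        rw [mul_add, ha.2 x hx, hb.2 x hx, add_zero]⟩
      zero_mem' := ⟨I.zero_mem, fun x _ => mul_zero x⟩
      smul_mem' := fun a v hv => ⟨hr _ _ hv.1, fun x hx => by
        show x * (v * a.unop) = 0
        rw [← mul_assoc, hv.2 x hx, zero_mul]⟩ }
  have hIRne : Nontrivial IR := by
    refine ⟨⟨⟨(v : Λ), v.2, fun x hx => ?_⟩, 0, fun h => hv0 ?_⟩⟩
    · exact congrArg Subtype.val (hv x hx)
    · apply Subtype.ext
      exact congrArg (fun z : IR => (z : Λ)) h
  have hart' : IsArtinian Λᵐᵒᵖ Λ := isArtinian_of_tower k inferInstance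
  obtain ⟨v, hv0, hv⟩ := exists_killed (V := IR) (MulOpposite.op '' K)
    (by
      rintro _ ⟨x, hx, rfl⟩ a
      refine ⟨x * a.unop, ?_, ?_⟩
      · show D.π (x * a.unop) = 0
        rw [map_mul, show D.π x = 0 from hx, zero_mul]
      · rw [MulOpposite.op_mul, MulOpposite.op_unop])
    (by
      rintro _ ⟨x, hx, rfl⟩
      obtain ⟨n, hn⟩ := D.nil x hx
      exact ⟨n, by rw [← MulOpposite.op_pow, hn]; rfl⟩)
  obtain ⟨v, hvI, hvl⟩ := v
  have hv0' : v ≠ 0 := fun h => hv0 (Subtype.ext h)
  have hvr : ∀ x ∈ K, v * x = 0 := fun x hx => congrArg Subtype.val (hv _ ⟨x, hx, rfl⟩)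
  -- step 3: matrix units
  have hε : ∀ (s t : Fin (D.d i)), ∃ a : Λ, D.π a = Pi.single i (Matrix.single s t 1) :=
    fun s t => exists_pre D i _
  choose ε hε using hε
  have hsum : D.π (e * ∑ s, ε s s) = D.π e := by
    rw [map_mul, map_sum]
    simp only [hε]
    funext j
    rw [Pi.mul_apply, Finset.sum_apply]
    by_cases hj : j = i
    · subst hj
      simp only [Pi.single_eq_same]
      have : ∑ s : Fin (D.d j), (Matrix.single s s 1 : Matrix (Fin (D.d j)) (Fin (D.d j)) k) = 1 := by
        ext a b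
        rw [Matrix.sum_apply, Matrix.one_apply]
        simp only [Matrix.single_apply]
        by_cases hab : a = b
        · subst hab
          simp
        · rw [if_neg hab]
          apply Finset.sum_eq_zero
          intro c _
          rw [if_neg]
          rintro ⟨rfl, rfl⟩
          exact hab rfl
      rw [this, mul_one]
    · rw [he j hj, zero_mul]
  have hsum' : D.π ((∑ s, ε s s) * e) = D.π e := by
    rw [map_mul, map_sum]
    simp only [hε]
    funext j
    rw [Pi.mul_apply, Finset.sum_apply]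
    by_cases hj : j = i
    · subst hj
      simp only [Pi.single_eq_same]
      have : ∑ s : Fin (D.d j), (Matrix.single s s 1 : Matrix (Fin (D.d j)) (Fin (D.d j)) k) = 1 := by
        ext a b
        rw [Matrix.sum_apply, Matrix.one_apply]
        simp only [Matrix.single_apply]
        by_cases hab : a = b
        · subst hab
          simp
        · rw [if_neg hab]
          apply Finset.sum_eq_zero
          intro c _
          rw [if_neg]
          rintro ⟨rfl, rfl⟩
          exact hab rfl
      rw [this, one_mul]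
    · rw [he j hj, mul_zero]
  have hcl : ∀ a b : Λ, D.π a = D.π b → ∀ w : Λ, (∀ x ∈ K, x * w = 0) → a * w = b * w := by
    intro a b hab w hw
    have := hw (a - b) (by show D.π (a - b) = 0; rw [map_sub, hab, sub_self])
    rw [sub_mul, sub_eq_zero] at this
    exact this
  have hcr : ∀ a b : Λ, D.π a = D.π b → ∀ w : Λ, (∀ x ∈ K, w * x = 0) → w * a = w * b := by
    intro a b hab w hw
    have := hw (a - b) (by show D.π (a - b) = 0; rw [map_sub, hab, sub_self])
    rw [mul_sub, sub_eq_zero] at this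
    exact this
  have hvs : (∑ s, ε s s) * v = v := by
    have h1 := hcl _ _ hsum' v hvl
    rw [mul_assoc, hel v hvI] at h1
    exact h1
  have hvs' : v * (∑ s, ε s s) = v := by
    have h1 := hcr _ _ hsum v hvr
    rw [← mul_assoc, her v hvI] at h1
    exact h1
  obtain ⟨s0, t0, hw⟩ : ∃ s0 t0, ε s0 s0 * v * ε t0 t0 ≠ 0 := by
    by_contra hcon
    push Not at hcon
    apply hv0'
    rw [← hvs', ← hvs, Finset.sum_mul, Finset.sum_mul]
    apply Finset.sum_eq_zero
    intro s _
    rw [Finset.mul_sum]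
    exact Finset.sum_eq_zero fun t _ => hcon s t
  -- the family
  let F : Fin (D.d i) × Fin (D.d i) → I := fun q =>
    ⟨ε q.1 s0 * v * ε t0 q.2, hr _ _ (hl _ _ hvI)⟩
  have hmul : ∀ s t s' t', ε s0 s' * (ε s s0 * v * ε t0 t) * ε t' t0 =
      if s' = s ∧ t = t' then ε s0 s0 * v * ε t0 t0 else 0 := by
    intro s t s' t'
    have e1 : ε s0 s' * (ε s s0 * v * ε t0 t) * ε t' t0 =
        ((ε s0 s' * ε s s0) * v) * (ε t0 t * ε t' t0) := by noncomm_ring
    have e2 : (ε s0 s' * ε s s0) * v = (if s' = s then ε s0 s0 else 0) * v := by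
      refine hcl _ _ ?_ v hvl
      rw [map_mul, hε, hε, ← Pi.single_mul]
      by_cases h : s' = s
      · rw [if_pos h, hε, ← h, Matrix.single_mul_single_same, mul_one]
      · rw [if_neg h, map_zero, Matrix.single_mul_single_of_ne _ _ _ _ h, Pi.single_zero]
    have e3 : ∀ w, (∀ x ∈ K, w * x = 0) → w * (ε t0 t * ε t' t0) =
        w * (if t = t' then ε t0 t0 else 0) := by
      intro w hw
      refine hcr _ _ ?_ w hw
      rw [map_mul, hε, hε, ← Pi.single_mul]
      by_cases h : t = t'
      · rw [if_pos h, hε, ← h, Matrix.single_mul_single_same, mul_one]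
      · rw [if_neg h, map_zero, Matrix.single_mul_single_of_ne _ _ _ _ h, Pi.single_zero]
    rw [e1, e2, e3]
    · by_cases h1 : s' = s
      · by_cases h2 : t = t'
        · rw [if_pos h1, if_pos h2, if_pos ⟨h1, h2⟩]
        · rw [if_neg h2, mul_zero, if_neg (fun h => h2 h.2)]
      · rw [if_neg h1, zero_mul, zero_mul, if_neg (fun h => h1 h.1)]
    · intro x hx
      rw [mul_assoc, hvr x hx, mul_zero]
  have hind : LinearIndependent k F := by
    rw [Fintype.linearIndependent_iff]
    intro c hc q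
    have h1 : ∑ q, c q • (F q : Λ) = 0 := by
      have := congrArg (Subtype.val) hc
      rw [AddSubmonoidClass.coe_finsetSum] at this
      exact this
    have h2 : ε s0 q.1 * (∑ q, c q • (F q : Λ)) * ε q.2 t0 = c q • (ε s0 s0 * v * ε t0 t0) := by
      rw [Finset.mul_sum, Finset.sum_mul, Finset.sum_eq_single q]
      · rw [mul_smul_comm, smul_mul_assoc]
        show c q • (ε s0 q.1 * (ε q.1 s0 * v * ε t0 q.2) * ε q.2 t0) = _
        rw [hmul, if_pos ⟨rfl, rfl⟩]
      · intro r _ hr
        rw [mul_smul_comm, smul_mul_assoc]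
        show c r • (ε s0 q.1 * (ε r.1 s0 * v * ε t0 r.2) * ε q.2 t0) = _
        rw [hmul, if_neg, smul_zero]
        rintro ⟨h3, h4⟩
        exact hr (Prod.ext h3.symm h4)
      · intro h; exact absurd (Finset.mem_univ q) h
    rw [h1, mul_zero, zero_mul] at h2
    rcases smul_eq_zero.1 h2.symm with h | h
    · exact h
    · exact absurd h hw
  have := hind.fintype_card_le_finrank
  simpa using this

end

end H80.ML12
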