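import Cfsg.Agent.Lib.H80.ML12
import Cfsg.Agent.Lib.H80.ML11

set_option autoImplicit false
set_option linter.unusedSectionVars false
set_option linter.unusedVariables false
set_option linter.style.haveILetI false

/-!
# The radical of a block with one simple module is generated by a central element
-/

namespace H80.ML13

open H20.BrT H80.ML9 H80.ML12 Matrix

universe u w

section
variable {k : Type u} {Λ : Type w} [Field k] [Ring Λ] [Algebra k Λ] (D : Dat k Λ)

theorem pi_central_nil {b : Λ} (hc : ∀ a, b * a = a * b) (hb : IsNilpotent b) (i : Fin D.n) :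
    D.π b i = 0 := by
  classical
  haveI := D.hd i
  have hcomm : ∀ X : Matrix (Fin (D.d i)) (Fin (D.d i)) k, D.π b i * X = X * D.π b i := by
    intro X
    obtain ⟨a, ha⟩ := D.surj (Pi.single i X)
    have h1 := congrArg (fun b => D.π b i) (hc a)
    simp only [map_mul, Pi.mul_apply, ha, Pi.single_eq_same] at h1
    exact h1
  obtain ⟨c, hc⟩ := Matrix.mem_range_scalar_of_commute_single (M := D.π b i) (fun a b _ => by
    exact (hcomm _).symm)
  obtain ⟨n, hn⟩ := hb
  have hid : (D.π b i) ^ n = 0 := by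
    rw [← Pi.pow_apply, ← map_pow, hn, map_zero]
    rfl
  rw [← hc, ← map_pow] at hid
  have hcc : c ^ n = 0 := by
    have h2 := congrFun (congrFun hid 0) 0
    simpa using h2
  have hc0 : c = 0 := by
    by_contra hne
    exact pow_ne_zero n hne hcc
  rw [← hc, hc0, map_zero]

variable [FiniteDimensional k Λ]

lemma fin_step {I J R : Submodule k Λ} (y : Λ) (hJI : J ≤ I) (hJ : ∀ v ∈ J, y * v = 0)
    (hR : ∀ w ∈ R, ∃ v ∈ I, y * v = w) :
    Module.finrank k J + Module.finrank k R ≤ Module.finrank k I := by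
  let g : I →ₗ[k] Λ := (LinearMap.mulLeft k y).domRestrict I
  have h1 := LinearMap.finrank_range_add_finrank_ker g
  have h2 : Module.finrank k R ≤ Module.finrank k (LinearMap.range g) := by
    apply Submodule.finrank_mono
    intro w hw
    obtain ⟨v, hv, hvw⟩ := hR w hw
    exact ⟨⟨v, hv⟩, hvw⟩
  have h3 : Module.finrank k J ≤ Module.finrank k (LinearMap.ker g) := by
    have h4 : Module.finrank k ((LinearMap.ker g).map I.subtype) = Module.finrank k (LinearMap.ker g) :=
      Submodule.finrank_map_subtype_eq _ _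
    rw [← h4]
    apply Submodule.finrank_mono
    intro v hv
    exact ⟨⟨v, hJI hv⟩, hJ v hv, rfl⟩
  omega

theorem ker_eq (i : Fin D.n) {e x : Λ} {q : ℕ} (hce : ∀ a, e * a = a * e) (hee : e * e = e)
    (he : ∀ j, j ≠ i → D.π e j = 0) (hei : D.π e i = 1) (hcx : ∀ a, x * a = a * x)
    (hex : e * x = x) (hnil : IsNilpotent x) (hq : x ^ q ≠ 0)
    (hdim : Module.finrank k (LinearMap.range (LinearMap.mulLeft k e)) ≤ (q + 1) * (D.d i * D.d i)) :
    ∀ a, e * a = a → D.π a i = 0 → ∃ a', a = x * a' := by
  classical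
  -- the nilpotency index
  obtain ⟨r, hr, hr1⟩ : ∃ r, x ^ r ≠ 0 ∧ x ^ (r + 1) = 0 := by
    have hex' : ∃ n, x ^ n = 0 := hnil
    have h0 : Nat.find hex' ≠ 0 := by
      intro h
      have := Nat.find_spec hex'
      rw [h, pow_zero] at this
      apply hq
      rw [← one_mul (x ^ q), this, zero_mul]
    refine ⟨Nat.find hex' - 1, Nat.find_min hex' (by omega), ?_⟩
    rw [Nat.sub_add_cancel (Nat.pos_of_ne_zero h0)]
    exact Nat.find_spec hex'
  have hqr : q ≤ r := by
    by_contra hcon
    push Not at hcon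
    apply hq
    obtain ⟨m, rfl⟩ := Nat.exists_eq_add_of_le (Nat.succ_le_of_lt hcon)
    rw [Nat.succ_eq_add_one, pow_add, hr1, zero_mul]
  let I : ℕ → Submodule k Λ := fun j => LinearMap.range (LinearMap.mulLeft k (x ^ j * e))
  have hI : ∀ j v, v ∈ I j ↔ ∃ a, x ^ j * e * a = v := fun j v => Iff.rfl
  have hI0 : I 0 = LinearMap.range (LinearMap.mulLeft k e) := by
    show LinearMap.range (LinearMap.mulLeft k (x ^ 0 * e)) = _
    rw [pow_zero, one_mul]
  have hIr : I r ≠ ⊥ := by
    intro h
    have : x ^ r * e * 1 ∈ I r := ⟨1, rfl⟩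
    rw [h, Submodule.mem_bot, mul_one] at this
    rcases r with _ | r
    · rw [pow_zero, one_mul] at this
      have h2 := hei
      rw [this, map_zero] at h2
      haveI := D.hd i
      exact zero_ne_one h2
    · apply hr
      rw [← this, pow_succ, mul_assoc, ← hce x, hex]
  have hxe : x * e = x := by rw [← hce, hex]
  have hdr : D.d i * D.d i ≤ Module.finrank k (I r) := by
    refine ideal_dim D i he (I r) hIr ?_ ?_ ?_ ?_
    · rintro a _ ⟨b, rfl⟩
      refine ⟨a * b, ?_⟩
      show x ^ r * e * (a * b) = a * (x ^ r * e * b)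
      have h1 : x ^ r * a = a * x ^ r := ((show Commute x a from hcx a).pow_left r).eq
      rw [← mul_assoc, ← mul_assoc, mul_assoc (x ^ r), hce a, ← mul_assoc, h1, mul_assoc a]
    · rintro a _ ⟨b, rfl⟩
      exact ⟨b * a, by
        show x ^ r * e * (b * a) = x ^ r * e * b * a
        rw [mul_assoc (x ^ r * e)]⟩
    · rintro _ ⟨b, rfl⟩
      show e * (x ^ r * e * b) = x ^ r * e * b
      rw [← mul_assoc, ← mul_assoc, hce (x ^ r), mul_assoc (x ^ r), hee]
    · rintro _ ⟨b, rfl⟩
      show x ^ r * e * b * e = x ^ r * e * b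
      rw [← hce, ← mul_assoc, ← mul_assoc, hce (x ^ r), mul_assoc (x ^ r), hee]
  have hstep : ∀ j, j ≤ r → Module.finrank k (I (j + 1)) + Module.finrank k (I r) ≤
      Module.finrank k (I j) := by
    intro j hj
    refine fin_step (x ^ (r - j)) ?_ ?_ ?_
    · rintro _ ⟨b, rfl⟩
      refine ⟨x * b, ?_⟩
      show x ^ j * e * (x * b) = x ^ (j + 1) * e * b
      rw [pow_succ, ← mul_assoc, mul_assoc (x ^ j), hex, mul_assoc (x ^ j) x e, hxe]
    · rintro _ ⟨b, rfl⟩
      show x ^ (r - j) * (x ^ (j + 1) * e * b) = 0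
      rw [← mul_assoc, ← mul_assoc, ← pow_add, show r - j + (j + 1) = r + 1 by omega, hr1, zero_mul,
        zero_mul]
    · rintro _ ⟨b, rfl⟩
      refine ⟨x ^ j * e * b, ⟨b, rfl⟩, ?_⟩
      show x ^ (r - j) * (x ^ j * e * b) = x ^ r * e * b
      rw [← mul_assoc, ← mul_assoc, ← pow_add, show r - j + j = r by omega]
  have hdown : ∀ m, m ≤ r → m * Module.finrank k (I r) ≤ Module.finrank k (I (r + 1 - m)) := by
    intro m
    induction m with
    | zero => intro _; simp
    | succ m ih =>
      intro hm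
      have h1 := ih (by omega)
      have h2 := hstep (r - m) (by omega)
      have h3 : r - m + 1 = r + 1 - m := by omega
      have h4 : r + 1 - (m + 1) = r - m := by omega
      rw [h3] at h2
      rw [h4, Nat.add_mul, one_mul]
      omega
  have hI1 : q * (D.d i * D.d i) ≤ Module.finrank k (I 1) := by
    have h1 := hdown r le_rfl
    rw [show r + 1 - r = 1 by omega] at h1
    calc q * (D.d i * D.d i) ≤ r * Module.finrank k (I r) := Nat.mul_le_mul hqr hdr
      _ ≤ _ := h1
  -- the kernel
  let K : Submodule k Λ :=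
    { carrier := {a | e * a = a ∧ D.π a i = 0}
      add_mem' := fun {a b} ha hb => ⟨by rw [mul_add, ha.1, hb.1], by
        rw [map_add, Pi.add_apply, ha.2, hb.2, add_zero]⟩
      zero_mem' := ⟨mul_zero _, by rw [map_zero]; rfl⟩
      smul_mem' := fun c a ha => ⟨by rw [mul_smul_comm, ha.1], by
        rw [map_smul, Pi.smul_apply, ha.2, smul_zero]⟩ }
  have hKI : I 1 ≤ K := by
    rintro _ ⟨b, rfl⟩
    refine ⟨?_, ?_⟩
    · show e * (x ^ 1 * e * b) = x ^ 1 * e * b
      rw [pow_one, hxe, ← mul_assoc, hex]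
    · show D.π (x ^ 1 * e * b) i = 0
      rw [pow_one, hxe, map_mul, Pi.mul_apply, pi_central_nil D hcx hnil i, zero_mul]
  have hK0 : Module.finrank k K + D.d i * D.d i ≤ (q + 1) * (D.d i * D.d i) := by
    refine le_trans ?_ hdim
    rw [← hI0]
    let g : I 0 →ₗ[k] Matrix (Fin (D.d i)) (Fin (D.d i)) k :=
      { toFun := fun a => D.π a i
        map_add' := fun a b => by
          show D.π ((a : Λ) + b) i = _
          rw [map_add]; rfl
        map_smul' := fun c a => by
          show D.π (c • (a : Λ)) i = _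
          rw [map_smul]; rfl }
    have h1 := LinearMap.finrank_range_add_finrank_ker g
    have h2 : LinearMap.range g = ⊤ := by
      rw [LinearMap.range_eq_top]
      intro A
      obtain ⟨a, ha⟩ := exists_pre D i A
      refine ⟨⟨e * a, a, by show x ^ 0 * e * a = e * a; rw [pow_zero, one_mul]⟩, ?_⟩
      show D.π (e * a) i = A
      rw [map_mul, Pi.mul_apply, hei, ha, Pi.single_eq_same, one_mul]
    rw [h2, finrank_top, Module.finrank_matrix, Module.finrank_self, mul_one, Fintype.card_fin] at h1
    have h3 : Module.finrank k K ≤ Module.finrank k (LinearMap.ker g) := by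
      have h4 : Module.finrank k ((LinearMap.ker g).map (I 0).subtype) =
          Module.finrank k (LinearMap.ker g) := Submodule.finrank_map_subtype_eq _ _
      rw [← h4]
      apply Submodule.finrank_mono
      intro v hv
      exact ⟨⟨v, v, by show x ^ 0 * e * v = v; rw [pow_zero, one_mul]; exact hv.1⟩, hv.2, rfl⟩
    omega
  have hfin : Module.finrank k K ≤ Module.finrank k (I 1) := by
    refine le_trans ?_ hI1
    rw [Nat.add_mul, one_mul] at hK0
    omega
  have hEq := Submodule.eq_of_le_of_finrank_le hKI hfin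
  intro a ha ha0
  have : a ∈ I 1 := by rw [hEq]; exact ⟨ha, ha0⟩
  obtain ⟨b, hb⟩ := this
  refine ⟨b, ?_⟩
  rw [← hb]
  show x ^ 1 * e * b = x * b
  rw [pow_one, hxe]

end

end H80.ML13
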