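import Cfsg.Agent.Lib.H80.ML13
import Cfsg.Agent.Lib.H20.BrT7
import Cfsg.Agent.Lib.H84.Star15

set_option autoImplicit false
set_option linter.unusedSectionVars false
set_option linter.unusedVariables false
set_option linter.style.haveILetI false

/-!
# Dimension of a block algebra; the simple module of a nilpotent block
-/

namespace H80.ML14

open Cfsg H20.Loc H20.GA H20.Blk H80.GA H80.GB H80.BR1 H84.RG H84.Star H18.CharBasic H18.CharOrtho
open H20.BrT H20.Defect
open scoped ComplexConjugate

universe u

variable {M : Ideal AlgInt} [M.IsMaximal] {G : Type u} [Group G] [Finite G] {p : ℕ}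

/-- linear independence modulo `M` implies linear independence -/
theorem lift_indep {X : Type*} [Fintype X] {n : ℕ} (T : Fin n → X → locRing M)
    (h : ∀ a : Fin n → ResF M, (∀ x, ∑ i, a i * redHom M (T i x) = 0) → a = 0)
    (a : Fin n → ℂ) (ha : ∀ x, ∑ i, a i * (T i x : ℂ) = 0) : a = 0 := by
  classical
  obtain ⟨c, hc⟩ := lin_left_inv (fun i x => redHom M (T i x)) h
  have hr : ∀ y : ResF M, ∃ c : ℂ, MemLocalRing M c ∧ redFun M c = y := by
    intro y
    obtain ⟨b, hb⟩ := redFun_surjective y
    exact ⟨b, algInt_mem b, hb⟩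
  choose r hr1 hr2 using hr
  let Y : Matrix (Fin n) (Fin n) (locRing M) := fun i j => ∑ x, T i x * ⟨r (c x j), hr1 _⟩
  have hYr : Y.map (redHom M) = 1 := by
    ext i j
    rw [Matrix.map_apply, Matrix.one_apply, ← hc i j, map_sum]
    refine Finset.sum_congr rfl fun g _ => ?_
    rw [map_mul]
    show _ * redFun M (r (c g j)) = _
    rw [hr2]
  have hdet : IsUnit Y.det := by
    rw [H84.RG.isUnit_iff, ← H84.RG.redHom_eq_zero_iff]
    have h1 : redHom M Y.det = (Y.map (redHom M)).det := (RingHom.map_det _ _)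
    rw [h1, hYr, Matrix.det_one]
    exact one_ne_zero
  have hYY : Y * Y⁻¹ = 1 := Matrix.mul_nonsing_inv Y hdet
  have hYC : ∀ j, ∑ i, a i * (Y i j : ℂ) = 0 := by
    intro j
    have h1 : ∀ i, (Y i j : ℂ) = ∑ x, (T i x : ℂ) * r (c x j) := by
      intro i
      show ((∑ x, T i x * ⟨r (c x j), hr1 _⟩ : locRing M) : ℂ) = _
      rw [AddSubmonoidClass.coe_finsetSum]
      rfl
    simp_rw [h1, Finset.mul_sum]
    rw [Finset.sum_comm]
    apply Finset.sum_eq_zero
    intro g _
    have h2 := ha g
    calc ∑ i, a i * ((T i g : ℂ) * r (c g j)) = (∑ i, a i * (T i g : ℂ)) * r (c g j) := by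
          rw [Finset.sum_mul]
          exact Finset.sum_congr rfl fun i _ => by ring
      _ = 0 := by rw [h2, zero_mul]
  funext j
  have h3 : ∑ i, a i * ((Y * Y⁻¹) i j : locRing M) = 0 := by
    have h4 : ∀ i, (((Y * Y⁻¹) i j : locRing M) : ℂ) = ∑ l, (Y i l : ℂ) * ((Y⁻¹ l j : locRing M) : ℂ) := by
      intro i
      rw [Matrix.mul_apply, AddSubmonoidClass.coe_finsetSum]
      rfl
    simp_rw [h4, Finset.mul_sum]
    rw [Finset.sum_comm]
    apply Finset.sum_eq_zero
    intro l _
    calc ∑ i, a i * ((Y i l : ℂ) * ((Y⁻¹ l j : locRing M) : ℂ)) =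
        (∑ i, a i * (Y i l : ℂ)) * ((Y⁻¹ l j : locRing M) : ℂ) := by
          rw [Finset.sum_mul]
          exact Finset.sum_congr rfl fun i _ => by ring
      _ = 0 := by rw [hYC, zero_mul]
  rw [hYY] at h3
  have h5 : ∀ i, (((1 : Matrix (Fin n) (Fin n) (locRing M)) i j : locRing M) : ℂ) =
      if i = j then 1 else 0 := by
    intro i
    rw [Matrix.one_apply]
    split_ifs <;> rfl
  simp_rw [h5] at h3
  simpa using h3

theorem finrank_le (ε : AR M G) :
    Module.finrank (ResF M) (LinearMap.range (LinearMap.mulLeft (ResF M) (iK M G ε))) ≤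
      Module.finrank ℂ (LinearMap.range (LinearMap.mulLeft ℂ (iC M G ε))) := by
  classical
  letI := Fintype.ofFinite G
  let s : Set (KG M G) := Set.range (fun g : G => iK M G ε * MonoidAlgebra.single g 1)
  have hs : Submodule.span (ResF M) s = LinearMap.range (LinearMap.mulLeft (ResF M) (iK M G ε)) := by
    apply le_antisymm
    · rw [Submodule.span_le]
      rintro _ ⟨g, rfl⟩
      exact ⟨_, rfl⟩
    · rintro _ ⟨a, rfl⟩
      show iK M G ε * a ∈ _
      induction a using MonoidAlgebra.induction_linear with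
      | zero => rw [mul_zero]; exact Submodule.zero_mem _
      | add f g hf hg => rw [mul_add]; exact Submodule.add_mem _ hf hg
      | single g r =>
        have h1 : (MonoidAlgebra.single g r : KG M G) = r • MonoidAlgebra.single g 1 := by simp
        rw [h1, mul_smul_comm]
        exact Submodule.smul_mem _ _ (Submodule.subset_span ⟨g, rfl⟩)
  obtain ⟨f, hf, -, hind⟩ := Submodule.exists_fun_fin_finrank_span_eq (ResF M) s
  rw [← hs]
  choose g hg using hf
  let F : Fin (Module.finrank (ResF M) (Submodule.span (ResF M) s)) →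
      LinearMap.range (LinearMap.mulLeft ℂ (iC M G ε)) :=
    fun i => ⟨iC M G ε * MonoidAlgebra.single (g i) 1, _, rfl⟩
  have hF : LinearIndependent ℂ F := by
    rw [Fintype.linearIndependent_iff]
    intro a ha
    have h0 : ∑ i, a i • (iC M G ε * MonoidAlgebra.single (g i) 1) = 0 := by
      have := congrArg Subtype.val ha
      rw [AddSubmonoidClass.coe_finsetSum] at this
      exact this
    have h1 : a = 0 := by
      refine lift_indep (M := M) (fun i x => (ε * xx (g i)).coeff x) ?_ a ?_
      · intro b hb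
        funext i
        rw [Fintype.linearIndependent_iff] at hind
        refine hind b ?_ i
        apply MonoidAlgebra.coeff_injective
        ext x
        rw [H80.GA.coeff_sum' Finset.univ (fun i => b i • f i)]
        have h2 := hb x
        rw [MonoidAlgebra.coeff_zero, Finsupp.coe_zero, Pi.zero_apply, ← h2]
        refine Finset.sum_congr rfl fun i _ => ?_
        rw [← hg i]
        show (b i) * ((iK M G ε * MonoidAlgebra.single (g i) 1 : KG M G).coeff x) = _
        rw [← iK_xx, ← map_mul, coeff_iK]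
      · intro x
        have h2 := congrArg (fun z : MonoidAlgebra ℂ G => z.coeff x) h0
        rw [H80.GA.coeff_sum' Finset.univ
          (fun i => a i • (iC M G ε * MonoidAlgebra.single (g i) 1))] at h2
        refine Eq.trans ?_ h2
        refine Finset.sum_congr rfl fun i _ => ?_
        show _ = (a i) * ((iC M G ε * MonoidAlgebra.single (g i) 1 : MonoidAlgebra ℂ G).coeff x)
        rw [← iC_xx (M := M), ← map_mul, coeff_iC]
    intro i
    rw [h1]; rfl
  have := hF.fintype_card_le_finrank
  simpa using this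

theorem finrank_mul (e : MonoidAlgebra ℂ G) (he : e * e = e) :
    (Module.finrank ℂ (LinearMap.range (LinearMap.mulLeft ℂ e)) : ℂ) = Nat.card G * e.coeff 1 := by
  classical
  letI := Fintype.ofFinite G
  have hproj : LinearMap.IsProj (LinearMap.range (LinearMap.mulLeft ℂ e)) (LinearMap.mulLeft ℂ e) := by
    refine ⟨fun x => ⟨x, rfl⟩, ?_⟩
    rintro _ ⟨x, rfl⟩
    show e * (e * x) = e * x
    rw [← mul_assoc, he]
  rw [← hproj.trace]
  rw [LinearMap.trace_eq_matrix_trace ℂ (MonoidAlgebra.basis G ℂ), Matrix.trace]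
  have h1 : ∀ g : G, (LinearMap.toMatrix (MonoidAlgebra.basis G ℂ) (MonoidAlgebra.basis G ℂ)
      (LinearMap.mulLeft ℂ e)).diag g = e.coeff 1 := by
    intro g
    rw [Matrix.diag_apply, LinearMap.toMatrix_apply]
    have h2 : (MonoidAlgebra.basis G ℂ) g = MonoidAlgebra.single g 1 := by simp
    rw [h2]
    show (e * MonoidAlgebra.single g 1).coeff g = _
    rw [H80.GA.coeff_mul'', Finset.sum_eq_single g]
    · simp
    · intro x _ hx
      rw [MonoidAlgebra.coeff_single, Finsupp.single_eq_of_ne hx, mul_zero]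
    · intro h; exact absurd (Finset.mem_univ g) h
  rw [Finset.sum_congr rfl (fun g _ => h1 g), Finset.sum_const, Finset.card_univ,
    ← Nat.card_eq_fintype_card, nsmul_eq_mul]

theorem finrank_ebar_le (hM : IsPModular p M) {B : Set (IrrCharacter G)} (hB : IsPBlock M B) {d : ℕ}
    (hd : ∀ χ ∈ B, charDegree (χ : G → ℂ) = d) :
    Module.finrank (ResF M) (LinearMap.range (LinearMap.mulLeft (ResF M) (ebar M B))) ≤
      Nat.card B * (d * d) := by
  classical
  haveI : M.IsPrime := inferInstance
  letI := Fintype.ofFinite (IrrCharacter G)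
  rw [← iK_zR_eB hB]
  refine (finrank_le _).trans ?_
  have h1 : (Module.finrank ℂ (LinearMap.range (LinearMap.mulLeft ℂ
      (iC M G (zR (M := M) (eB B))))) : ℂ) = ((Nat.card B * (d * d) : ℕ) : ℂ) := by
    rw [finrank_mul _ (by rw [← map_mul, (zR_eB_idem hB).eq]), iC_zR (eB_mem hB)]
    show (Nat.card G : ℂ) * zc (eB B) 1 = _
    rw [zc_eB, blockCoeff_eq_sum, ← mul_assoc, mul_inv_cancel₀ (by
      exact_mod_cast Nat.card_pos.ne'), one_mul, ← Finset.sum_filter]
    have h2 : ∀ χ ∈ Finset.univ.filter (fun χ : IrrCharacter G => χ ∈ B),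
        (χ : G → ℂ) 1 * conj ((χ : G → ℂ) 1) = (d : ℂ) * d := by
      intro χ hχ
      rw [Finset.mem_filter] at hχ
      rw [← charDegree_irr, hd χ hχ.2, Complex.conj_natCast]
    rw [Finset.sum_congr rfl h2, Finset.sum_const, nsmul_eq_mul]
    have h3 : (Finset.univ.filter (fun χ : IrrCharacter G => χ ∈ B)).card = Nat.card B := by
      rw [← Fintype.card_subtype, ← Nat.card_eq_fintype_card]
    rw [h3]
    push_cast
    ring
  exact (Nat.cast_injective h1).le

end H80.ML14
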