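import Cfsg.Agent.Lib.H80.ML14
import Cfsg.Agent.Lib.H20.BrT6

set_option autoImplicit false
set_option linter.unusedSectionVars false
set_option linter.unusedVariables false
set_option linter.style.haveILetI false

/-!
# The simple module of a nilpotent block with abelian defect group
-/

namespace H80.ML15

open Cfsg H20.Loc H20.GA H20.Blk H80.GA H80.GB H80.GD H80.GE H80.BR1 H84.RG H84.Star H18.CharBasic
open H18.CharOrtho
open H20.BrT H20.Defect
open scoped ComplexConjugate

universe u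

variable {M : Ideal AlgInt} [M.IsMaximal] {G : Type u} [Group G] [Finite G] {p : ℕ}
variable [Fact p.Prime] [CharP (ResF M) p] [Algebra (ZMod p) (ResF M)] [Algebra.IsAlgebraic (ZMod p) (ResF M)]
variable {B : Set (IrrCharacter G)} {P : Subgroup G} {e : MonoidAlgebra (ResF M) G}

/-- a block all of whose characters agree on `p`-regular elements has one simple module -/
theorem one_simple (hM : IsPModular p M) (hB : IsPBlock M B) (D : Dat (ResF M) (KG M G))
    {χ0 : IrrCharacter G} (hχ0 : χ0 ∈ B)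
    (hreg : ∀ χ ∈ B, ∀ g, IsPRegular p g → (χ : G → ℂ) g = (χ0 : G → ℂ) g) :
    ∃ i, InB D B i ∧ (∀ j, InB D B j → j = i) ∧ ∀ χ ∈ B, charDegree (χ : G → ℂ) = D.d i := by
  classical
  haveI : M.IsPrime := inferInstance
  letI := Fintype.ofFinite (IrrCharacter G)
  have hdec : ∀ χ ∈ B, ∀ j, dec D hM χ j = dec D hM χ0 j := by
    intro χ hχ j
    have h1 : (fun j => (dec D hM χ j : ℂ) - dec D hM χ0 j) = 0 := by
      refine th_indep D hM fun g hg => ?_
      have h2 := hreg χ hχ g hg
      rw [irr_reg D hM χ hg, irr_reg D hM χ0 hg] at h2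
      simp_rw [sub_mul]
      rw [Finset.sum_sub_distrib, h2, sub_self]
    have h3 := congrFun h1 j
    have h4 : (dec D hM χ j : ℂ) = dec D hM χ0 j := sub_eq_zero.1 h3
    exact_mod_cast h4
  have key : ∀ i, InB D B i → ∃ c : ℤ, ∀ j, c * (dec D hM χ0 j : ℤ) = if i = j then 1 else 0 := by
    intro i hi
    obtain ⟨a, ha, ha'⟩ := exists_int_block D hM hB hi
    have h1 := (ha' inferInstance).2
    refine ⟨∑ χ, a χ, fun j => ?_⟩
    rw [← h1 j, Finset.sum_mul]
    refine Finset.sum_congr rfl fun χ _ => ?_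
    by_cases hχ : χ ∈ B
    · rw [hdec χ hχ]
    · rw [ha χ hχ, zero_mul, zero_mul]
  have hex : ∃ i, InB D B i := by
    by_contra hcon
    push Not at hcon
    have h1 : D.π (ebar M B) = 0 := by
      funext i
      by_contra hne
      exact hcon i hne
    exact (isBlk_ebar hB).2.2.1 (eq_zero_of_pi D (ebar_isIdem hB) h1)
  obtain ⟨i, hi⟩ := hex
  have hone : ∀ i, InB D B i → dec D hM χ0 i = 1 := by
    intro i hi
    obtain ⟨c, hc⟩ := key i hi
    have h1 := hc i
    rw [if_pos rfl] at h1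
    have h2 := Int.isUnit_iff.1 (IsUnit.of_mul_eq_one_right c h1)
    omega
  have huniq : ∀ j, InB D B j → j = i := by
    intro j hj
    by_contra hne
    obtain ⟨c, hc⟩ := key i hi
    have h1 := hc i
    have h2 := hc j
    rw [if_pos rfl, hone i hi] at h1
    rw [if_neg (Ne.symm hne), hone j hj] at h2
    omega
  refine ⟨i, hi, huniq, fun χ hχ => ?_⟩
  rw [deg_eq D hM χ, Finset.sum_eq_single i]
  · rw [hdec χ hχ, hone i hi, one_mul]
  · intro j _ hj
    rw [dec_of_not D hM hB hχ (fun h => hj (huniq j h)), zero_mul]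
  · intro h; exact absurd (Finset.mem_univ _) h

theorem card_irr_comm {A : Type u} [Group A] [Finite A] (h : ∀ a b : A, a * b = b * a) :
    Nat.card (IrrCharacter A) = Nat.card A := by
  rw [H18.CharOrtho.card_irr_eq_card_conjClasses]
  have hinj : Function.Injective (ConjClasses.mk : A → ConjClasses A) := by
    intro a b hab
    rw [ConjClasses.mk_eq_mk_iff_isConj] at hab
    obtain ⟨c, hc⟩ := isConj_iff.1 hab
    rw [h c a, mul_inv_cancel_right] at hc
    exact hc
  exact (Nat.card_congr (Equiv.ofBijective _ ⟨hinj, ConjClasses.mk_surjective⟩)).symm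

/-- nilpotent blocks with abelian defect group -/
theorem nil_simple [IsAlgClosed (ResF M)] (hM : IsPModular p M) (hmax : IsMax p ⊤ (ebar M B) P e)
    (hB : IsPBlock M B) (hnil : H80.FS3.Nilp p ⊤ (ebar M B)) (hab : ∀ x ∈ P, ∀ y ∈ P, x * y = y * x)
    (D : Dat (ResF M) (KG M G)) :
    ∃ i, InB D B i ∧ (∀ j, InB D B j → j = i) ∧ (∀ χ ∈ B, charDegree (χ : G → ℂ) = D.d i) ∧
      Nat.card B = Nat.card P := by
  obtain ⟨χ, hχ, h0⟩ := exists_height_zero hM hB
  have hab' : ∀ a b : P, a * b = b * a := fun a b => Subtype.ext (hab a a.2 b b.2)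
  obtain ⟨i, h1, h2, h3⟩ := one_simple hM hB D hχ (fun ψ hψ g hg => by
    obtain ⟨ζ, hζ⟩ := (nilEquiv hM hmax hB hnil hχ h0).surjective ⟨ψ, hψ⟩
    have h4 := nilEquiv_reg hM hmax hB hnil hχ h0 ζ g
    rw [hζ, H20.Orth.reg_of hg, H20.Orth.reg_of hg, H18.CharQuot.degree_one_of_comm hab' ζ.2, one_mul] at h4
    exact h4)
  refine ⟨i, h1, h2, h3, ?_⟩
  rw [← card_irr_comm hab']
  exact (Nat.card_congr (nilEquiv hM hmax hB hnil hχ h0)).symm

end H80.ML15
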