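import Cfsg.Agent.Lib.H80.ML3

set_option autoImplicit false
set_option linter.unusedSectionVars false
set_option linter.unusedVariables false
set_option linter.style.haveILetI false

/-!
# A block is a trace from its defect group
-/

namespace H80.ML4

open H80.GA H80.GB H80.GC H80.GD H80.GE H80.GH H80.GK H80.ML3 MonoidAlgebra
open scoped Pointwise

section sums
variable {G M : Type*} [Group G] [Finite G] [AddCommMonoid M]

lemma csum_cs {D H : Subgroup G} (hDH : D ≤ H) {h : G} (hh : h ∈ H) {φ : G → M}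
    (hφ : Inv (cs h D) φ) : csum (cs h D) H φ = csum D H (fun g => φ (g * h⁻¹)) := by
  classical
  have := Fintype.ofFinite (G ⧸ D)
  have := Fintype.ofFinite (G ⧸ cs h D)
  have hDH' : cs h D ≤ H := by
    have := cs_mono (g := h).2 hDH
    rwa [cs_of_mem hh] at this
  rw [csum_eq, csum_eq]
  symm
  refine Finset.sum_bij (fun y _ => (QuotientGroup.mk (y.out * h⁻¹) : G ⧸ cs h D)) ?_ ?_ ?_ ?_
  · intro y hy
    simp only [Finset.mem_filter, Finset.mem_univ, true_and] at hy ⊢
    rw [out_mem_iff hDH']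
    exact mul_mem hy (inv_mem hh)
  · intro y _ z _ h1
    have h2 := QuotientGroup.eq.1 h1
    rw [mem_cs] at h2
    have h3 : h⁻¹ * ((y.out * h⁻¹)⁻¹ * (z.out * h⁻¹)) * h = y.out⁻¹ * z.out := by group
    rw [h3] at h2
    have h4 := QuotientGroup.eq.2 h2
    rwa [QuotientGroup.out_eq', QuotientGroup.out_eq'] at h4
  · intro y hy
    simp only [Finset.mem_filter, Finset.mem_univ, true_and] at hy
    refine ⟨QuotientGroup.mk (y.out * h), ?_, ?_⟩
    · simp only [Finset.mem_filter, Finset.mem_univ, true_and]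
      rw [out_mem_iff hDH]; exact mul_mem hy hh
    · obtain ⟨d, hd⟩ := QuotientGroup.mk_out_eq_mul D (y.out * h)
      rw [hd]
      conv_rhs => rw [← QuotientGroup.out_eq' y]
      rw [QuotientGroup.eq, mem_cs]
      have : h⁻¹ * ((y.out * h * (d : G) * h⁻¹)⁻¹ * y.out) * h = (d : G)⁻¹ := by group
      rw [this]
      exact inv_mem d.2
  · intro y _
    exact (hφ.out _).symm

end sums

variable {k G : Type*} [Field k] [Group G] [Finite G]

lemma Tr_cs {D H : Subgroup G} (hDH : D ≤ H) {h : G} (hh : h ∈ H) {a : MonoidAlgebra k G}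
    (ha : a ∈ Fx k (cs h D)) : Tr (cs h D) H a = Tr D H (cj h⁻¹ a) := by
  unfold Tr
  rw [csum_cs hDH hh (inv_cj ha)]
  refine csum_congr fun g hg => ?_
  exact cj_mul g h⁻¹ a

variable {p : ℕ} [Fact p.Prime] [CharP k p] [Algebra (ZMod p) k] [Algebra.IsAlgebraic (ZMod p) k]

lemma exists_sylow_sub (C : Subgroup G) (p : ℕ) [Fact p.Prime] :
    ∃ Q : Subgroup G, Q ≤ C ∧ IsPGroup p Q ∧ ¬ p ∣ Q.relIndex C := by
  obtain ⟨P⟩ : Nonempty (Sylow p C) := inferInstance
  refine ⟨(P : Subgroup C).map C.subtype, Subgroup.map_subtype_le _, ?_, ?_⟩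
  · exact P.2.map _
  · have h1 : ((P : Subgroup C).map C.subtype).relIndex C = (P : Subgroup C).index := by
      unfold Subgroup.relIndex
      rw [Subgroup.subgroupOf, Subgroup.comap_map_eq_self_of_injective C.subtype_injective]
    rw [h1]
    exact P.not_dvd_index

theorem exists_trace {H D : Subgroup G} {b : MonoidAlgebra k G} (hb : IsBlk H b)
    (hD : IsDef p H b D) : ∃ a, a ∈ Fx k D ∧ a ∈ Sp k H ∧ b * a = a ∧ Tr D H a = b := by
  classical
  -- a class sum which is invertible on the block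
  obtain ⟨O, hO⟩ : ∃ O : XC H, ¬ Om b (b.coeff (O.2.choose) • kap k O.1) 0 := by
    by_contra hcon
    push Not at hcon
    have h1 := om_sum hb.mem (Finset.univ) (fun O : XC H => b.coeff (O.2.choose) • kap k O.1)
      (fun _ => 0) (fun O _ => by
        have := kap_mem (k := k) (C := H) O.2.choose_spec.1
        rw [O.2.choose_spec.2] at this
        exact Subalgebra.smul_mem _ this _) (fun O _ => hcon O)
    rw [← decomp hb.mem, Finset.sum_const_zero] at h1
    obtain ⟨n, hn⟩ := h1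
    rw [zero_smul, sub_zero, hb.idem] at hn
    apply hb.ne
    have h2 : ∀ m : ℕ, b ^ (m + 1) = b := by
      intro m
      induction m with
      | zero => rw [zero_add, pow_one]
      | succ m ih => rw [pow_succ, ih, hb.idem]
    rcases n with _ | n
    · rw [pow_zero] at hn
      rw [← one_mul b, hn, zero_mul]
    · rw [← h2 n, hn]
  have hc0 : b.coeff (O.2.choose) ≠ 0 := by
    intro h0
    apply hO
    rw [h0, zero_smul]
    exact om_zero b
  have hnn : ¬ Om b (kap k O.1) 0 := by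
    intro h0
    apply hO
    have := om_smul (b.coeff (O.2.choose)) h0
    rwa [mul_zero] at this
  have hyH := O.2.choose_spec.1
  have hyO := O.2.choose_spec.2
  set y := O.2.choose with hy
  have hkZ : kap k O.1 ∈ Z k H := by
    rw [← hyO]; exact kap_mem hyH
  obtain ⟨n, hn, h1⟩ := blk_local p hb hkZ
  have h2 : (b * kap k O.1) ^ n = b := by
    rcases h1 with h1 | h1
    · exfalso
      apply hnn
      refine ⟨n, ?_⟩
      rw [zero_smul, sub_zero, h1]
    · exact h1
  -- the class sum as a trace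
  obtain ⟨Q, hQC, hQp, hQi⟩ := exists_sylow_sub (H ⊓ Subgroup.centralizer ({y} : Set G)) p
  have hQH : Q ≤ H := hQC.trans inf_le_left
  have hs : single y (1 : k) ∈ Fx k (H ⊓ Subgroup.centralizer ({y} : Set G)) := by
    intro g hg
    refine ext' fun x => ?_
    rw [coeff_cj, MonoidAlgebra.coeff_single, Finsupp.single_apply, Finsupp.single_apply]
    have hgy : y * g = g * y := mem_cent_singleton.1 hg.2
    have : y = g⁻¹ * x * g ↔ y = x := by
      constructor
      · intro h
        have : x = g * y * g⁻¹ := by rw [h]; group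
        rw [this, ← hgy]; group
      · rintro rfl
        rw [mul_assoc, hgy]; group
    simp only [this]
  have hsQ : single y (1 : k) ∈ Fx k Q := Fx_mono hQC hs
  have hrel : ((Q.relIndex (H ⊓ Subgroup.centralizer ({y} : Set G)) : ℕ) : k) ≠ 0 := by
    rw [Ne, CharP.cast_eq_zero_iff k p]; exact hQi
  obtain ⟨a, haQ, haH, haT⟩ : ∃ a, a ∈ Fx k Q ∧ a ∈ Sp k H ∧ Tr Q H a = kap k O.1 := by
    refine ⟨((Q.relIndex (H ⊓ Subgroup.centralizer ({y} : Set G)) : ℕ) : k)⁻¹ • single y (1 : k),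
      Subalgebra.smul_mem _ hsQ _, Subalgebra.smul_mem _ ?_ _, ?_⟩
    · intro x hx
      rw [MonoidAlgebra.coeff_single, Finsupp.single_apply] at hx
      split_ifs at hx with h
      · rw [← h]; exact hyH
      · exact absurd rfl hx
    · rw [Tr_smul, Tr_trans hQC inf_le_left hsQ, Tr_fixed hQC hs, Tr_smul, smul_smul,
        inv_mul_cancel₀ hrel, one_smul, ← kap_eq hyH, hyO]
  -- `b` as a trace from `Q`
  obtain ⟨w, hwH, hwS, hw⟩ : ∃ w, w ∈ Fx k H ∧ w ∈ Sp k H ∧ w * kap k O.1 = b := by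
    refine ⟨(b * kap k O.1) ^ (n - 1) * b, ?_, ?_, ?_⟩
    · exact Subalgebra.mul_mem _ (Subalgebra.pow_mem _ (Subalgebra.mul_mem _ hb.mem.1 hkZ.1) _) hb.mem.1
    · exact Subalgebra.mul_mem _ (Subalgebra.pow_mem _ (Subalgebra.mul_mem _ hb.mem.2 hkZ.2) _) hb.mem.2
    · rw [mul_assoc, ← pow_succ, Nat.sub_add_cancel hn, h2]
  have hbQ : Tr Q H (w * a) = b := by rw [← Tr_mul hwH, haT, hw]
  have hwaQ : w * a ∈ Fx k Q := Subalgebra.mul_mem _ (Fx_mono hQH hwH) haQ
  have hwaS : w * a ∈ Sp k H := Subalgebra.mul_mem _ hwS haH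
  -- `Q` is contained in a defect group
  obtain ⟨h, hh, hQD⟩ := hD.max Q hQH hQp (by
    intro h0
    have h3 : (br k Q b).coeff y = 0 := by rw [h0]; rfl
    rw [coeff_br_of_mem] at h3
    · exact hc0 h3
    · rw [Subgroup.mem_centralizer_iff]
      intro q hq
      exact (mem_cent_singleton.1 (hQC hq).2).symm)
  have hDH' : cs h D ≤ H := by
    have := cs_mono (g := h).2 hD.le
    rwa [cs_of_mem hh] at this
  have ha2 : Tr Q (cs h D) (w * a) ∈ Fx k (cs h D) := Tr_mem_Fx hQD hwaQ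
  rw [Tr_trans hQD hDH' hwaQ, Tr_cs hD.le hh ha2] at hbQ
  have ha3 : cj h⁻¹ (Tr Q (cs h D) (w * a)) ∈ Fx k D := by
    have := cj_mem_Fx (g := h⁻¹) ha2
    rwa [cs_inv_cs] at this
  have ha4 : cj h⁻¹ (Tr Q (cs h D) (w * a)) ∈ Sp k H := by
    have := cj_mem_Sp (g := h⁻¹) (Tr_mem_Sp (D := Q) hDH' hwaS)
    rwa [cs_of_mem (inv_mem hh)] at this
  refine ⟨b * cj h⁻¹ (Tr Q (cs h D) (w * a)), Subalgebra.mul_mem _ (Fx_mono hD.le hb.mem.1) ha3,
    Subalgebra.mul_mem _ hb.mem.2 ha4, ?_, ?_⟩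
  · rw [← mul_assoc, hb.idem]
  · rw [← Tr_mul hb.mem.1, hbQ, hb.idem]

end H80.ML4
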