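import Cfsg.Agent.Lib.H80.ML15
import Cfsg.Agent.Lib.H80.ML4
import Cfsg.Agent.Lib.H80.GV

set_option autoImplicit false
set_option linter.unusedSectionVars false
set_option linter.unusedVariables false
set_option linter.style.haveILetI false

/-!
# A central element with a long power series in a nilpotent block with cyclic defect group
-/

namespace H80.ML16

open H80.GA H80.GB H80.GC H80.GD H80.GE H80.GH H80.GV H80.FS3 H80.ML2 H80.ML3 H80.ML4 MonoidAlgebra

section sums
variable {G M : Type*} [Group G] [Finite G] [AddCommMonoid M]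

lemma csum_single {D H : Subgroup G} (hDH : D ≤ H) {φ : G → M} (hinv : Inv D φ)
    (h0 : ∀ g ∈ H, g ∉ D → φ g = 0) : csum D H φ = φ 1 := by
  classical
  have := Fintype.ofFinite (G ⧸ D)
  rw [csum_eq, Finset.sum_eq_single (QuotientGroup.mk 1 : G ⧸ D)]
  · exact hinv.out 1
  · intro y hy hne
    refine h0 _ (Finset.mem_filter.1 hy).2 fun hyD => hne ?_
    rw [← QuotientGroup.out_eq' y, QuotientGroup.eq]
    simpa using hyD
  · intro h
    exfalso
    apply h
    rw [Finset.mem_filter]
    exact ⟨Finset.mem_univ _, (out_mem_iff hDH 1).2 (one_mem _)⟩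

end sums

section br
variable {k G : Type*} [Field k] [Group G] [Finite G] {p : ℕ} [Fact p.Prime] [CharP k p]

/-- the Brauer construction of a relative trace -/
theorem br_Tr {P : Subgroup G} (hP : IsPGroup p P) {y : MonoidAlgebra k G} (hy : y ∈ Fx k P)
    (hyS : y ∈ Sp k (Subgroup.centralizer (P : Set G))) :
    br k P (Tr P ⊤ y) = Tr P (Subgroup.normalizer (P : Set G)) y := by
  classical
  have := Fintype.ofFinite (G ⧸ P)
  refine ext' fun x => ?_
  rw [coeff_br]
  split_ifs with hx
  · rw [coeff_Tr, coeff_Tr]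
    set φ : G → k := fun g => y.coeff (g⁻¹ * x * g) with hφ
    have hinv : Inv P φ := by
      intro g d hd
      show y.coeff ((g * d)⁻¹ * x * (g * d)) = y.coeff (g⁻¹ * x * g)
      have h1 := mem_Fx'.1 hy d⁻¹ (inv_mem hd) (g⁻¹ * x * g)
      rw [← h1]
      congr 1
      group
    have hl : ∀ d ∈ P, ∀ g, φ (d * g) = φ g := by
      intro d hd g
      show y.coeff ((d * g)⁻¹ * x * (d * g)) = y.coeff (g⁻¹ * x * g)
      congr 1
      have h1 : d⁻¹ * x * d = x := by
        have := Subgroup.mem_centralizer_iff.1 hx d hd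
        rw [mul_assoc, ← this]; simp
      calc (d * g)⁻¹ * x * (d * g) = g⁻¹ * (d⁻¹ * x * d) * g := by group
        _ = _ := by rw [h1]
    rw [csum_eq, csum_eq]
    have h1 := sum_fixed hP (MulAction.toPermHom P (G ⧸ P)) (fun q : G ⧸ P => φ q.out) (by
      intro g q
      show φ (g • q).out = φ q.out
      have h2 : g • q = (QuotientGroup.mk ((g : G) * q.out) : G ⧸ P) := by
        conv_lhs => rw [← QuotientGroup.out_eq' q]
        rfl
      rw [h2, hinv.out, hl g g.2])
    have h3 : Finset.univ.filter (fun y : G ⧸ P => y.out ∈ (⊤ : Subgroup G)) = Finset.univ := by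
      ext; simp
    rw [h3, h1]
    refine Finset.sum_congr ?_ fun _ _ => rfl
    ext q
    simp only [Finset.mem_filter, Finset.mem_univ, true_and]
    have key : ∀ g : P, (MulAction.toPermHom P (G ⧸ P)) g q = q ↔ q.out⁻¹ * (g : G) * q.out ∈ P := by
      intro g
      show g • q = q ↔ _
      have h2 : g • q = (QuotientGroup.mk ((g : G) * q.out) : G ⧸ P) := by
        conv_lhs => rw [← QuotientGroup.out_eq' q]
        rfl
      rw [h2]
      constructor
      · intro h
        have h' := QuotientGroup.eq.1 ((QuotientGroup.out_eq' q).trans h.symm)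
        rwa [← mul_assoc] at h'
      · intro h
        have h' : (QuotientGroup.mk q.out : G ⧸ P) = QuotientGroup.mk ((g : G) * q.out) :=
          QuotientGroup.eq.2 (by rwa [← mul_assoc])
        rw [← h', QuotientGroup.out_eq']
    simp only [key]
    constructor
    · intro h
      have h4 : cs q.out⁻¹ P ≤ P := by
        intro z hz
        rw [mem_cs, inv_inv] at hz
        have := h ⟨_, hz⟩
        simpa [mul_assoc] using this
      have h5 : cs q.out⁻¹ P = P :=
        Subgroup.eq_of_le_of_card_ge h4 (by rw [card_cs])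
      have h6 := mem_normalizer.2 h5
      simpa using inv_mem h6
    · intro h g
      have h6 := (mem_normalizer_iff'.1 (inv_mem h) g).1 g.2
      simpa using h6
  · symm
    rw [coeff_Tr]
    have h0 : ∀ g ∈ Subgroup.normalizer (P : Set G), y.coeff (g⁻¹ * x * g) = 0 := by
      intro g hg
      refine coeff_eq_zero_of_mem_Sp hyS fun h => hx ?_
      have h1 : x ∈ cs g (Subgroup.centralizer (P : Set G)) := mem_cs.2 h
      rwa [cs_centralizer, mem_normalizer.1 hg] at h1
    rw [csum_congr h0]
    classical
    unfold csum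
    exact Finset.sum_const_zero

/-- **an element with a long power series** -/
theorem exists_x [Algebra (ZMod p) k] [Algebra.IsAlgebraic (ZMod p) k] [IsAlgClosed k]
    {P : Subgroup G} {b e : MonoidAlgebra k G} (hmax : IsMax p ⊤ b P e) (hcyc : IsCyclic P)
    (hnil : Nilp p ⊤ b) (hreg : ∀ x, e.coeff x ≠ 0 → ¬ p ∣ orderOf x) :
    ∃ x ∈ Fx k (⊤ : Subgroup G), b * x = x ∧ IsNilpotent x ∧ x ^ (Nat.card P - 1) ≠ 0 := by
  classical
  have hpair := hmax.of.pair
  have hP : IsPGroup p P := hpair.pgr
  have hab : ∀ x ∈ P, ∀ y ∈ P, x * y = y * x := by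
    intro x hx y hy
    have : (⟨x, hx⟩ : P) * ⟨y, hy⟩ = ⟨y, hy⟩ * ⟨x, hx⟩ := IsCyclic.commGroup.mul_comm _ _
    exact congrArg Subtype.val this
  have hPC : P ≤ CH ⊤ P := fun x hx => ⟨Subgroup.mem_centralizer_iff.2 fun y hy => hab y hy x hx,
    Subgroup.mem_top x⟩
  have hCN : CH ⊤ P ≤ Subgroup.normalizer (P : Set G) := fun x hx =>
    Subgroup.centralizer_le_normalizer _ hx.1
  have hdef : IsDef p (CH ⊤ P) e P :=
    (maxPair (cent_max hmax hab Relation.ReflTransGen.refl)).1
  obtain ⟨w, hwP, hwC, hew, hTr⟩ := exists_trace (k := k) (p := p) hpair.blk hdef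
  obtain ⟨u, hu⟩ := hcyc.exists_generator
  have huC : (u : G) ∈ Subgroup.centralizer (P : Set G) := (hPC u.2).1
  set ν : MonoidAlgebra k G := sg k (u : G) - 1 with hν
  have hνC : ν ∈ Fx k (CH ⊤ P) := by
    refine sub_mem ?_ (one_mem _)
    intro h hh
    show cj h (sg k (u : G)) = sg k (u : G)
    rw [H80.ML5.cj_eq, sg_mul, sg_mul]
    congr 1
    have := Subgroup.mem_centralizer_iff.1 hh.1 u u.2
    rw [← this]; simp
  have hνS : ν ∈ Sp k (Subgroup.centralizer (P : Set G)) := by
    refine sub_mem ?_ (one_mem _)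
    intro x hx
    have : x = u := by
      by_contra hne
      apply hx
      rw [MonoidAlgebra.coeff_single, Finsupp.single_eq_of_ne hne]
    rw [this]; exact huC
  have heC : e ∈ Fx k (CH ⊤ P) := hpair.blk.mem.1
  have heS : e ∈ Sp k (CH ⊤ P) := hpair.blk.mem.2
  have hee : e * e = e := hpair.blk.idem
  set y : MonoidAlgebra k G := ν * w with hy
  have hyP : y ∈ Fx k P := mul_mem (Fx_mono hPC hνC) hwP
  have hyS : y ∈ Sp k (Subgroup.centralizer (P : Set G)) := mul_mem hνS (Sp_mono inf_le_left hwC)
  have hbF : b ∈ Fx k (⊤ : Subgroup G) := hmax.of.blk.mem.1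
  have hTF : Tr P ⊤ y ∈ Fx k (⊤ : Subgroup G) := Tr_mem_Fx le_top hyP
  have hbb : b * b = b := hmax.of.blk.idem
  have hTC : Tr P (CH ⊤ P) y = ν * e := by rw [hy, ← Tr_mul hνC, hTr]
  have hνe : ν * e ∈ Fx k (CH ⊤ P) := mul_mem hνC heC
  have h1 : e * br k P (Tr P ⊤ y) = ν * e := by
    rw [br_Tr hP hyP hyS, Tr_trans hPC hCN hyP, hTC]
    show AddMonoidHom.mulLeft e (csum (CH ⊤ P) (Subgroup.normalizer (P : Set G))
      (fun g => cj g (ν * e))) = _
    rw [map_csum, csum_single hCN]
    · show e * cj 1 (ν * e) = _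
      rw [cj_one, ← mul_assoc, ← comm_of_mem hνC heS, mul_assoc, hee]
    · intro g d hd
      show e * cj (g * d) (ν * e) = e * cj g (ν * e)
      rw [cj_mul, hνe d hd]
    · intro g hg hgC
      show e * cj g (ν * e) = 0
      have h2 : cj g ν ∈ Sp k (CH ⊤ P) := by
        have := cj_mem_Sp (g := g) hνS
        rw [cs_centralizer, mem_normalizer.1 hg] at this
        exact Sp_inf this (Sp_top _)
      have h3 : cs g (CH ⊤ P) = CH ⊤ P := by
        rw [cs_CH, mem_normalizer.1 hg, cs_of_mem (Subgroup.mem_top g)]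
      have h4 : e * cj g e = 0 := by
        refine blk_orth hpair.blk (h3 ▸ blk_cj hpair.blk g) fun h5 => hgC ?_
        exact ⟨(nilp_abelian hmax hab).1 hnil g ⟨Subgroup.mem_top _, hg, h5.symm⟩,
          Subgroup.mem_top _⟩
      rw [map_mul, ← mul_assoc, comm_of_mem heC h2, mul_assoc, h4, mul_zero]
  set x : MonoidAlgebra k G := b * Tr P ⊤ y with hx
  have hxF : x ∈ Fx k (⊤ : Subgroup G) := mul_mem hbF hTF
  have heb : e * br k P b = e := by
    rw [comm_of_mem heC (Sp_inf (br_mem_Sp P b) (Sp_top _)), hmax.of.br]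
  have h2 : e * br k P x = ν * e := by
    rw [hx, br_mul hP (Fx_mono le_top hbF) (Fx_mono le_top hTF), ← mul_assoc, heb, h1]
  have h3 : ∀ j : ℕ, e * br k P (x ^ j) = ν ^ j * e := by
    intro j
    rw [br_pow hP (Fx_mono le_top hxF)]
    induction j with
    | zero => rw [pow_zero, pow_zero, mul_one, one_mul]
    | succ j ih => rw [pow_succ, ← mul_assoc, ih, mul_assoc, h2, pow_succ, mul_assoc]
  -- nilpotency of ν
  have hνnil : ν ^ Nat.card P = 0 := by
    obtain ⟨m, hm⟩ := hP.exists_card_eq
    have hc : CharP (MonoidAlgebra k G) p := charP_of_injective_algebraMap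
      (FaithfulSMul.algebraMap_injective k (MonoidAlgebra k G)) p
    have h4 : (u : G) ^ (p ^ m) = 1 := by
      rw [← hm]
      exact congrArg (fun z : P => (z : G)) (pow_card_eq_one' (x := u))
    rw [hm, hν, sub_pow_char_pow_of_commute _ _ (Commute.one_right _), H80.ML8.sg_pow, h4, sg_one,
      one_pow, sub_self]
  have hbx : b * x = x := by rw [hx, ← mul_assoc, hbb]
  refine ⟨x, hxF, hbx, ?_, ?_⟩
  · obtain ⟨n, hn, h4⟩ := blk_local p hmax.of.blk (z := x) ⟨hxF, Sp_top _⟩
    rw [hbx] at h4
    rcases h4 with h4 | h4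
    · exact ⟨n, h4⟩
    · exfalso
      have h5 : ∀ m : ℕ, x ^ (n * (m + 1)) = b := by
        intro m
        rw [pow_mul, h4]
        induction m with
        | zero => rw [zero_add, pow_one]
        | succ m ih => rw [pow_succ, ih, hbb]
      have h6 := h3 (n * (Nat.card P + 1))
      rw [h5, heb] at h6
      have h7 : ν ^ (n * (Nat.card P + 1)) = 0 := by
        have : Nat.card P ≤ n * (Nat.card P + 1) := by nlinarith
        obtain ⟨r, hr⟩ := Nat.exists_eq_add_of_le this
        rw [hr, pow_add, hνnil, zero_mul]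
      rw [h7, zero_mul] at h6
      exact hpair.blk.ne h6
  · intro h0
    have h4 := h3 (Nat.card P - 1)
    rw [h0, map_zero, mul_zero] at h4
    obtain ⟨y0, hy0⟩ : ∃ y0, e.coeff y0 ≠ 0 := by
      by_contra hcon
      push Not at hcon
      exact hpair.blk.ne (ext' hcon)
    have hy0r := hreg y0 hy0
    have hy0C := (heS y0 hy0).1
    have h5 : (ν ^ (Nat.card P - 1) * e).coeff y0 = (-1) ^ (Nat.card P - 1) * e.coeff y0 := by
      have hcomm : Commute (sg k (u : G)) (-1 : MonoidAlgebra k G) := (Commute.one_right _).neg_right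
      have hterm : ∀ i, (sg k (u : G) ^ i * (-1 : MonoidAlgebra k G) ^ (Nat.card P - 1 - i) *
          ((Nat.card P - 1).choose i : MonoidAlgebra k G) * e).coeff y0 =
          ((-1) ^ (Nat.card P - 1 - i) * ((Nat.card P - 1).choose i : k)) *
            e.coeff (((u : G) ^ i)⁻¹ * y0) := by
        intro i
        have e1 : sg k (u : G) ^ i * (-1 : MonoidAlgebra k G) ^ (Nat.card P - 1 - i) *
          ((Nat.card P - 1).choose i : MonoidAlgebra k G) * e =
          ((-1) ^ (Nat.card P - 1 - i) * ((Nat.card P - 1).choose i : k)) •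
            (sg k ((u : G) ^ i) * e) := by
          rw [Algebra.smul_def, map_mul, map_pow, map_neg, map_one, map_natCast, H80.ML8.sg_pow,
            mul_assoc (sg k ((u : G) ^ i)), mul_assoc (sg k ((u : G) ^ i)), ← mul_assoc _ _ e,
            ← mul_assoc, ← mul_assoc]
          congr 1
          rw [mul_assoc]
          have h6 : Commute (sg k ((u : G) ^ i)) ((-1 : MonoidAlgebra k G) ^ (Nat.card P - 1 - i) *
              ((Nat.card P - 1).choose i : MonoidAlgebra k G)) :=
            (((Commute.one_right _).neg_right).pow_right _).mul_right (Nat.cast_commute _ _).symm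
          exact h6.eq
        rw [e1]
        show _ * (sg k ((u : G) ^ i) * e).coeff y0 = _
        congr 1
        letI := Fintype.ofFinite G
        rw [coeff_mul', Finset.sum_eq_single ((u : G) ^ i)]
        · rw [MonoidAlgebra.coeff_single, Finsupp.single_eq_same, one_mul]
        · intro z _ hz
          rw [MonoidAlgebra.coeff_single, Finsupp.single_eq_of_ne hz, zero_mul]
        · intro h; exact absurd (Finset.mem_univ _) h
      rw [hν, sub_eq_add_neg, hcomm.add_pow, Finset.sum_mul, H80.GA.coeff_sum',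
        Finset.sum_eq_single 0]
      · rw [hterm 0, Nat.choose_zero_right, Nat.cast_one, mul_one, Nat.sub_zero, pow_zero, inv_one,
          one_mul]
      · intro i hi hi0
        rw [hterm i]
        have hz : e.coeff (((u : G) ^ i)⁻¹ * y0) = 0 := by
          by_contra hne
          refine hreg _ hne ?_
          have hlt : i < Nat.card P := by
            have := Finset.mem_range.1 hi
            have := Nat.card_pos (α := P)
            omega
          have hord : orderOf (u : G) = Nat.card P := by
            rw [Subgroup.orderOf_coe]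
            exact orderOf_eq_card_of_forall_mem_zpowers hu
          have hne1 : ((u : G) ^ i)⁻¹ ≠ 1 := by
            intro h
            rw [inv_eq_one] at h
            have := orderOf_dvd_of_pow_eq_one h
            rw [hord] at this
            exact absurd (Nat.le_of_dvd (Nat.pos_of_ne_zero hi0) this) (by omega)
          obtain ⟨m, hm⟩ := (IsPGroup.iff_orderOf.1 hP) ⟨((u : G) ^ i)⁻¹, inv_mem (pow_mem u.2 i)⟩
          rw [← Subgroup.orderOf_coe] at hm
          have hpd : p ∣ orderOf (((u : G) ^ i)⁻¹) := by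
            have hm' : orderOf (((u : G) ^ i)⁻¹) = p ^ m := hm
            rw [hm']
            refine dvd_pow_self p fun h => hne1 ?_
            rw [h, pow_zero] at hm'
            exact orderOf_eq_one_iff.1 hm'
          have hco : Commute (((u : G) ^ i)⁻¹) y0 :=
            Subgroup.mem_centralizer_iff.1 hy0C _ (inv_mem (pow_mem u.2 i))
          have hcop : Nat.Coprime (orderOf (((u : G) ^ i)⁻¹)) (orderOf y0) := by
            have hm' : orderOf (((u : G) ^ i)⁻¹) = p ^ m := hm
            rw [hm']
            exact Nat.Coprime.pow_left _ ((Nat.Prime.coprime_iff_not_dvd Fact.out).2 hy0r)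
          rw [hco.orderOf_mul_eq_mul_orderOf_of_coprime hcop]
          exact hpd.mul_right _
        rw [hz, mul_zero]
      · intro h; exact absurd (Finset.mem_range.2 (by omega)) h
    rw [← h4] at h5
    have h6 : (-1 : k) ^ (Nat.card P - 1) ≠ 0 := pow_ne_zero _ (neg_ne_zero.2 one_ne_zero)
    exact (mul_ne_zero h6 hy0) h5.symm

end br

end H80.ML16
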