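import Cfsg.Agent.Lib.H80.ML16
import Cfsg.Agent.Lib.H80.BR6

set_option autoImplicit false
set_option linter.unusedSectionVars false
set_option linter.unusedVariables false
set_option linter.style.haveILetI false

/-!
# The radical of a nilpotent block with cyclic defect group
-/

namespace H80.ML17

open Cfsg H20.Loc H20.GA H20.Blk H80.GA H80.GB H80.GD H80.GE H80.BR1 H80.BR6 H84.RG
open H20.BrT H80.ML9 H80.ML13 H80.ML14 H80.ML15 H80.ML16

universe u

variable {M : Ideal AlgInt} [M.IsMaximal] {G : Type u} [Group G] [Finite G] {p : ℕ}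
variable [Fact p.Prime] [CharP (ResF M) p] [Algebra (ZMod p) (ResF M)] [Algebra.IsAlgebraic (ZMod p) (ResF M)]
variable {B : Set (IrrCharacter G)} {P : Subgroup G} {e : MonoidAlgebra (ResF M) G}

theorem block_rad [IsAlgClosed (ResF M)] (hM : IsPModular p M) (hmax : IsMax p ⊤ (ebar M B) P e)
    (hB : IsPBlock M B) (hnil : H80.FS3.Nilp p ⊤ (ebar M B)) (hcyc : IsCyclic P)
    (D : Dat (ResF M) (KG M G)) :
    ∃ i, D.π (ebar M B) i = 1 ∧ (∀ j, j ≠ i → D.π (ebar M B) j = 0) ∧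
      ∃ x ∈ Fx (ResF M) (⊤ : Subgroup G), ebar M B * x = x ∧ IsNilpotent x ∧
        ∀ a, ebar M B * a = a → D.π a i = 0 → ∃ a', a = x * a' := by
  have hab : ∀ x ∈ P, ∀ y ∈ P, x * y = y * x := by
    intro x hx y hy
    have : (⟨x, hx⟩ : P) * ⟨y, hy⟩ = ⟨y, hy⟩ * ⟨x, hx⟩ := IsCyclic.commGroup.mul_comm _ _
    exact congrArg Subtype.val this
  obtain ⟨i, hi, huniq, hdeg, hcard⟩ := nil_simple hM hmax hB hnil hab D
  have hei : D.π (ebar M B) i = 1 := InB.eq_one hB hi
  have he : ∀ j, j ≠ i → D.π (ebar M B) j = 0 := by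
    intro j hj
    by_contra hne
    exact hj (huniq j hne)
  obtain ⟨x, hxF, hbx, hnilx, hpow⟩ := exists_x (p := p) hmax hcyc hnil (fun x hx hp =>
    hx (osima hM hmax.of.pair.blk.mem hmax.of.pair.blk.idem hp))
  refine ⟨i, hei, he, x, hxF, hbx, hnilx, ?_⟩
  refine ker_eq D i (q := Nat.card P - 1) (ebar_comm hB) (ebar_isIdem hB) he hei
    (fun a => comm_of_mem hxF (Sp_top a)) hbx hnilx hpow ?_
  have h1 := finrank_ebar_le hM hB hdeg
  rw [hcard] at h1
  rw [Nat.sub_add_cancel Nat.card_pos]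
  exact h1

end H80.ML17
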