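import Cfsg.Agent.Lib.H80.ML1

set_option autoImplicit false
set_option linter.unusedSectionVars false
set_option linter.unusedVariables false

/-!
# Projective maps and local summands
-/

namespace H80.ML2

open H80.ML1 MonoidAlgebra

universe w1 w2

variable {k : Type w1} {X : Type w2} [Field k] [Group X]

/-- group element in the group algebra -/
noncomputable abbrev sg (k : Type*) {X : Type*} [Field k] [Group X] (g : X) : MonoidAlgebra k X :=
  single g (1 : k)

lemma sg_mul (g h : X) : sg k g * sg k h = sg k (g * h) := by simp [sg, single_mul_single]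

lemma sg_one : sg k (1 : X) = 1 := rfl

section
variable {V T W : Type*} [AddCommGroup V] [Module k V] [Module (MonoidAlgebra k X) V]
  [IsScalarTower k (MonoidAlgebra k X) V] [AddCommGroup T] [Module k T]
  [Module (MonoidAlgebra k X) T] [IsScalarTower k (MonoidAlgebra k X) T]
  [AddCommGroup W] [Module k W] [Module (MonoidAlgebra k X) W]
  [IsScalarTower k (MonoidAlgebra k X) W]

lemma smul_k' (x : MonoidAlgebra k X) (c : k) (v : V) : x • c • v = c • x • v := smul_k x c v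

/-- scalar multiple of a linear map -/
noncomputable def smulMap (c : k) (f : V →ₗ[MonoidAlgebra k X] T) : V →ₗ[MonoidAlgebra k X] T where
  toFun v := c • f v
  map_add' u v := by rw [map_add, smul_add]
  map_smul' a v := by rw [map_smul, RingHom.id_apply, smul_k']

lemma smulMap_apply (c : k) (f : V →ₗ[MonoidAlgebra k X] T) (v : V) : smulMap c f v = c • f v := rfl

/-- a `Λ`-linear map is `k`-linear -/
noncomputable def lk (φ : W →ₗ[MonoidAlgebra k X] V) : W →ₗ[k] V where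
  toFun := φ
  map_add' := φ.map_add
  map_smul' c v := by
    rw [← algebraMap_smul (MonoidAlgebra k X) c v, map_smul, algebraMap_smul, RingHom.id_apply]

variable [Fintype X]

/-- maps factoring through a projective: traces of linear maps -/
def Pj (f : V →ₗ[MonoidAlgebra k X] T) : Prop :=
  ∃ θ : V →ₗ[k] T, ∀ v, f v = ∑ g : X, sg k g • θ (sg k g⁻¹ • v)

lemma pj_zero : Pj (0 : V →ₗ[MonoidAlgebra k X] T) := ⟨0, fun v => by simp⟩

lemma Pj.add {f g : V →ₗ[MonoidAlgebra k X] T} (hf : Pj f) (hg : Pj g) : Pj (f + g) := by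
  obtain ⟨θ, hθ⟩ := hf
  obtain ⟨η, hη⟩ := hg
  refine ⟨θ + η, fun v => ?_⟩
  rw [LinearMap.add_apply, hθ, hη, ← Finset.sum_add_distrib]
  exact Finset.sum_congr rfl fun g _ => by rw [LinearMap.add_apply, smul_add]

lemma Pj.neg {f : V →ₗ[MonoidAlgebra k X] T} (hf : Pj f) : Pj (-f) := by
  obtain ⟨θ, hθ⟩ := hf
  refine ⟨-θ, fun v => ?_⟩
  rw [LinearMap.neg_apply, hθ, ← Finset.sum_neg_distrib]
  exact Finset.sum_congr rfl fun g _ => by rw [LinearMap.neg_apply, smul_neg]

lemma Pj.sub {f g : V →ₗ[MonoidAlgebra k X] T} (hf : Pj f) (hg : Pj g) : Pj (f - g) := by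
  rw [sub_eq_add_neg]; exact hf.add hg.neg

lemma Pj.smul {f : V →ₗ[MonoidAlgebra k X] T} (hf : Pj f) (c : k) : Pj (smulMap c f) := by
  obtain ⟨θ, hθ⟩ := hf
  refine ⟨c • θ, fun v => ?_⟩
  rw [smulMap_apply, hθ, Finset.smul_sum]
  exact Finset.sum_congr rfl fun g _ => by rw [LinearMap.smul_apply, smul_k']

lemma pj_of_smul {f : V →ₗ[MonoidAlgebra k X] T} {c : k} (hc : c ≠ 0) (hf : Pj (smulMap c f)) :
    Pj f := by
  have h := hf.smul c⁻¹
  have : smulMap c⁻¹ (smulMap c f) = f := by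
    ext v
    rw [smulMap_apply, smulMap_apply, smul_smul, inv_mul_cancel₀ hc, one_smul]
  rwa [this] at h

lemma Pj.comp_right {f : V →ₗ[MonoidAlgebra k X] T} (hf : Pj f)
    (φ : W →ₗ[MonoidAlgebra k X] V) : Pj (f ∘ₗ φ) := by
  obtain ⟨θ, hθ⟩ := hf
  refine ⟨θ ∘ₗ lk φ, fun v => ?_⟩
  rw [LinearMap.comp_apply, hθ]
  refine Finset.sum_congr rfl fun g _ => ?_
  show sg k g • θ (sg k g⁻¹ • φ v) = sg k g • θ (φ (sg k g⁻¹ • v))
  rw [φ.map_smul]

lemma Pj.comp_left {f : W →ₗ[MonoidAlgebra k X] V} (hf : Pj f)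
    (φ : V →ₗ[MonoidAlgebra k X] T) : Pj (φ ∘ₗ f) := by
  obtain ⟨θ, hθ⟩ := hf
  refine ⟨lk φ ∘ₗ θ, fun v => ?_⟩
  rw [LinearMap.comp_apply, hθ, map_sum]
  refine Finset.sum_congr rfl fun g _ => ?_
  show φ (sg k g • θ (sg k g⁻¹ • v)) = sg k g • φ (θ (sg k g⁻¹ • v))
  rw [φ.map_smul]

end

lemma ker_of_local {Λ U T : Type*} [Ring Λ] [AddCommGroup U] [Module Λ U] [AddCommGroup T]
    [Module Λ T] [IsSimpleModule Λ T]
    {K : Submodule Λ U} (hK : K < ⊤) (hloc : ∀ W : Submodule Λ U, W < ⊤ → W ≤ K)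
    (g : U →ₗ[Λ] T) (hg : g ≠ 0) : Function.Surjective g ∧ LinearMap.ker g = K := by
  have hs : Function.Surjective g := LinearMap.surjective_of_ne_zero hg
  refine ⟨hs, ?_⟩
  have hlt : LinearMap.ker g < ⊤ := by
    rw [lt_top_iff_ne_top]
    intro h
    exact hg (LinearMap.ker_eq_top.1 h)
  apply le_antisymm (hloc _ hlt)
  rcases eq_bot_or_eq_top (K.map g) with h | h
  · exact LinearMap.le_ker_iff_map.2 h
  · exfalso
    have h3 : K ⊔ LinearMap.ker g = ⊤ := by
      rw [← Submodule.comap_map_eq, h, Submodule.comap_top]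
    rw [sup_eq_left.2 (hloc _ hlt)] at h3
    exact hK.ne h3

/-- a local module has only one simple quotient -/
lemma iso_of_local {Λ U T1 T2 : Type*} [Ring Λ] [AddCommGroup U] [Module Λ U] [AddCommGroup T1]
    [Module Λ T1] [AddCommGroup T2] [Module Λ T2] [IsSimpleModule Λ T1] [IsSimpleModule Λ T2]
    {K : Submodule Λ U} (hK : K < ⊤) (hloc : ∀ W : Submodule Λ U, W < ⊤ → W ≤ K)
    {g1 : U →ₗ[Λ] T1} {g2 : U →ₗ[Λ] T2} (h1 : g1 ≠ 0) (h2 : g2 ≠ 0) : Nonempty (T1 ≃ₗ[Λ] T2) := by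
  obtain ⟨s1, k1⟩ := ker_of_local hK hloc g1 h1
  obtain ⟨s2, k2⟩ := ker_of_local hK hloc g2 h2
  exact ⟨(LinearMap.quotKerEquivOfSurjective g1 s1).symm.trans
    ((Submodule.quotEquivOfEq _ _ (k1.trans k2.symm)).trans
      (LinearMap.quotKerEquivOfSurjective g2 s2))⟩

/-- the same for a submodule -/
lemma iso_of_local_sub {Λ V T1 T2 : Type*} [Ring Λ] [AddCommGroup V] [Module Λ V] [AddCommGroup T1]
    [Module Λ T1] [AddCommGroup T2] [Module Λ T2] [IsSimpleModule Λ T1] [IsSimpleModule Λ T2]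
    {U K : Submodule Λ V} (hK : K < U) (hloc : ∀ W : Submodule Λ V, W < U → W ≤ K)
    {g1 : U →ₗ[Λ] T1} {g2 : U →ₗ[Λ] T2} (h1 : g1 ≠ 0) (h2 : g2 ≠ 0) : Nonempty (T1 ≃ₗ[Λ] T2) := by
  have e1 : (K.comap U.subtype).map U.subtype = K := by
    rw [Submodule.map_comap_subtype, inf_eq_right.2 hK.le]
  refine iso_of_local (K := K.comap U.subtype) ?_ ?_ h1 h2
  · rw [lt_top_iff_ne_top]
    intro h
    have := congrArg (Submodule.map U.subtype) h
    rw [e1, Submodule.map_top, Submodule.range_subtype] at this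
    exact hK.ne this
  · intro W hW
    have hWU : W.map U.subtype < U := by
      refine lt_of_le_of_ne (Submodule.map_subtype_le _ _) ?_
      intro h
      refine hW.ne ?_
      rw [eq_top_iff]
      intro x _
      have hx : (x : V) ∈ W.map U.subtype := by rw [h]; exact x.2
      obtain ⟨y, hy, hyx⟩ := Submodule.mem_map.1 hx
      have : y = x := Subtype.ext hyx
      rwa [this] at hy
    intro w hw
    exact hloc _ hWU (Submodule.mem_map.2 ⟨w, hw, rfl⟩)

/-- decomposition property of a module -/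
def Dec (k : Type*) {X : Type*} [Field k] [Group X] (V : Type*) [AddCommGroup V]
    [Module (MonoidAlgebra k X) V] : Prop :=
  ∃ U V' : Submodule (MonoidAlgebra k X) V, IsCompl U V' ∧ ∃ K, K < U ∧ ∀ W, W < U → W ≤ K

universe v

theorem exists_local_map [Fintype X] {T1 T2 : Type*} [AddCommGroup T1] [Module k T1]
    [Module (MonoidAlgebra k X) T1] [IsScalarTower k (MonoidAlgebra k X) T1] [AddCommGroup T2]
    [Module (MonoidAlgebra k X) T2] [IsSimpleModule (MonoidAlgebra k X) T1]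
    [IsSimpleModule (MonoidAlgebra k X) T2] (β : MonoidAlgebra k X)
    (hD : ∀ (V : Type v) [AddCommGroup V] [Module k V] [Module (MonoidAlgebra k X) V]
      [IsScalarTower k (MonoidAlgebra k X) V] [FiniteDimensional k V] [Nontrivial V],
      (∀ v : V, β • v = v) → Dec k (X := X) V) (n : ℕ) :
    ∀ (V : Type v) [AddCommGroup V] [Module k V] [Module (MonoidAlgebra k X) V]
      [IsScalarTower k (MonoidAlgebra k X) V] [FiniteDimensional k V]
      (hβ : ∀ v : V, β • v = v) (hn : Module.finrank k V = n)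
      (f : V →ₗ[MonoidAlgebra k X] T1) (hf : ¬ Pj f),
      ∃ π : V →ₗ[MonoidAlgebra k X] V, ¬ Pj (f ∘ₗ π) ∧
        ∀ (g1 : V →ₗ[MonoidAlgebra k X] T1) (g2 : V →ₗ[MonoidAlgebra k X] T2),
          g1 ∘ₗ π ≠ 0 → g2 ∘ₗ π ≠ 0 → Nonempty (T1 ≃ₗ[MonoidAlgebra k X] T2) := by
  induction n using Nat.strong_induction_on with
  | _ n ih =>
  intro V _ _ _ _ _ hβ hn f hf
  have hnt : Nontrivial V := by
    by_contra hcon
    rw [not_nontrivial_iff_subsingleton] at hcon
    apply hf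
    have : f = 0 := by
      ext v
      rw [Subsingleton.elim v 0, map_zero, map_zero]
    rw [this]; exact pj_zero
  obtain ⟨U, V', hUV, K, hKU, hloc⟩ := hD V hβ
  set pU := U.projectionOnto V' hUV with hpU
  set pV := V'.projectionOnto U hUV.symm with hpV
  have hsum : f = f ∘ₗ (U.subtype ∘ₗ pU) + (f ∘ₗ V'.subtype) ∘ₗ pV := by
    ext v
    show f v = f (pU v : V) + f (pV v : V)
    rw [← map_add]
    congr 1
    exact (Submodule.projection_add_projection_eq_self hUV v).symm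
  by_cases hU : Pj (f ∘ₗ (U.subtype ∘ₗ pU))
  · have hV : ¬ Pj (f ∘ₗ V'.subtype) := by
      intro h
      apply hf
      rw [hsum]
      exact hU.add (h.comp_right pV)
    have hfd : FiniteDimensional k V' := fd_sub k V'
    have hlt : Module.finrank k V' < n := by
      rw [← hn]
      have hV't : V'.restrictScalars k < ⊤ := by
        rw [lt_top_iff_ne_top]
        intro h
        rw [Submodule.restrictScalars_eq_top_iff] at h
        have h1 := hUV.disjoint
        rw [h, disjoint_top] at h1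
        rw [h1] at hKU
        exact not_lt_bot hKU
      exact Submodule.finrank_lt (K := k) hV't.ne
    obtain ⟨π, hπ1, hπ2⟩ := ih _ hlt V' (fun v => Subtype.ext (hβ v)) rfl (f ∘ₗ V'.subtype) hV
    refine ⟨V'.subtype ∘ₗ π ∘ₗ pV, ?_, ?_⟩
    · intro h
      apply hπ1
      have h2 := h.comp_right V'.subtype
      have h3 : (f ∘ₗ V'.subtype ∘ₗ π ∘ₗ pV) ∘ₗ V'.subtype = (f ∘ₗ V'.subtype) ∘ₗ π := by
        ext v
        show f (π (pV (v : V)) : V) = f (π v : V)
        rw [hpV, Submodule.projectionOnto_apply_left]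
      rwa [h3] at h2
    · intro g1 g2 h1 h2
      refine hπ2 (g1 ∘ₗ V'.subtype) (g2 ∘ₗ V'.subtype) ?_ ?_
      · intro h0
        apply h1
        have : g1 ∘ₗ V'.subtype ∘ₗ π ∘ₗ pV = ((g1 ∘ₗ V'.subtype) ∘ₗ π) ∘ₗ pV := rfl
        rw [this, h0, LinearMap.zero_comp]
      · intro h0
        apply h2
        have : g2 ∘ₗ V'.subtype ∘ₗ π ∘ₗ pV = ((g2 ∘ₗ V'.subtype) ∘ₗ π) ∘ₗ pV := rfl
        rw [this, h0, LinearMap.zero_comp]
  · refine ⟨U.subtype ∘ₗ pU, hU, ?_⟩
    intro g1 g2 h1 h2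
    refine iso_of_local_sub hKU hloc (g1 := g1 ∘ₗ U.subtype) (g2 := g2 ∘ₗ U.subtype) ?_ ?_
    · intro h0
      apply h1
      have : g1 ∘ₗ U.subtype ∘ₗ pU = (g1 ∘ₗ U.subtype) ∘ₗ pU := rfl
      rw [this, h0, LinearMap.zero_comp]
    · intro h0
      apply h2
      have : g2 ∘ₗ U.subtype ∘ₗ pU = (g2 ∘ₗ U.subtype) ∘ₗ pU := rfl
      rw [this, h0, LinearMap.zero_comp]

/-- **uniqueness of the stable top** -/
theorem top_unique [Fintype X] {T1 T2 : Type*} [AddCommGroup T1] [Module k T1]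
    [Module (MonoidAlgebra k X) T1] [IsScalarTower k (MonoidAlgebra k X) T1] [AddCommGroup T2]
    [Module k T2] [Module (MonoidAlgebra k X) T2] [IsScalarTower k (MonoidAlgebra k X) T2]
    [IsSimpleModule (MonoidAlgebra k X) T1]
    [IsSimpleModule (MonoidAlgebra k X) T2] (β : MonoidAlgebra k X)
    (hD : ∀ (V : Type v) [AddCommGroup V] [Module k V] [Module (MonoidAlgebra k X) V]
      [IsScalarTower k (MonoidAlgebra k X) V] [FiniteDimensional k V] [Nontrivial V],
      (∀ v : V, β • v = v) → Dec k (X := X) V) 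
    (V : Type v) [AddCommGroup V] [Module k V] [Module (MonoidAlgebra k X) V]
      [IsScalarTower k (MonoidAlgebra k X) V] [FiniteDimensional k V]
      (hβ : ∀ v : V, β • v = v)
      (hend : ∀ φ : V →ₗ[MonoidAlgebra k X] V, ∃ c : k, Pj (φ - smulMap c LinearMap.id))
      (f1 : V →ₗ[MonoidAlgebra k X] T1) (hf1 : ¬ Pj f1)
      (f2 : V →ₗ[MonoidAlgebra k X] T2) (hf2 : ¬ Pj f2) :
    Nonempty (T1 ≃ₗ[MonoidAlgebra k X] T2) := by
  obtain ⟨π, hπ1, hπ2⟩ := exists_local_map (T2 := T2) β hD _ V hβ rfl f1 hf1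
  obtain ⟨c, hc⟩ := hend π
  have e1 : f1 ∘ₗ π = smulMap c f1 + f1 ∘ₗ (π - smulMap c LinearMap.id) := by
    ext v
    show f1 (π v) = c • f1 v + f1 (π v - c • v)
    rw [map_sub, show f1 (c • v) = c • f1 v from (lk f1).map_smul c v]
    abel
  have e2 : f2 ∘ₗ π = smulMap c f2 + f2 ∘ₗ (π - smulMap c LinearMap.id) := by
    ext v
    show f2 (π v) = c • f2 v + f2 (π v - c • v)
    rw [map_sub, show f2 (c • v) = c • f2 v from (lk f2).map_smul c v]
    abel
  have hc0 : c ≠ 0 := by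
    rintro rfl
    apply hπ1
    rw [e1]
    refine Pj.add ?_ (hc.comp_left f1)
    have : smulMap (0 : k) f1 = 0 := by
      ext v; exact zero_smul k _
    rw [this]; exact pj_zero
  refine hπ2 f1 f2 ?_ ?_
  · intro h0
    apply hπ1
    rw [h0]; exact pj_zero
  · intro h0
    apply hf2
    refine pj_of_smul hc0 ?_
    have : smulMap c f2 = f2 ∘ₗ π - f2 ∘ₗ (π - smulMap c LinearMap.id) := by rw [e2]; abel
    rw [this, h0]
    exact pj_zero.sub (hc.comp_left f2)

end H80.ML2
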