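import Cfsg.Agent.Lib.H80.ML4
import Cfsg.Agent.Lib.H80.ML2

set_option autoImplicit false
set_option linter.unusedSectionVars false
set_option linter.unusedVariables false
set_option linter.style.haveILetI false

/-!
# Stable endomorphisms of simple modules
-/

namespace H80.ML5

open H80.GA H80.GB H80.GC H80.GD H80.GE H80.GH H80.GK H80.ML1 H80.ML2 H80.ML3 H80.ML4 MonoidAlgebra
open scoped Pointwise

/-- sum of an equivariant function over a free action -/
theorem free_sum {N Ω M : Type*} [Group N] [Fintype N] [MulAction N Ω] [Fintype Ω]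
    [AddCommMonoid M] (act : N → M →+ M) (Φ : Ω → M)
    (hΦ : ∀ g ω, Φ (g • ω) = act g (Φ ω)) (hfree : ∀ (g : N) (ω : Ω), g • ω = ω → g = 1) :
    ∃ h, ∑ ω, Φ ω = ∑ g, act g h := by
  classical
  let Q := MulAction.orbitRel.Quotient N Ω
  have : Fintype Q := Fintype.ofFinite Q
  refine ⟨∑ q : Q, Φ q.out, ?_⟩
  have e1 : ∑ g : N, act g (∑ q : Q, Φ q.out) = ∑ x : N × Q, Φ (x.1 • x.2.out) := by
    rw [Fintype.sum_prod_type]
    refine Finset.sum_congr rfl fun g _ => ?_
    rw [map_sum]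
    exact Finset.sum_congr rfl fun q _ => (hΦ g _).symm
  rw [e1]
  symm
  refine Fintype.sum_bijective (fun x : N × Q => x.1 • x.2.out) ⟨?_, ?_⟩ _ _ (fun x => rfl)
  · rintro ⟨g, q⟩ ⟨h, r⟩ hgh
    have hgh' : g • q.out = h • r.out := hgh
    have hq : q = r := by
      rw [← Quotient.out_eq' q, ← Quotient.out_eq' r]
      apply Quotient.sound'
      show MulAction.orbitRel N Ω _ _
      rw [MulAction.orbitRel_apply]
      refine ⟨g⁻¹ * h, ?_⟩
      show (g⁻¹ * h) • r.out = q.out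
      rw [mul_smul, ← hgh', inv_smul_smul]
    subst hq
    have h1 : (h⁻¹ * g) • q.out = q.out := by rw [mul_smul, hgh', inv_smul_smul]
    have h2 := hfree _ _ h1
    have h3 : g = h := by
      rw [inv_mul_eq_one] at h2; exact h2.symm
    rw [h3]
  · intro ω
    have h1 : (Quotient.mk'' ω : Q).out ∈ MulAction.orbit N ω := by
      rw [← MulAction.orbitRel_apply]
      exact Quotient.exact' (Quotient.out_eq' _)
    obtain ⟨g, hg⟩ := h1
    refine ⟨(g⁻¹, Quotient.mk'' ω), ?_⟩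
    show g⁻¹ • (Quotient.mk'' ω : Q).out = ω
    rw [← hg]
    exact inv_smul_smul g ω

section
variable {k G S : Type*} [Field k] [Group G] [AddCommGroup S] [Module k S]
  [Module (MonoidAlgebra k G) S] [IsScalarTower k (MonoidAlgebra k G) S]

variable (k) in
/-- multiplication, `k`-linear -/
noncomputable def lm (b : MonoidAlgebra k G) : S →ₗ[k] S where
  toFun s := b • s
  map_add' := smul_add b
  map_smul' c s := smul_k' b c s

lemma lm_apply (b : MonoidAlgebra k G) (s : S) : lm k b s = b • s := rfl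

lemma lm_mul (a b : MonoidAlgebra k G) : (lm k (a * b) : S →ₗ[k] S) = lm k a ∘ₗ lm k b := by
  ext s; exact mul_smul a b s

variable (k S) in
/-- conjugation of endomorphisms -/
noncomputable def cjE (g : G) : (S →ₗ[k] S) →+ (S →ₗ[k] S) where
  toFun θ := lm k (sg k g) ∘ₗ θ ∘ₗ lm k (sg k g⁻¹)
  map_zero' := by ext s; simp
  map_add' θ η := by ext s; simp [lm_apply, smul_add]

lemma cjE_apply (g : G) (θ : S →ₗ[k] S) (s : S) :
    cjE k S g θ s = sg k g • θ (sg k g⁻¹ • s) := rfl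

lemma cjE_mul (g h : G) (θ : S →ₗ[k] S) : cjE k S (g * h) θ = cjE k S g (cjE k S h θ) := by
  ext s
  simp only [cjE_apply]
  rw [← mul_smul, ← mul_smul, sg_mul, sg_mul, mul_inv_rev]

lemma cjE_comp (g : G) (θ η : S →ₗ[k] S) :
    cjE k S g (θ ∘ₗ η) = cjE k S g θ ∘ₗ cjE k S g η := by
  ext s
  simp only [cjE_apply, LinearMap.comp_apply]
  rw [← mul_smul (sg k g⁻¹) (sg k g), sg_mul, inv_mul_cancel, sg_one, one_smul]

lemma cj_eq (g : G) (b : MonoidAlgebra k G) : cj g b = sg k g * b * sg k g⁻¹ := by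
  have h := H80.GG.cj_eq_conj g b
  calc cj g b = cj g b * (sg k g * sg k g⁻¹) := by rw [sg_mul, mul_inv_cancel, sg_one, mul_one]
    _ = sg k g * b * sg k g⁻¹ := by rw [← mul_assoc, h]

lemma lm_cj (g : G) (b : MonoidAlgebra k G) :
    (lm k (cj g b) : S →ₗ[k] S) = cjE k S g (lm k b) := by
  ext s
  rw [cj_eq, lm_apply, cjE_apply, lm_apply, mul_smul, mul_smul]

lemma cjE_one (θ : S →ₗ[k] S) : cjE k S (1 : G) θ = θ := by
  ext s
  rw [cjE_apply, inv_one, sg_one, one_smul, one_smul]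

lemma cjE_eq_iff (g : G) (θ : S →ₗ[k] S) :
    cjE k S g θ = θ ↔ ∀ s, θ (sg k g • s) = sg k g • θ s := by
  constructor
  · intro h s
    have := congrArg (fun φ : S →ₗ[k] S => φ (sg k g • s)) h
    simp only [cjE_apply] at this
    rw [← mul_smul (sg k g⁻¹), sg_mul, inv_mul_cancel, sg_one, one_smul] at this
    exact this.symm
  · intro h
    ext s
    rw [cjE_apply, ← h, ← mul_smul, sg_mul, mul_inv_cancel, sg_one, one_smul]

/-- a linear map commuting with the group is linear over the group algebra -/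
lemma map_smul_of_comm {T : Type*} [AddCommGroup T] [Module k T] [Module (MonoidAlgebra k G) T]
    [IsScalarTower k (MonoidAlgebra k G) T] (θ : S →ₗ[k] T)
    (h : ∀ (g : G) s, θ (sg k g • s) = sg k g • θ s) (a : MonoidAlgebra k G) (s : S) :
    θ (a • s) = a • θ s := by
  induction a using MonoidAlgebra.induction_linear with
  | zero => rw [zero_smul, zero_smul, map_zero]
  | add f g hf hg => rw [add_smul, add_smul, map_add, hf, hg]
  | single g r =>
    have : single g r = r • sg k g := by simp [sg]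
    rw [this, smul_assoc, map_smul, h, smul_assoc]

end

section
variable {k G S : Type*} [Field k] [Group G] [Finite G] [AddCommGroup S] [Module k S]
  [Module (MonoidAlgebra k G) S] [IsScalarTower k (MonoidAlgebra k G) S]

/-- invariance of a full coset sum -/
lemma csum_inv {D : Subgroup G} {f0 : S →ₗ[k] S} (hinv : Inv D (fun g => cjE k S g f0)) (g : G) :
    cjE k S g (csum D ⊤ (fun x => cjE k S x f0)) = csum D ⊤ (fun x => cjE k S x f0) := by
  classical
  have := Fintype.ofFinite (G ⧸ D)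
  rw [csum_eq, map_sum]
  refine Finset.sum_bij (fun y _ => g • y) (fun y _ => by simp) (fun y _ z _ h => smul_left_cancel g h)
    (fun y _ => ⟨g⁻¹ • y, by simp, smul_inv_smul g y⟩) ?_
  intro y _
  have : g • y = (QuotientGroup.mk (g * y.out) : G ⧸ D) := by
    conv_lhs => rw [← QuotientGroup.out_eq' y]
    rfl
  rw [this, ← cjE_mul]
  exact (hinv.out _).symm

/-- the free part -/
theorem free_part {D N L : Subgroup G} (hDN : D ≤ N) (hNL : N ≤ L) [Fintype N]
    (h1 : ∀ g, g ∉ L → D ⊓ cs g D = ⊥)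
    {a : MonoidAlgebra k G} (ha : a ∈ Fx k D) {f0 : S →ₗ[k] S}
    (hinv : Inv D (fun g => cjE k S g f0)) [Fintype (G ⧸ D)]
    [DecidablePred (fun q : (G ⧸ D) × (G ⧸ D) => q.1.out ∈ N ∧ q.1.out⁻¹ * q.2.out ∉ L)] :
    ∃ h : S →ₗ[k] S, ∑ q ∈ Finset.univ.filter
      (fun q : (G ⧸ D) × (G ⧸ D) => q.1.out ∈ N ∧ q.1.out⁻¹ * q.2.out ∉ L),
        lm k (cj q.1.out a) ∘ₗ cjE k S q.2.out f0 = ∑ g : N, cjE k S (g : G) h := by
  classical
  let Ω := {q : (G ⧸ D) × (G ⧸ D) // q.1.out ∈ N ∧ q.1.out⁻¹ * q.2.out ∉ L}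
  have hmk : ∀ (n : G) (y : G ⧸ D), ∃ d ∈ D, (n • y).out = n * y.out * d := by
    intro n y
    have h3 : n • y = (QuotientGroup.mk (n * y.out) : G ⧸ D) := by
      conv_lhs => rw [← QuotientGroup.out_eq' y]
      rfl
    obtain ⟨d, hd⟩ := QuotientGroup.mk_out_eq_mul D (n * y.out)
    exact ⟨d, d.2, by rw [h3, hd]⟩
  have hmem : ∀ (n : N) (q : (G ⧸ D) × (G ⧸ D)), (q.1.out ∈ N ∧ q.1.out⁻¹ * q.2.out ∉ L) →
      (((n : G) • q.1).out ∈ N ∧ ((n : G) • q.1).out⁻¹ * ((n : G) • q.2).out ∉ L) := by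
    intro n q hq
    obtain ⟨d, hd, e1⟩ := hmk n q.1
    obtain ⟨d', hd', e2⟩ := hmk n q.2
    rw [e1, e2]
    refine ⟨mul_mem (mul_mem n.2 hq.1) (hDN hd), ?_⟩
    intro hcon
    apply hq.2
    have h3 : ((n : G) * q.1.out * d)⁻¹ * ((n : G) * q.2.out * d') =
        d⁻¹ * (q.1.out⁻¹ * q.2.out) * d' := by group
    rw [h3] at hcon
    have h4 := (Subgroup.mul_mem_cancel_right L (hNL (hDN hd'))).1 hcon
    exact (Subgroup.mul_mem_cancel_left L (inv_mem (hNL (hDN hd)))).1 h4
  let act : MulAction N Ω :=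
    { smul := fun n q => ⟨((n : G) • q.1.1, (n : G) • q.1.2), hmem n q.1 q.2⟩
      one_smul := fun q => Subtype.ext (Prod.ext (one_smul G _) (one_smul G _))
      mul_smul := fun m n q => Subtype.ext (Prod.ext (mul_smul (m : G) (n : G) q.1.1)
        (mul_smul (m : G) (n : G) q.1.2)) }
  have hA : ∀ (g : N) (q : Ω), lm k (cj (((g : G) • q.1.1).out) a) ∘ₗ cjE k S (((g : G) • q.1.2).out) f0 =
      cjE k S (g : G) (lm k (cj q.1.1.out a) ∘ₗ cjE k S q.1.2.out f0) := by
    intro g q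
    obtain ⟨d, hd, e1⟩ := hmk g q.1.1
    obtain ⟨d', hd', e2⟩ := hmk g q.1.2
    have e3 : cjE k S ((g : G) * q.1.2.out * d') f0 = cjE k S ((g : G) * q.1.2.out) f0 :=
      hinv _ d' hd'
    rw [e1, e2, cj_mul _ d, ha d hd, e3, cjE_comp, ← lm_cj, ← cj_mul, ← cjE_mul]
  have hB : ∀ (g : N) (q : Ω), g • q = q → g = 1 := by
    intro g q hgq
    have e1 : (g : G) • q.1.1 = q.1.1 := congrArg (fun r : Ω => r.1.1) hgq
    have e2 : (g : G) • q.1.2 = q.1.2 := congrArg (fun r : Ω => r.1.2) hgq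
    have key : ∀ y : G ⧸ D, (g : G) • y = y → y.out⁻¹ * g * y.out ∈ D := by
      intro y hy
      have h3 : (QuotientGroup.mk ((g : G) * y.out) : G ⧸ D) = QuotientGroup.mk y.out := by
        rw [QuotientGroup.out_eq']
        conv_rhs => rw [← hy]
        conv_rhs => rw [← QuotientGroup.out_eq' y]
        rfl
      have h4 := QuotientGroup.eq.1 h3.symm
      rwa [← mul_assoc] at h4
    have h5 := key _ e1
    have h6 := key _ e2
    have h7 : q.1.1.out⁻¹ * g * q.1.1.out ∈ D ⊓ cs (q.1.1.out⁻¹ * q.1.2.out) D := by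
      refine ⟨h5, ?_⟩
      show _ ∈ cs (q.1.1.out⁻¹ * q.1.2.out) D
      rw [mem_cs]
      have : (q.1.1.out⁻¹ * q.1.2.out)⁻¹ * (q.1.1.out⁻¹ * g * q.1.1.out) *
          (q.1.1.out⁻¹ * q.1.2.out) = q.1.2.out⁻¹ * g * q.1.2.out := by group
      rw [this]; exact h6
    rw [h1 _ q.2.2, Subgroup.mem_bot] at h7
    have h8 : (g : G) = 1 := by
      have : (g : G) = q.1.1.out * (q.1.1.out⁻¹ * g * q.1.1.out) * q.1.1.out⁻¹ := by group
      rw [this, h7]; group
    exact Subtype.ext h8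
  obtain ⟨h, hh⟩ := free_sum (N := N) (Ω := Ω) (fun g : N => cjE k S (g : G))
    (fun q : Ω => lm k (cj q.1.1.out a) ∘ₗ cjE k S q.1.2.out f0) hA hB
  refine ⟨h, ?_⟩
  rw [← hh]
  exact (Finset.sum_subtype (p := fun q : (G ⧸ D) × (G ⧸ D) =>
      q.1.out ∈ N ∧ q.1.out⁻¹ * q.2.out ∉ L) _ (fun q => by simp) (fun q => lm k (cj q.1.out a) ∘ₗ cjE k S q.2.out f0))

lemma sum_comp' {ι : Type*} (s : Finset ι) (F : ι → (S →ₗ[k] S)) (θ : S →ₗ[k] S) :
    (∑ i ∈ s, F i) ∘ₗ θ = ∑ i ∈ s, F i ∘ₗ θ := by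
  ext x
  rw [LinearMap.comp_apply, LinearMap.sum_apply, LinearMap.sum_apply]
  rfl

lemma comp_sum' {ι : Type*} (s : Finset ι) (F : ι → (S →ₗ[k] S)) (θ : S →ₗ[k] S) :
    θ ∘ₗ (∑ i ∈ s, F i) = ∑ i ∈ s, θ ∘ₗ F i := by
  ext x
  rw [LinearMap.comp_apply, LinearMap.sum_apply, LinearMap.sum_apply, map_sum]
  rfl

/-- Schur's lemma -/
theorem schur [IsAlgClosed k] [FiniteDimensional k S] [IsSimpleModule (MonoidAlgebra k G) S]
    (F : S →ₗ[k] S) (hF : ∀ g : G, cjE k S g F = F) : ∃ c : k, ∀ s, F s = c • s := by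
  have hnt : Nontrivial S := IsSimpleModule.nontrivial (MonoidAlgebra k G) S
  obtain ⟨c, hc⟩ := Module.End.exists_eigenvalue F
  obtain ⟨v, hv, hv0⟩ := hc.exists_hasEigenvector
  rw [Module.End.mem_eigenspace_iff] at hv
  let W : Submodule (MonoidAlgebra k G) S :=
    { carrier := {s | F s = c • s}
      add_mem' := fun {x y} hx hy => by
        show F (x + y) = c • (x + y)
        rw [map_add, smul_add]
        exact congrArg₂ (· + ·) hx hy
      zero_mem' := by show F 0 = c • 0; rw [map_zero, smul_zero]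
      smul_mem' := fun a x hx => by
        show F (a • x) = c • a • x
        rw [map_smul_of_comm F (fun g s => (cjE_eq_iff g F).1 (hF g) s) a x,
          show F x = c • x from hx, smul_k'] }
  rcases eq_bot_or_eq_top W with h | h
  · exfalso
    have : v ∈ W := hv
    rw [h] at this
    exact hv0 ((Submodule.mem_bot (MonoidAlgebra k G)).1 this)
  · refine ⟨c, fun s => ?_⟩
    have : s ∈ W := by rw [h]; exact Submodule.mem_top
    exact this

/-- **stable endomorphisms of a simple module are scalars** -/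
theorem endo [IsAlgClosed k] [FiniteDimensional k S] [IsSimpleModule (MonoidAlgebra k G) S]
    {D N L : Subgroup G} (hDN : D ≤ N) (hNL : N ≤ L) [Fintype N]
    (h1 : ∀ g, g ∉ L → D ⊓ cs g D = ⊥) {a β : MonoidAlgebra k G} (ha : a ∈ Fx k D)
    (haN : a ∈ Sp k N) (hβ : β ∈ Fx k N) (hββ : β * β = β) (hβa : β * a = a)
    (hTr : Tr D N a = β) (h2 : ∀ g ∈ L, g ∉ N → β * cj g β = 0)
    (f : S →ₗ[k] S) (hf : ∀ g ∈ N, cjE k S g f = f) (hfβ : ∀ s, β • f s = f s) :
    ∃ c : k, ∃ θ : S →ₗ[k] S, ∀ s, f s = c • β • s +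
      ∑ g : N, sg k (g : G) • θ (sg k (g : G)⁻¹ • s) := by
  classical
  have := Fintype.ofFinite (G ⧸ D)
  set f0 : S →ₗ[k] S := lm k a ∘ₗ f with hf0
  have hinv : Inv D (fun g => cjE k S g f0) := by
    intro g d hd
    show cjE k S (g * d) f0 = cjE k S g f0
    rw [cjE_mul, hf0, cjE_comp (S := S) d, ← lm_cj, ha d hd, hf d (hDN hd)]
  obtain ⟨c, hc⟩ := schur (csum D ⊤ (fun x => cjE k S x f0)) (csum_inv hinv)
  obtain ⟨h, hh⟩ := free_part hDN hNL h1 ha hinv
  have haβ : a * β = a := by rw [← comm_of_mem hβ haN]; exact hβa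
  have hlβ : (lm k β : S →ₗ[k] S) = ∑ y ∈ Finset.univ.filter (fun y : G ⧸ D => y.out ∈ N),
      lm k (cj y.out a) := by
    ext s
    rw [LinearMap.sum_apply, lm_apply, ← hTr]
    unfold Tr
    rw [csum_eq, Finset.sum_smul]
    rfl
  have hF : csum D ⊤ (fun x => cjE k S x f0) = ∑ x : G ⧸ D, cjE k S x.out f0 := by
    rw [csum_eq]
    exact Finset.sum_congr (by ext; simp) fun _ _ => rfl
  have key : (lm k β : S →ₗ[k] S) ∘ₗ (∑ x : G ⧸ D, cjE k S x.out f0) =
      f + ∑ g : N, cjE k S (g : G) h := by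
    have e1 : (lm k β : S →ₗ[k] S) ∘ₗ (∑ x : G ⧸ D, cjE k S x.out f0) =
        ∑ q ∈ Finset.univ.filter (fun q : (G ⧸ D) × (G ⧸ D) => q.1.out ∈ N),
          lm k (cj q.1.out a) ∘ₗ cjE k S q.2.out f0 := by
      rw [hlβ, sum_comp']
      have : Finset.univ.filter (fun q : (G ⧸ D) × (G ⧸ D) => q.1.out ∈ N) =
          (Finset.univ.filter (fun y : G ⧸ D => y.out ∈ N)) ×ˢ Finset.univ := by
        ext q; simp
      rw [this, Finset.sum_product]
      refine Finset.sum_congr rfl fun y _ => ?_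
      rw [comp_sum']
    have e2 : ∑ q ∈ Finset.univ.filter (fun q : (G ⧸ D) × (G ⧸ D) => q.1.out ∈ N ∧ q.2.out ∈ N),
          lm k (cj q.1.out a) ∘ₗ cjE k S q.2.out f0 = f := by
      have : Finset.univ.filter (fun q : (G ⧸ D) × (G ⧸ D) => q.1.out ∈ N ∧ q.2.out ∈ N) =
          (Finset.univ.filter (fun y : G ⧸ D => y.out ∈ N)) ×ˢ
            (Finset.univ.filter (fun y : G ⧸ D => y.out ∈ N)) := by
        ext q; simp
      rw [this, Finset.sum_product]
      have e3 : ∑ x ∈ Finset.univ.filter (fun y : G ⧸ D => y.out ∈ N), cjE k S x.out f0 = f := by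
        have e4 : ∀ x ∈ Finset.univ.filter (fun y : G ⧸ D => y.out ∈ N), cjE k S x.out f0 =
            lm k (cj x.out a) ∘ₗ f := by
          intro x hx
          rw [hf0, cjE_comp, ← lm_cj, hf _ (Finset.mem_filter.1 hx).2]
        rw [Finset.sum_congr rfl e4, ← sum_comp', ← hlβ]
        ext s
        exact hfβ s
      have e5 : ∀ y ∈ Finset.univ.filter (fun y : G ⧸ D => y.out ∈ N),
          ∑ x ∈ Finset.univ.filter (fun y : G ⧸ D => y.out ∈ N),
            lm k (cj y.out a) ∘ₗ cjE k S x.out f0 = lm k (cj y.out a) ∘ₗ f := by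
        intro y _
        rw [← comp_sum', e3]
      rw [Finset.sum_congr rfl e5, ← sum_comp', ← hlβ]
      ext s
      exact hfβ s
    rw [e1, ← hh, ← Finset.sum_filter_add_sum_filter_not _
      (fun q : (G ⧸ D) × (G ⧸ D) => q.1.out⁻¹ * q.2.out ∈ L)]
    congr 1
    · rw [← e2]
      symm
      apply Finset.sum_subset
      · intro q hq
        simp only [Finset.mem_filter, Finset.mem_univ, true_and] at hq ⊢
        exact ⟨hq.1, hNL (mul_mem (inv_mem hq.1) hq.2)⟩
      · intro q hq hq'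
        simp only [Finset.mem_filter, Finset.mem_univ, true_and] at hq hq'
        have hx : q.2.out ∉ N := fun h => hq' ⟨hq.1, h⟩
        have hgN : q.1.out⁻¹ * q.2.out ∉ N := by
          intro hcon
          exact hx ((Subgroup.mul_mem_cancel_left N (inv_mem hq.1)).1 hcon)
        have hz : a * cj (q.1.out⁻¹ * q.2.out) a = 0 := by
          have h3 : cj (q.1.out⁻¹ * q.2.out) a =
              cj (q.1.out⁻¹ * q.2.out) β * cj (q.1.out⁻¹ * q.2.out) a := by
            rw [← map_mul, hβa]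
          calc a * cj (q.1.out⁻¹ * q.2.out) a
              = (a * β) * (cj (q.1.out⁻¹ * q.2.out) β * cj (q.1.out⁻¹ * q.2.out) a) := by
                rw [haβ, ← h3]
            _ = a * (β * cj (q.1.out⁻¹ * q.2.out) β) * cj (q.1.out⁻¹ * q.2.out) a := by
                simp only [mul_assoc]
            _ = 0 := by rw [h2 _ hq.2 hgN, mul_zero, zero_mul]
        have h4 : lm k (cj q.1.out a) ∘ₗ cjE k S q.2.out f0 =
            cjE k S q.1.out (lm k (a * cj (q.1.out⁻¹ * q.2.out) a) ∘ₗ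
              cjE k S (q.1.out⁻¹ * q.2.out) f) := by
          have e6 : cjE k S q.1.out (lm k (a * cj (q.1.out⁻¹ * q.2.out) a) ∘ₗ
              cjE k S (q.1.out⁻¹ * q.2.out) f) =
              lm k (cj q.1.out a * cj q.2.out a) ∘ₗ cjE k S q.2.out f := by
            rw [cjE_comp, ← lm_cj, ← cjE_mul, map_mul, ← cj_mul, mul_inv_cancel_left]
          have e7 : cjE k S q.2.out f0 = lm k (cj q.2.out a) ∘ₗ cjE k S q.2.out f := by
            rw [hf0, cjE_comp, ← lm_cj]
          rw [e6, e7, lm_mul]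
          rfl
        rw [h4, hz]
        ext s
        simp [cjE_apply, lm_apply]
    · refine Finset.sum_congr ?_ fun _ _ => rfl
      ext q
      simp only [Finset.mem_filter, Finset.mem_univ, true_and]
  refine ⟨c, -h, fun s => ?_⟩
  have h5 := congrArg (fun φ : S →ₗ[k] S => φ s) key
  simp only [LinearMap.comp_apply, LinearMap.add_apply, LinearMap.sum_apply] at h5
  rw [← LinearMap.sum_apply, ← hF, hc, lm_apply, smul_k'] at h5
  have h6 : ∑ g : N, sg k (g : G) • (-h) (sg k (g : G)⁻¹ • s) = -∑ g : N, cjE k S (g : G) h s := by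
    rw [← Finset.sum_neg_distrib]
    refine Finset.sum_congr rfl fun g _ => ?_
    rw [LinearMap.neg_apply, smul_neg, cjE_apply]
  rw [h6, h5]
  abel

end

end H80.ML5
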