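import Cfsg.Agent.Lib.H80.ML17
import Cfsg.Agent.Lib.H80.ML5

set_option autoImplicit false
set_option linter.unusedSectionVars false
set_option linter.unusedVariables false
set_option linter.style.haveILetI false

/-!
# Passing from a normal subgroup to the stabilizer of a block
-/

namespace H80.ML18

open H80.GA H80.GB H80.GF H80.ML1 H80.ML2 H80.ML3 H80.ML5 H80.ML8 H80.ML9
open H20.BrT (Dat)
open MonoidAlgebra Matrix

section nil
variable {k : Type*} {Λ : Type*} [Field k] [Ring Λ] [Algebra k Λ] (D : Dat k Λ)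

theorem pi_zero_iff (x : Λ) : D.π x = 0 ↔ ∀ a, IsNilpotent (a * x) := by
  classical
  constructor
  · intro h a
    exact D.nil _ (by rw [map_mul, h, mul_zero])
  · intro h
    funext i
    haveI := D.hd i
    by_contra hne
    obtain ⟨s, t, hst⟩ : ∃ s t, D.π x i s t ≠ 0 := by
      by_contra hcon
      push Not at hcon
      apply hne
      ext s t
      exact hcon s t
    obtain ⟨a, ha⟩ := exists_pre D i (Matrix.single t s (D.π x i s t)⁻¹)
    obtain ⟨n, hn⟩ := h a
    have h1 : (D.π (a * x) i) ^ n = 0 := by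
      rw [← Pi.pow_apply, ← map_pow, hn, map_zero]
      rfl
    have h2 : ∀ m : ℕ, ((D.π (a * x) i) ^ m).mulVec (Pi.single t 1) t = 1 := by
      have h3 : ∀ v : Fin (D.d i) → k, (D.π (a * x) i).mulVec v =
          Pi.single t ((D.π x i s t)⁻¹ * (D.π x i).mulVec v s) := by
        intro v
        rw [map_mul, Pi.mul_apply, ha, Pi.single_eq_same, ← Matrix.mulVec_mulVec,
          Matrix.single_mulVec]
        funext l
        rw [Function.update_apply, Pi.single_apply]
        rfl
      intro m
      have h4 : ∀ m : ℕ, ((D.π (a * x) i) ^ m).mulVec (Pi.single t 1) = Pi.single t 1 := by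
        intro m
        induction m with
        | zero => rw [pow_zero, Matrix.one_mulVec]
        | succ m ih =>
          rw [pow_succ', ← Matrix.mulVec_mulVec, ih, h3]
          congr 1
          rw [Matrix.mulVec_single_one]
          exact inv_mul_cancel₀ hst
      rw [h4 m, Pi.single_eq_same]
    have h5 := h2 n
    rw [h1, Matrix.zero_mulVec] at h5
    exact zero_ne_one h5

end nil

section main
variable {k K X : Type*} [Field k] [Group K] [Group X] [Finite K] [Finite X] {φ : K →* X}

lemma inc_sg' (g : K) : inc k φ (sg k g) = sg k (φ g) := by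
  rw [inc]; simp [sg]

lemma exists_conj (hφ : Function.Injective φ) (hn : φ.range.Normal) (h : X) (a : MonoidAlgebra k K) :
    ∃ a', inc k φ a' = cj h (inc k φ a) := by
  refine exists_inc hφ ?_
  have h1 := cj_mem_Sp (g := h) (inc_mem_range φ a)
  have h2 : cs h φ.range = φ.range := by
    rw [← mem_normalizer, Subgroup.normalizer_eq_top_iff.2 hn]
    exact Subgroup.mem_top _
  rwa [h2] at h1

variable (D : Dat k (MonoidAlgebra k K)) (i : Fin D.n) {β x : MonoidAlgebra k K}

theorem conj_x (hφ : Function.Injective φ) (hn : φ.range.Normal) (hcβ : ∀ a, β * a = a * β)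
    (he : ∀ j, j ≠ i → D.π β j = 0) (hcx : ∀ a, x * a = a * x) (hβx : β * x = x)
    (hnil : IsNilpotent x) (hker : ∀ a, β * a = a → D.π a i = 0 → ∃ a', a = x * a')
    (hinv : ∀ h : X, cj h (inc k φ β) = inc k φ β) (h : X) :
    ∃ v, cj h (inc k φ x) = inc k φ x * inc k φ v := by
  obtain ⟨x', hx'⟩ := exists_conj hφ hn h x
  have hβx' : β * x' = x' := by
    apply inc_injective (k := k) hφ
    rw [map_mul, hx', ← hinv h, ← map_mul, ← map_mul, hβx]
  have hπx : D.π x = 0 := by
    funext j
    exact H80.ML13.pi_central_nil D hcx hnil j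
  have hπ : D.π x' = 0 := by
    rw [pi_zero_iff]
    intro a
    obtain ⟨a', ha'⟩ := exists_conj hφ hn h⁻¹ a
    obtain ⟨n, hn'⟩ := (pi_zero_iff D x).1 hπx a'
    refine ⟨n, ?_⟩
    apply inc_injective (k := k) hφ
    have h1 : inc k φ (a * x') = cj h (inc k φ (a' * x)) := by
      rw [map_mul, map_mul, map_mul, hx', ha', cj_cj_inv]
    rw [map_pow, h1, ← map_pow, ← map_pow, hn', map_zero, map_zero]
  obtain ⟨v, hv⟩ := hker x' hβx' (by rw [hπ]; rfl)
  exact ⟨v, by rw [← hx', hv, map_mul]⟩

theorem nrm_x (hφ : Function.Injective φ) (hn : φ.range.Normal) (hcβ : ∀ a, β * a = a * β)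
    (he : ∀ j, j ≠ i → D.π β j = 0) (hcx : ∀ a, x * a = a * x) (hβx : β * x = x)
    (hnil : IsNilpotent x) (hker : ∀ a, β * a = a → D.π a i = 0 → ∃ a', a = x * a')
    (hinv : ∀ h : X, cj h (inc k φ β) = inc k φ β) : Nrm (inc k φ x) := by
  have hc := conj_x D i hφ hn hcβ he hcx hβx hnil hker hinv
  constructor
  · intro a
    induction a using MonoidAlgebra.induction_linear with
    | zero => exact ⟨0, by rw [mul_zero, zero_mul]⟩
    | add f g hf hg =>
      obtain ⟨b, hb⟩ := hf
      obtain ⟨c, hc⟩ := hg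
      exact ⟨b + c, by rw [mul_add, add_mul, hb, hc]⟩
    | single g r =>
      obtain ⟨v, hv⟩ := hc g⁻¹
      refine ⟨r • (sg k g * inc k φ v), ?_⟩
      have h1 : single g r = r • sg k g := by simp [sg]
      rw [h1, mul_smul_comm, smul_mul_assoc]
      congr 1
      have h2 : inc k φ x * sg k g = sg k g * cj g⁻¹ (inc k φ x) := by
        rw [cj_eq, inv_inv, ← mul_assoc, ← mul_assoc, sg_mul, mul_inv_cancel, sg_one, one_mul]
      rw [h2, hv, ← map_mul, hcx, map_mul, mul_assoc]
  · intro a
    induction a using MonoidAlgebra.induction_linear with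
    | zero => exact ⟨0, by rw [mul_zero, zero_mul]⟩
    | add f g hf hg =>
      obtain ⟨b, hb⟩ := hf
      obtain ⟨c, hc⟩ := hg
      exact ⟨b + c, by rw [mul_add, add_mul, hb, hc]⟩
    | single g r =>
      obtain ⟨v, hv⟩ := hc g
      refine ⟨r • (inc k φ v * sg k g), ?_⟩
      have h1 : single g r = r • sg k g := by simp [sg]
      rw [h1, mul_smul_comm, smul_mul_assoc]
      congr 1
      have h2 : sg k g * inc k φ x = cj g (inc k φ x) * sg k g := by
        rw [cj_eq, mul_assoc, mul_assoc, sg_mul, inv_mul_cancel, sg_one, mul_one]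
      rw [h2, hv, mul_assoc]

end main

section ss
variable {k X : Type*} [Field k] [Group X] [Finite X]
variable {U : Type*} [AddCommGroup U] [Module k U] [Module (MonoidAlgebra k X) U]
  [IsScalarTower k (MonoidAlgebra k X) U]

/-- relative Maschke -/
theorem rel_maschke {C : Subgroup X} (hidx : ((C.relIndex ⊤ : ℕ) : k) ≠ 0)
    (W : Submodule (MonoidAlgebra k X) U)
    (P : U →ₗ[k] U) (hP1 : ∀ u, P u ∈ W) (hP2 : ∀ w ∈ W, P w = w)
    (hP3 : ∀ c ∈ C, cjE k U c P = P) : ∃ W' : Submodule (MonoidAlgebra k X) U, IsCompl W W' := by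
  classical
  have := Fintype.ofFinite (X ⧸ C)
  have hinv : Inv C (fun g => cjE k U g P) := by
    intro g d hd
    show cjE k U (g * d) P = cjE k U g P
    rw [cjE_mul, hP3 d hd]
  set Q : U →ₗ[k] U := csum C ⊤ (fun x => cjE k U x P) with hQ
  have hQg : ∀ g, cjE k U g Q = Q := csum_inv hinv
  have hval : ∀ u, Q u = ∑ q ∈ Finset.univ.filter (fun q : X ⧸ C => q.out ∈ (⊤ : Subgroup X)),
      cjE k U q.out P u := by
    intro u
    rw [hQ, csum_eq, LinearMap.sum_apply]
  have hQ1 : ∀ u, Q u ∈ W := by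
    intro u
    rw [hval]
    refine Submodule.sum_mem _ fun q _ => ?_
    rw [cjE_apply]
    exact W.smul_mem _ (hP1 _)
  have hQ2 : ∀ w ∈ W, Q w = ((C.relIndex ⊤ : ℕ) : k) • w := by
    intro w hw
    have h1 : ∀ q ∈ Finset.univ.filter (fun q : X ⧸ C => q.out ∈ (⊤ : Subgroup X)),
        cjE k U q.out P w = w := by
      intro q _
      rw [cjE_apply, hP2 _ (W.smul_mem _ hw), ← mul_smul, sg_mul, mul_inv_cancel, sg_one, one_smul]
    rw [hval, Finset.sum_congr rfl h1]
    have h2 := csum_const (le_top : C ≤ ⊤) w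
    rw [csum_eq] at h2
    rw [h2, Nat.cast_smul_eq_nsmul]
  have hcomm : ∀ (a : MonoidAlgebra k X) u, Q (a • u) = a • Q u :=
    map_smul_of_comm Q (fun g s => (cjE_eq_iff g Q).1 (hQg g) s)
  let Qm : U →ₗ[MonoidAlgebra k X] U :=
    { toFun := Q, map_add' := Q.map_add, map_smul' := hcomm }
  refine ⟨LinearMap.ker Qm, ?_, ?_⟩
  · rw [disjoint_iff, Submodule.eq_bot_iff]
    rintro u ⟨hu1, hu2⟩
    have h3 : Q u = 0 := hu2
    rw [hQ2 u hu1] at h3
    exact (smul_eq_zero.1 h3).resolve_left hidx
  · rw [codisjoint_iff, Submodule.eq_top_iff']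
    intro u
    set c : k := ((C.relIndex ⊤ : ℕ) : k) with hc
    have hkW : ∀ w ∈ W, c⁻¹ • w ∈ W := by
      intro w hw
      rw [← algebraMap_smul (MonoidAlgebra k X) c⁻¹ w]
      exact W.smul_mem _ hw
    have h4 : u = c⁻¹ • Q u + (u - c⁻¹ • Q u) := by abel
    rw [h4]
    refine Submodule.add_mem_sup (hkW _ (hQ1 u)) ?_
    show Q (u - c⁻¹ • Q u) = 0
    rw [map_sub, map_smul, hQ2 _ (hQ1 u), smul_smul, inv_mul_cancel₀ hidx, one_smul, sub_self]

end ss

section dec
variable {k K X : Type*} [Field k] [Group K] [Group X] [Finite K] [Finite X] {φ : K →* X}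
variable (D : Dat k (MonoidAlgebra k K)) (i : Fin D.n) {β x : MonoidAlgebra k K}

theorem compl_of_killed {U : Type*} [AddCommGroup U] [Module k U] [Module (MonoidAlgebra k X) U]
    [IsScalarTower k (MonoidAlgebra k X) U]
    (hcβ : ∀ a, β * a = a * β) (hββ : β * β = β)
    (hei : D.π β i = 1)
    (hker : ∀ a, β * a = a → D.π a i = 0 → ∃ a', a = x * a')
    (hidx : ((φ.range.relIndex ⊤ : ℕ) : k) ≠ 0)
    (hβU : ∀ u : U, inc k φ β • u = u) (hxU : ∀ u : U, inc k φ x • u = 0)
    (W : Submodule (MonoidAlgebra k X) U) : ∃ W' : Submodule (MonoidAlgebra k X) U, IsCompl W W' := by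
  classical
  haveI := D.hd i
  -- action through the matrix algebra
  have hact : ∀ a b : MonoidAlgebra k K, D.π a i = D.π b i → ∀ u : U,
      inc k φ a • u = inc k φ b • u := by
    intro a b hab u
    obtain ⟨c, hc⟩ := hker (β * (a - b)) (by rw [← mul_assoc, hββ]) (by
      rw [map_mul, map_sub, Pi.mul_apply, Pi.sub_apply, hab, sub_self, mul_zero])
    have h1 : inc k φ (β * (a - b)) • u = 0 := by
      rw [hc]
      have hcx : inc k φ (x * c) • u = inc k φ x • inc k φ c • u := by
        rw [map_mul, mul_smul]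
      rw [hcx, hxU]
    rw [map_mul, mul_smul, hβU, map_sub, sub_smul, sub_eq_zero] at h1
    exact h1
  have hε : ∀ (s t : Fin (D.d i)), ∃ a : MonoidAlgebra k K,
      D.π a = Pi.single i (Matrix.single s t 1) := fun s t => exists_pre D i _
  choose ε hε using hε
  obtain ⟨P0, hP0⟩ := Submodule.exists_isCompl (W.restrictScalars k)
  let P1 : U →ₗ[k] U := (W.restrictScalars k).subtype ∘ₗ
    (W.restrictScalars k).projectionOnto P0 hP0
  have hP1W : ∀ u, P1 u ∈ W := fun u => ((W.restrictScalars k).projectionOnto P0 hP0 u).2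
  have hP1w : ∀ w ∈ W, P1 w = w := by
    intro w hw
    show (((W.restrictScalars k).projectionOnto P0 hP0 w : W.restrictScalars k) : U) = w
    rw [Submodule.projectionOnto_apply_left hP0 (⟨w, hw⟩ : W.restrictScalars k)]
  let s0 : Fin (D.d i) := 0
  let E : Fin (D.d i) → Fin (D.d i) → (U →ₗ[k] U) := fun s t => lm k (inc k φ (ε s t))
  have hE : ∀ s t s' t', E s t ∘ₗ E s' t' = if t = s' then E s t' else 0 := by
    intro s t s' t'
    ext u
    show inc k φ (ε s t) • inc k φ (ε s' t') • u = _
    rw [← mul_smul, ← map_mul]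
    by_cases h : t = s'
    · rw [if_pos h]
      refine hact _ _ ?_ u
      rw [map_mul, Pi.mul_apply, hε, hε, hε, Pi.single_eq_same, Pi.single_eq_same,
        Pi.single_eq_same, ← h, Matrix.single_mul_single_same, mul_one]
    · rw [if_neg h]
      have := hact (ε s t * ε s' t') 0 (by
        rw [map_mul, Pi.mul_apply, hε, hε, Pi.single_eq_same, Pi.single_eq_same,
          Matrix.single_mul_single_of_ne _ _ _ _ h, map_zero]; rfl) u
      rw [this, map_zero, zero_smul]; rfl
  have hE1 : ∑ s, E s s = LinearMap.id := by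
    ext u
    rw [LinearMap.sum_apply]
    show ∑ s, inc k φ (ε s s) • u = u
    rw [← Finset.sum_smul, ← map_sum]
    have := hact (∑ s, ε s s) 1 (by
      rw [map_sum, map_one, Finset.sum_apply]
      simp only [hε, Pi.single_eq_same]
      ext a b
      rw [Matrix.sum_apply, Pi.one_apply, Matrix.one_apply]
      simp only [Matrix.single_apply]
      by_cases hab : a = b
      · subst hab
        simp
      · rw [if_neg hab]
        apply Finset.sum_eq_zero
        intro c _
        rw [if_neg]
        rintro ⟨rfl, rfl⟩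
        exact hab rfl) u
    rw [this, map_one, one_smul]
  let P2 : U →ₗ[k] U := ∑ s, E s s0 ∘ₗ P1 ∘ₗ E s0 s
  have hP2E : ∀ s t, E s t ∘ₗ P2 = P2 ∘ₗ E s t := by
    intro s t
    show E s t ∘ₗ (∑ r, E r s0 ∘ₗ P1 ∘ₗ E s0 r) = (∑ r, E r s0 ∘ₗ P1 ∘ₗ E s0 r) ∘ₗ E s t
    rw [comp_sum', sum_comp', Finset.sum_eq_single t, Finset.sum_eq_single s]
    · ext u
      show E s t (E t s0 (P1 (E s0 t u))) = E s s0 (P1 (E s0 s (E s t u)))
      have e1 := LinearMap.congr_fun (hE s t t s0) (P1 (E s0 t u))
      have e2 := LinearMap.congr_fun (hE s0 s s t) u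
      rw [if_pos rfl] at e1 e2
      rw [LinearMap.comp_apply] at e1 e2
      rw [e1, e2]
    · intro r _ hr
      ext u
      show E r s0 (P1 (E s0 r (E s t u))) = 0
      have e2 := LinearMap.congr_fun (hE s0 r s t) u
      rw [if_neg hr, LinearMap.comp_apply] at e2
      rw [e2, LinearMap.zero_apply, map_zero, map_zero]
    · intro h; exact absurd (Finset.mem_univ _) h
    · intro r _ hr
      ext u
      show E s t (E r s0 (P1 (E s0 r u))) = 0
      have e1 := LinearMap.congr_fun (hE s t r s0) (P1 (E s0 r u))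
      rw [if_neg hr.symm, LinearMap.comp_apply] at e1
      rw [e1, LinearMap.zero_apply]
    · intro h; exact absurd (Finset.mem_univ _) h
  have hall : ∀ (a : MonoidAlgebra k K), lm k (inc k φ a) ∘ₗ P2 = P2 ∘ₗ lm k (inc k φ a) := by
    intro a
    have h1 : (lm k (inc k φ a) : U →ₗ[k] U) = ∑ s, ∑ t, D.π a i s t • E s t := by
      ext u
      rw [LinearMap.sum_apply]
      have h2 : inc k φ a • u = inc k φ (∑ s, ∑ t, D.π a i s t • ε s t) • u := by
        refine hact _ _ ?_ u
        rw [map_sum, Finset.sum_apply]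
        ext s' t'
        rw [Matrix.sum_apply, Finset.sum_eq_single s']
        · rw [map_sum, Finset.sum_apply, Matrix.sum_apply, Finset.sum_eq_single t']
          · rw [map_smul, Pi.smul_apply, hε, Pi.single_eq_same, Matrix.smul_apply,
              Matrix.single_apply_same, smul_eq_mul, mul_one]
          · intro t _ ht
            rw [map_smul, Pi.smul_apply, hε, Pi.single_eq_same, Matrix.smul_apply,
              Matrix.single_apply_of_col_ne _ _ ht, smul_zero]
          · intro h; exact absurd (Finset.mem_univ _) h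
        · intro s _ hs
          rw [map_sum, Finset.sum_apply, Matrix.sum_apply]
          apply Finset.sum_eq_zero
          intro t _
          rw [map_smul, Pi.smul_apply, hε, Pi.single_eq_same, Matrix.smul_apply,
            Matrix.single_apply_of_row_ne hs, smul_zero]
        · intro h; exact absurd (Finset.mem_univ _) h
      rw [lm_apply, h2, map_sum, Finset.sum_smul]
      refine Finset.sum_congr rfl fun s _ => ?_
      rw [map_sum, Finset.sum_smul, LinearMap.sum_apply]
      refine Finset.sum_congr rfl fun t _ => ?_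
      rw [map_smul, smul_assoc]
      rfl
    rw [h1, sum_comp', comp_sum']
    refine Finset.sum_congr rfl fun s _ => ?_
    rw [sum_comp', comp_sum']
    refine Finset.sum_congr rfl fun t _ => ?_
    rw [LinearMap.smul_comp, LinearMap.comp_smul, hP2E]
  refine rel_maschke hidx W P2 ?_ ?_ ?_
  · intro u
    show (∑ s, E s s0 ∘ₗ P1 ∘ₗ E s0 s) u ∈ W
    rw [LinearMap.sum_apply]
    refine Submodule.sum_mem _ fun s _ => ?_
    exact W.smul_mem _ (hP1W _)
  · intro w hw
    show (∑ s, E s s0 ∘ₗ P1 ∘ₗ E s0 s) w = w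
    rw [LinearMap.sum_apply]
    have h3 : ∀ s ∈ Finset.univ, (E s s0 ∘ₗ P1 ∘ₗ E s0 s) w = (E s s) w := by
      intro s _
      show E s s0 (P1 (E s0 s w)) = _
      rw [hP1w _ (show E s0 s w ∈ W from W.smul_mem _ hw)]
      have := LinearMap.congr_fun (hE s s0 s0 s) w
      rw [if_pos rfl] at this
      exact this
    rw [Finset.sum_congr rfl h3, ← LinearMap.sum_apply, hE1]
    rfl
  · rintro _ ⟨c, rfl⟩
    rw [cjE_eq_iff]
    intro s
    have h4 := LinearMap.congr_fun (hall (sg k c)) s
    rw [inc_sg'] at h4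
    exact h4.symm

end dec

end H80.ML18
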