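import Cfsg.Agent.Lib.H80.ML18

set_option autoImplicit false
set_option linter.unusedSectionVars false
set_option linter.unusedVariables false
set_option linter.style.haveILetI false

/-!
# The decomposition property of modules of the local block
-/

namespace H80.ML19

open H80.GA H80.GB H80.GF H80.ML1 H80.ML2 H80.ML3 H80.ML5 H80.ML8 H80.ML9 H80.ML18
open H20.BrT (Dat)
open MonoidAlgebra

variable {k K X : Type*} [Field k] [Group K] [Group X] [Finite K] [Finite X] {φ : K →* X}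
variable (D : Dat k (MonoidAlgebra k K)) (i : Fin D.n) {β x : MonoidAlgebra k K}
variable {V : Type*} [AddCommGroup V] [Module k V] [Module (MonoidAlgebra k X) V]
    [IsScalarTower k (MonoidAlgebra k X) V]

theorem hss_of (hcβ : ∀ a, β * a = a * β) (hββ : β * β = β) (hei : D.π β i = 1)
    (hker : ∀ a, β * a = a → D.π a i = 0 → ∃ a', a = x * a')
    (hidx : ((φ.range.relIndex ⊤ : ℕ) : k) ≠ 0)
    (hβV : ∀ v : V, inc k φ β • v = v)
    (A B : Submodule (MonoidAlgebra k X) V) (hAB : A ≤ B) (hx : ∀ v ∈ B, inc k φ x • v ∈ A)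
    (W : Submodule (MonoidAlgebra k X) V) (hAW : A ≤ W) (hWB : W ≤ B) :
    ∃ W', A ≤ W' ∧ W' ≤ B ∧ W ⊓ W' = A ∧ W ⊔ W' = B := by
  set A' : Submodule (MonoidAlgebra k X) B := A.comap B.subtype with hA'
  obtain ⟨W1', hW1'⟩ := compl_of_killed (U := B ⧸ A') (φ := φ) D i hcβ hββ hei hker hidx
    (fun u => by
      obtain ⟨v, rfl⟩ := A'.mkQ_surjective u
      rw [← map_smul]
      congr 1
      exact Subtype.ext (hβV v))
    (fun u => by
      obtain ⟨v, rfl⟩ := A'.mkQ_surjective u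
      rw [← map_smul]
      exact (Submodule.Quotient.mk_eq_zero A').2 (hx v v.2))
    ((W.comap B.subtype).map A'.mkQ)
  refine ⟨(W1'.comap A'.mkQ).map B.subtype, ?_, ?_, ?_, ?_⟩
  · intro a ha
    refine ⟨⟨a, hAB ha⟩, ?_, rfl⟩
    show A'.mkQ ⟨a, hAB ha⟩ ∈ W1'
    have : A'.mkQ ⟨a, hAB ha⟩ = 0 := (Submodule.Quotient.mk_eq_zero A').2 ha
    rw [this]; exact W1'.zero_mem
  · rintro _ ⟨b, _, rfl⟩
    exact b.2
  · apply le_antisymm
    · rintro w ⟨hw, b, hb, rfl⟩
      have h1 : A'.mkQ b ∈ (W.comap B.subtype).map A'.mkQ := ⟨b, hw, rfl⟩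
      have h2 : A'.mkQ b = 0 := by
        have := Submodule.mem_inf.2 ⟨h1, hb⟩
        rw [hW1'.inf_eq_bot] at this
        exact (Submodule.mem_bot (MonoidAlgebra k X)).1 this
      exact (Submodule.Quotient.mk_eq_zero A').1 h2
    · intro a ha
      refine ⟨hAW ha, ⟨a, hAB ha⟩, ?_, rfl⟩
      show A'.mkQ ⟨a, hAB ha⟩ ∈ W1'
      have : A'.mkQ ⟨a, hAB ha⟩ = 0 := (Submodule.Quotient.mk_eq_zero A').2 ha
      rw [this]; exact W1'.zero_mem
  · apply le_antisymm
    · refine sup_le hWB ?_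
      rintro _ ⟨b, _, rfl⟩
      exact b.2
    · intro b hb
      have h1 : A'.mkQ ⟨b, hb⟩ ∈ (W.comap B.subtype).map A'.mkQ ⊔ W1' := by
        rw [hW1'.sup_eq_top]; exact Submodule.mem_top
      obtain ⟨_, ⟨w, hw, rfl⟩, w1', hw1', hsum⟩ := Submodule.mem_sup.1 h1
      obtain ⟨c, rfl⟩ := A'.mkQ_surjective w1'
      have h2 : A'.mkQ (⟨b, hb⟩ - (w + c)) = 0 := by
        rw [map_sub, map_add, hsum, sub_self]
      have h3 : (⟨b, hb⟩ - (w + c) : B) ∈ A' := (Submodule.Quotient.mk_eq_zero A').1 h2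
      have h4 : b = (w : V) + ((c + (⟨b, hb⟩ - (w + c)) : B) : V) := by
        show b = (w : V) + ((c : V) + (b - ((w : V) + c)))
        abel
      rw [h4]
      refine Submodule.add_mem_sup hw ⟨c + (⟨b, hb⟩ - (w + c)), ?_, rfl⟩
      show A'.mkQ (c + (⟨b, hb⟩ - (w + c))) ∈ W1'
      rw [map_add, h2, add_zero]
      exact hw1'

/-- every module of the local block has a local direct summand -/
theorem dec_all (hφ : Function.Injective φ) (hn : φ.range.Normal) (hcβ : ∀ a, β * a = a * β)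
    (hββ : β * β = β) (he : ∀ j, j ≠ i → D.π β j = 0) (hei : D.π β i = 1)
    (hcx : ∀ a, x * a = a * x) (hβx : β * x = x)
    (hnil : IsNilpotent x) (hker : ∀ a, β * a = a → D.π a i = 0 → ∃ a', a = x * a')
    (hinv : ∀ h : X, cj h (inc k φ β) = inc k φ β)
    (hidx : ((φ.range.relIndex ⊤ : ℕ) : k) ≠ 0) [FiniteDimensional k V] [Nontrivial V]
    (hβV : ∀ v : V, inc k φ β • v = v) : Dec k (X := X) V := by
  refine exists_local_summand (k := k) (inc k φ x) ?_
    (nrm_x D i hφ hn hcβ he hcx hβx hnil hker hinv) ?_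
  · exact hnil.map (inc k φ)
  · exact hss_of D i hcβ hββ hei hker hidx hβV

end H80.ML19
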