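import Cfsg.Agent.Lib.H80.ML19

set_option autoImplicit false
set_option linter.unusedSectionVars false
set_option linter.unusedVariables false
set_option linter.style.haveILetI false

/-!
# Restriction of a simple module to a normal subgroup with cyclic quotient
-/

namespace H80.ML20

open H80.GA H80.GB H80.GF H80.ML1 H80.ML2 H80.ML3 H80.ML5 H80.ML8 H80.ML9 H80.ML11 H80.ML18
open H20.BrT (Dat)
open MonoidAlgebra

/-- restriction along a homomorphism -/
def Rr {K X : Type*} [Group K] [Group X] (ψ : K →* X) (S : Type*) : Type _ := S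

section rr
variable {k K X : Type*} [Field k] [Group K] [Group X] (ψ : K →* X) (S : Type*)
variable [AddCommGroup S] [Module k S] [Module (MonoidAlgebra k X) S]
  [IsScalarTower k (MonoidAlgebra k X) S]

instance : AddCommGroup (Rr ψ S) := inferInstanceAs (AddCommGroup S)
instance : Module k (Rr ψ S) := inferInstanceAs (Module k S)

noncomputable instance : Module (MonoidAlgebra k K) (Rr ψ S) :=
  Module.compHom S (inc k ψ).toRingHom

instance [FiniteDimensional k S] : FiniteDimensional k (Rr ψ S) :=
  inferInstanceAs (FiniteDimensional k S)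

instance [Nontrivial S] : Nontrivial (Rr ψ S) := inferInstanceAs (Nontrivial S)

variable {ψ S}

/-- underlying element -/
def toR (s : Rr ψ S) : S := s

/-- element of the restriction -/
def ofR (s : S) : Rr ψ S := s

lemma toR_smul (a : MonoidAlgebra k K) (s : Rr ψ S) : toR (a • s) = inc k ψ a • toR s := rfl

lemma toR_k (c : k) (s : Rr ψ S) : toR (c • s) = c • toR s := rfl

lemma toR_inj {s t : Rr ψ S} (h : toR s = toR t) : s = t := h

instance : IsScalarTower k (MonoidAlgebra k K) (Rr ψ S) := ⟨fun c a s => by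
  apply toR_inj
  rw [toR_smul, toR_k, toR_smul, map_smul, smul_assoc]⟩

end rr

section main
variable {k K X : Type*} [Field k] [Group K] [Group X] [Finite K] [Finite X] {φ : K →* X}

/-- conjugation, pulled back to the normal subgroup -/
lemma exists_kappa (hφ : Function.Injective φ) (hn : φ.range.Normal) (h : X) :
    ∃ κ : K →* K, Function.Bijective κ ∧ (∀ c, φ (κ c) = h⁻¹ * φ c * h) ∧
      ∀ a : MonoidAlgebra k K, inc k φ (inc k κ a) = cj h⁻¹ (inc k φ a) := by
  let κ : K →* K := (MonoidHom.ofInjective hφ).symm.toMonoidHom.comp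
    ((MulAut.conjNormal h⁻¹ : MulAut φ.range).toMonoidHom.comp φ.rangeRestrict)
  have hκ : ∀ c, φ (κ c) = h⁻¹ * φ c * h := by
    intro c
    have h1 : ((MonoidHom.ofInjective hφ) (κ c) : φ.range) =
        (MulAut.conjNormal h⁻¹ : MulAut φ.range) (φ.rangeRestrict c) :=
      MulEquiv.apply_symm_apply _ _
    have h2 := congrArg (fun z : φ.range => (z : X)) h1
    simp only [MonoidHom.ofInjective_apply, MulAut.conjNormal_apply, MonoidHom.coe_rangeRestrict,
      inv_inv] at h2
    exact h2
  have hinj : Function.Injective κ := by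
    intro a b hab
    apply hφ
    have h1 := hκ a
    rw [hab, hκ b] at h1
    have h2 : φ b = φ a := by
      have := congrArg (fun z => h * z * h⁻¹) h1
      simpa [mul_assoc] using this
    exact h2.symm
  refine ⟨κ, ⟨hinj, Finite.injective_iff_surjective.1 hinj⟩, hκ, ?_⟩
  intro a
  induction a using MonoidAlgebra.induction_linear with
  | zero => rw [map_zero, map_zero, map_zero]
  | add f g hf hg => rw [map_add, map_add, map_add, map_add, hf, hg]
  | single g r =>
    have h1 : single g r = r • sg k g := by simp [sg]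
    rw [h1, map_smul, map_smul, map_smul, map_smul, inc_sg', inc_sg', inc_sg', cj_eq, sg_mul, sg_mul,
      hκ, inv_inv]

variable (D : Dat k (MonoidAlgebra k K)) (i : Fin D.n) {β : MonoidAlgebra k K}

theorem simple_iso (he : ∀ j, j ≠ i → D.π β j = 0) {T : Type*} [AddCommGroup T] [Module k T]
    [Module (MonoidAlgebra k K) T] [IsScalarTower k (MonoidAlgebra k K) T]
    [IsSimpleModule (MonoidAlgebra k K) T] (hβ : ∀ t : T, β • t = t) :
    Nonempty (SW D i ≃ₗ[MonoidAlgebra k K] T) := by
  obtain ⟨j, ⟨φ⟩⟩ := exists_iso D T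
  have h1 : D.π β j ≠ 0 := by
    apply pi_ne_of_smul
    intro v
    apply φ.injective
    rw [map_smul, hβ]
  have h2 : j = i := by
    by_contra hne
    exact h1 (he j hne)
  subst h2
  exact ⟨φ⟩

theorem exists_R (hφ : Function.Injective φ) (hn : φ.range.Normal)
    (he : ∀ j, j ≠ i → D.π β j = 0) (hei : D.π β i = 1)
    (hinv : ∀ h : X, cj h (inc k φ β) = inc k φ β) (h : X) :
    ∃ (R : SW D i ≃ₗ[k] SW D i) (κ : K →* K), (∀ a : MonoidAlgebra k K,
      inc k φ (inc k κ a) = cj h⁻¹ (inc k φ a)) ∧ ∀ a s, R (a • s) = inc k κ a • R s := by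
  obtain ⟨κ, hκb, hκ, hκi⟩ := exists_kappa (k := k) hφ hn h
  have hβκ : inc k κ β = β := by
    apply inc_injective (k := k) hφ
    rw [hκi, hinv]
  have hsimple : IsSimpleModule (MonoidAlgebra k K) (Rr κ (SW D i)) := by
    refine (isSimpleModule_iff_toSpanSingleton_surjective).2 ⟨inferInstance, ?_⟩
    intro v hv w
    obtain ⟨a, ha⟩ := H80.ML9.exists_smul (v := (toR v : SW D i)) (fun h0 => hv h0) (toR w)
    obtain ⟨a', ha'⟩ := exists_inc (k := k) hκb.1 (b := a) (by
      rw [MonoidHom.range_eq_top.2 hκb.2]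
      exact Sp_top a)
    refine ⟨a', ?_⟩
    apply toR_inj
    show toR (a' • v) = toR w
    rw [toR_smul, ha', ha]
  obtain ⟨ψ⟩ := simple_iso D i he (T := Rr κ (SW D i)) (fun t => by
    apply toR_inj
    rw [toR_smul, hβκ]
    exact smul_id D hei _)
  refine ⟨{ toFun := fun s => toR (ψ s)
            invFun := fun s => ψ.symm (ofR s)
            left_inv := fun s => ψ.symm_apply_apply s
            right_inv := fun s => ψ.apply_symm_apply (ofR s)
            map_add' := fun s t => by rw [map_add]; rfl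
            map_smul' := fun c s => (lk ψ.toLinearMap).map_smul c s }, κ, hκi, ?_⟩
  intro a s
  show toR (ψ (a • s)) = inc k κ a • toR (ψ s)
  rw [map_smul, toR_smul]

theorem res_simple [IsAlgClosed k] (hφ : Function.Injective φ) (hn : φ.range.Normal)
    (he : ∀ j, j ≠ i → D.π β j = 0) (hei : D.π β i = 1)
    (hinv : ∀ h : X, cj h (inc k φ β) = inc k φ β) {h : X}
    (hgen : ∀ g : X, ∃ (n : ℕ) (c : K), g = h ^ n * φ c)
    {T : Type*} [AddCommGroup T] [Module k T] [Module (MonoidAlgebra k X) T]
    [IsScalarTower k (MonoidAlgebra k X) T] [FiniteDimensional k T]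
    [IsSimpleModule (MonoidAlgebra k X) T] (hβT : ∀ t : T, inc k φ β • t = t) :
    ∃ f : SW D i ≃ₗ[k] T, ∀ a s, f (a • s) = inc k φ a • f s := by
  classical
  have hnt : Nontrivial T := IsSimpleModule.nontrivial (MonoidAlgebra k X) T
  obtain ⟨R, κ, hκ, hR⟩ := exists_R D i hφ hn he hei hinv h
  -- equivariant maps
  let H : Submodule k (SW D i →ₗ[k] T) :=
    { carrier := {f | ∀ a s, f (a • s) = inc k φ a • f s}
      add_mem' := fun {f g} hf hg a s => by
        rw [LinearMap.add_apply, LinearMap.add_apply, hf, hg, smul_add]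
      zero_mem' := fun a s => by rw [LinearMap.zero_apply, LinearMap.zero_apply, smul_zero]
      smul_mem' := fun c f hf a s => by
        rw [LinearMap.smul_apply, LinearMap.smul_apply, hf, smul_k'] }
  -- nonzero
  have hHne : Nontrivial H := by
    have hart : IsArtinian (MonoidAlgebra k K) (Rr φ T) := isArtinian_of_tower k inferInstance
    obtain ⟨S, hS, -⟩ := (IsAtomic.eq_bot_or_exists_atom_le
      (⊤ : Submodule (MonoidAlgebra k K) (Rr φ T))).resolve_left top_ne_bot
    have hSs : IsSimpleModule (MonoidAlgebra k K) S := isSimpleModule_iff_isAtom.2 hS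
    obtain ⟨ψ⟩ := simple_iso D i he (T := S) (fun t => by
      apply Subtype.ext
      apply toR_inj
      show toR (β • (t : Rr φ T)) = toR (t : Rr φ T)
      rw [toR_smul, hβT])
    let f0 : SW D i →ₗ[k] T :=
      { toFun := fun s => toR (ψ s : Rr φ T)
        map_add' := fun s t => by rw [map_add]; rfl
        map_smul' := fun c s => congrArg (fun z : S => toR (z : Rr φ T))
          ((lk ψ.toLinearMap).map_smul c s) }
    have hf0 : f0 ∈ H := by
      intro a s
      show toR (ψ (a • s) : Rr φ T) = inc k φ a • toR (ψ s : Rr φ T)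
      rw [map_smul]
      rfl
    obtain ⟨s, hs⟩ := exists_ne (0 : SW D i)
    refine ⟨⟨⟨f0, hf0⟩, 0, fun h0 => hs ?_⟩⟩
    have h1 : f0 s = 0 := LinearMap.congr_fun (congrArg Subtype.val h0) s
    apply ψ.injective
    rw [map_zero]
    exact Subtype.ext h1
  -- the operator
  let Θ : Module.End k H :=
    { toFun := fun f => ⟨lm k (sg k h) ∘ₗ f.1 ∘ₗ R.toLinearMap, fun a s => by
        show sg k h • f.1 (R (a • s)) = inc k φ a • sg k h • f.1 (R s)
        rw [hR, f.2, hκ, ← mul_smul, ← mul_smul, cj_eq, inv_inv, ← mul_assoc, ← mul_assoc, sg_mul,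
          mul_inv_cancel, sg_one, one_mul]⟩
      map_add' := fun f g => by
        apply Subtype.ext
        ext s
        show sg k h • (f.1 (R s) + g.1 (R s)) = sg k h • f.1 (R s) + sg k h • g.1 (R s)
        rw [smul_add]
      map_smul' := fun c f => by
        apply Subtype.ext
        ext s
        show sg k h • (c • f.1 (R s)) = c • sg k h • f.1 (R s)
        rw [smul_k'] }
  obtain ⟨c, hc⟩ := Module.End.exists_eigenvalue Θ
  obtain ⟨f, hf⟩ := hc.exists_hasEigenvector
  have hf0 : f ≠ 0 := hf.2
  have hfe : ∀ s, sg k h • f.1 (R s) = c • f.1 s := by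
    intro s
    have h1 := hf.apply_eq_smul
    exact LinearMap.congr_fun (congrArg Subtype.val h1) s
  have hfh : ∀ s, ∃ s', sg k h • f.1 s = f.1 s' := by
    intro s
    refine ⟨c • R.symm s, ?_⟩
    rw [map_smul, ← hfe, LinearEquiv.apply_symm_apply]
  have hpow : ∀ (n : ℕ) s, ∃ s', sg k (h ^ n) • f.1 s = f.1 s' := by
    intro n
    induction n with
    | zero => intro s; exact ⟨s, by rw [pow_zero, sg_one, one_smul]⟩
    | succ n ih =>
      intro s
      obtain ⟨s1, hs1⟩ := hfh s
      obtain ⟨s2, hs2⟩ := ih s1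
      exact ⟨s2, by rw [pow_succ, ← sg_mul, mul_smul, hs1, hs2]⟩
  have hstab : ∀ (g : X), ∀ t ∈ LinearMap.range f.1, sg k g • t ∈ LinearMap.range f.1 := by
    rintro g _ ⟨s, rfl⟩
    obtain ⟨n, c, rfl⟩ := hgen g
    rw [← sg_mul, mul_smul, ← inc_sg', ← f.2]
    obtain ⟨s', hs'⟩ := hpow n (sg k c • s)
    exact ⟨s', hs'.symm⟩
  obtain ⟨s0, hs0⟩ : ∃ s0, f.1 s0 ≠ 0 := by
    by_contra hcon
    push Not at hcon
    apply hf0
    apply Subtype.ext
    ext s
    exact hcon s
  have htop : mkSub (X := X) (LinearMap.range f.1) hstab = ⊤ := by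
    rcases eq_bot_or_eq_top (mkSub (X := X) (LinearMap.range f.1) hstab) with h1 | h1
    · exfalso
      have h2 : f.1 s0 ∈ mkSub (X := X) (LinearMap.range f.1) hstab := ⟨s0, rfl⟩
      rw [h1] at h2
      exact hs0 ((Submodule.mem_bot (MonoidAlgebra k X)).1 h2)
    · exact h1
  have hsurj : Function.Surjective f.1 := by
    intro t
    have : t ∈ mkSub (X := X) (LinearMap.range f.1) hstab := by rw [htop]; exact Submodule.mem_top
    exact this
  have hinj : Function.Injective f.1 := by
    rw [← LinearMap.ker_eq_bot, Submodule.eq_bot_iff]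
    intro s hs
    by_contra hne
    obtain ⟨a, ha⟩ := H80.ML9.exists_smul hne s0
    apply hs0
    rw [← ha, f.2, show f.1 s = 0 from hs, smul_zero]
  exact ⟨LinearEquiv.ofBijective f.1 ⟨hinj, hsurj⟩, f.2⟩

end main

end H80.ML20
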