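import Cfsg.Agent.Lib.H80.ML20

set_option autoImplicit false
set_option linter.unusedSectionVars false
set_option linter.unusedVariables false
set_option linter.style.haveILetI false

/-!
# Twisting simple modules
-/

namespace H80.ML21

open H80.GA H80.GB H80.GF H80.ML1 H80.ML2 H80.ML3 H80.ML5 H80.ML8 H80.ML9 H80.ML11 H80.ML18
open H80.ML20
open H20.BrT (Dat)
open MonoidAlgebra

section tw
variable {k X : Type*} [Field k] [Group X]

/-- twisting by a linear character -/
noncomputable def tau (χ : X →* kˣ) : MonoidAlgebra k X →ₐ[k] MonoidAlgebra k X :=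
  MonoidAlgebra.lift k (MonoidAlgebra k X) X
    { toFun := fun g => (χ g : k) • sg k g
      map_one' := by rw [map_one, Units.val_one, one_smul, sg_one]
      map_mul' := fun g h => by
        rw [smul_mul_smul_comm, sg_mul, map_mul, Units.val_mul] }

lemma tau_sg (χ : X →* kˣ) (g : X) : tau χ (sg k g) = (χ g : k) • sg k g := by
  rw [tau, MonoidAlgebra.lift_single, one_smul]
  rfl

lemma tau_tau (χ : X →* kˣ) (a : MonoidAlgebra k X) : tau χ (tau χ⁻¹ a) = a := by
  induction a using MonoidAlgebra.induction_linear with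
  | zero => rw [map_zero, map_zero]
  | add f g hf hg => rw [map_add, map_add, hf, hg]
  | single g r =>
    have h1 : single g r = r • sg k g := by simp [sg]
    rw [h1, map_smul, map_smul, tau_sg, map_smul, tau_sg, MonoidHom.inv_apply, smul_smul (r : k),
      smul_smul (_ : k) (_ : k), mul_assoc, Units.inv_mul, mul_one]

lemma tau_inc {K : Type*} [Group K] [Finite K] [Finite X] {φ : K →* X} {χ : X →* kˣ} (h : ∀ c, χ (φ c) = 1)
    (a : MonoidAlgebra k K) : tau χ (inc k φ a) = inc k φ a := by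
  induction a using MonoidAlgebra.induction_linear with
  | zero => rw [map_zero, map_zero]
  | add f g hf hg => rw [map_add, map_add, hf, hg]
  | single g r =>
    have h1 : single g r = r • sg k g := by simp [sg]
    rw [h1, map_smul, map_smul, inc_sg', tau_sg, h, Units.val_one, one_smul]

/-- the twisted module -/
def Tw (χ : X →* kˣ) (T : Type*) : Type _ := T

variable (χ : X →* kˣ) (T : Type*) [AddCommGroup T] [Module k T] [Module (MonoidAlgebra k X) T]
  [IsScalarTower k (MonoidAlgebra k X) T]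

instance : AddCommGroup (Tw χ T) := inferInstanceAs (AddCommGroup T)
instance : Module k (Tw χ T) := inferInstanceAs (Module k T)

noncomputable instance : Module (MonoidAlgebra k X) (Tw χ T) :=
  Module.compHom T (tau χ).toRingHom

instance [FiniteDimensional k T] : FiniteDimensional k (Tw χ T) :=
  inferInstanceAs (FiniteDimensional k T)

instance [Nontrivial T] : Nontrivial (Tw χ T) := inferInstanceAs (Nontrivial T)

variable {χ T}

/-- underlying element -/
def toT (s : Tw χ T) : T := s

/-- element of the twist -/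
def ofT (s : T) : Tw χ T := s

lemma toT_smul (a : MonoidAlgebra k X) (s : Tw χ T) : toT (a • s) = tau χ a • toT s := rfl

lemma toT_k (c : k) (s : Tw χ T) : toT (c • s) = c • toT s := rfl

lemma toT_inj {s t : Tw χ T} (h : toT s = toT t) : s = t := h

instance : IsScalarTower k (MonoidAlgebra k X) (Tw χ T) := ⟨fun c a s => by
  apply toT_inj
  rw [toT_smul, toT_k, toT_smul, map_smul, smul_assoc]⟩

instance [IsSimpleModule (MonoidAlgebra k X) T] : IsSimpleModule (MonoidAlgebra k X) (Tw χ T) := by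
  have : Nontrivial T := IsSimpleModule.nontrivial (MonoidAlgebra k X) T
  refine (isSimpleModule_iff_toSpanSingleton_surjective).2 ⟨inferInstance, ?_⟩
  intro v hv w
  obtain ⟨a, ha⟩ := (isSimpleModule_iff_toSpanSingleton_surjective.1
    (inferInstance : IsSimpleModule (MonoidAlgebra k X) T)).2 (toT v) (fun h0 => hv h0) (toT w)
  refine ⟨tau χ⁻¹ a, ?_⟩
  apply toT_inj
  show toT (tau χ⁻¹ a • v) = toT w
  rw [toT_smul, tau_tau]
  exact ha

end tw

section main
variable {k K X : Type*} [Field k] [Group K] [Group X] [Finite K] [Finite X] {φ : K →* X}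
variable (D : Dat k (MonoidAlgebra k K)) (i : Fin D.n) {β : MonoidAlgebra k K}

theorem tw_eq [IsAlgClosed k] {T : Type*} [AddCommGroup T] [Module k T] [Module (MonoidAlgebra k X) T]
    [IsScalarTower k (MonoidAlgebra k X) T] [FiniteDimensional k T] [Nontrivial T]
    (f : SW D i ≃ₗ[k] T) (hf : ∀ a s, f (a • s) = inc k φ a • f s)
    {χ χ' : X →* kˣ} (hχ : ∀ c, χ (φ c) = 1) (hχ' : ∀ c, χ' (φ c) = 1)
    (h : Nonempty (Tw χ T ≃ₗ[MonoidAlgebra k X] Tw χ' T)) : χ = χ' := by
  obtain ⟨ψ⟩ := h
  let ψ0 : T →ₗ[k] T :=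
    { toFun := fun t => toT (ψ (ofT t))
      map_add' := fun s t => by
        rw [show (ofT (s + t) : Tw χ T) = ofT s + ofT t from rfl, map_add]; rfl
      map_smul' := fun c s => (lk ψ.toLinearMap).map_smul c (ofT s) }
  have hψ0 : ∀ (a : MonoidAlgebra k X) t, ψ0 (tau χ a • t) = tau χ' a • ψ0 t := by
    intro a t
    show toT (ψ (a • (ofT t : Tw χ T))) = tau χ' a • toT (ψ (ofT t))
    rw [map_smul, toT_smul]
  have hψK : ∀ (a : MonoidAlgebra k K) t, ψ0 (inc k φ a • t) = inc k φ a • ψ0 t := by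
    intro a t
    have h1 := hψ0 (inc k φ a) t
    rwa [tau_inc hχ, tau_inc hχ'] at h1
  obtain ⟨c, hc⟩ := schur (G := K) (f.symm.toLinearMap ∘ₗ ψ0 ∘ₗ f.toLinearMap) (fun g => by
    rw [cjE_eq_iff]
    intro s
    show f.symm (ψ0 (f (sg k g • s))) = sg k g • f.symm (ψ0 (f s))
    rw [hf, hψK]
    apply f.injective
    rw [LinearEquiv.apply_symm_apply, hf, LinearEquiv.apply_symm_apply])
  have hψc : ∀ t, ψ0 t = c • t := by
    intro t
    have h1 := hc (f.symm t)
    have h2 : f.symm (ψ0 (f (f.symm t))) = c • f.symm t := h1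
    rw [LinearEquiv.apply_symm_apply] at h2
    have h3 := congrArg f h2
    rwa [LinearEquiv.apply_symm_apply, map_smul, LinearEquiv.apply_symm_apply] at h3
  obtain ⟨t, ht⟩ := exists_ne (0 : T)
  have hc0 : c ≠ 0 := by
    rintro rfl
    have h1 := hψc t
    rw [zero_smul] at h1
    have h2 : ψ (ofT t) = 0 := h1
    have h3 : (ofT t : Tw χ T) = 0 := ψ.injective (by rw [h2, map_zero])
    exact ht h3
  ext g
  have h1 := hψ0 (sg k g) t
  rw [tau_sg, tau_sg, hψc, hψc, smul_assoc, smul_assoc, smul_k', ← sub_eq_zero, smul_smul, smul_smul,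
    ← sub_smul] at h1
  have hgt : sg k g • t ≠ 0 := by
    intro h0
    apply ht
    have := congrArg (sg k g⁻¹ • ·) h0
    simp only [smul_zero] at this
    rwa [← mul_smul, sg_mul, inv_mul_cancel, sg_one, one_smul] at this
  have h2 := (smul_eq_zero.1 h1).resolve_right hgt
  have h3 : c * ((χ g : k) - χ' g) = 0 := by rw [← h2]; ring
  exact sub_eq_zero.1 ((mul_eq_zero.1 h3).resolve_left hc0)

/-- **the number of simple modules of the stabilizer block** -/
theorem count [IsAlgClosed k] (hφ : Function.Injective φ) (hn : φ.range.Normal)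
    (hββ : β * β = β) (hβ0 : β ≠ 0)
    (he : ∀ j, j ≠ i → D.π β j = 0) (hei : D.π β i = 1)
    (hcβX : ∀ a, inc k φ β * a = a * inc k φ β)
    (hinv : ∀ h : X, cj h (inc k φ β) = inc k φ β) (lam : X →* kˣ) (hlam : lam.ker = φ.range)
    (DX : Dat k (MonoidAlgebra k X)) :
    Nat.card lam.range ≤ Nat.card {j : Fin DX.n // DX.π (inc k φ β) j ≠ 0} := by
  classical
  -- a simple module in the block
  have hββX : inc k φ β * inc k φ β = inc k φ β := by rw [← map_mul, hββ]
  obtain ⟨i1, hi1⟩ : ∃ i1, DX.π (inc k φ β) i1 ≠ 0 := by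
    by_contra hcon
    push Not at hcon
    obtain ⟨n, hn'⟩ := DX.nil (inc k φ β) (funext hcon)
    have h1 : ∀ m : ℕ, (inc k φ β) ^ (m + 1) = inc k φ β := by
      intro m
      induction m with
      | zero => rw [zero_add, pow_one]
      | succ m ih => rw [pow_succ, ih, hββX]
    have h2 : inc k φ β = 0 := by
      rw [← h1 n, pow_succ, hn', zero_mul]
    exact hβ0 (inc_injective (k := k) hφ (by rw [h2, map_zero]))
  have h1 : DX.π (inc k φ β) i1 = 1 := (pi_central DX hcβX hββX i1).resolve_left hi1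
  have hβT : ∀ t : SW DX i1, inc k φ β • t = t := smul_id DX h1
  -- a generator
  have hfin : Finite lam.range := Finite.of_surjective lam.rangeRestrict lam.rangeRestrict_surjective
  have hcyc : IsCyclic lam.range := inferInstance
  obtain ⟨⟨_, h, rfl⟩, hh⟩ := hcyc.exists_generator
  have hgen : ∀ g : X, ∃ (n : ℕ) (c : K), g = h ^ n * φ c := by
    intro g
    have h2 := hh ⟨lam g, g, rfl⟩
    rw [← mem_powers_iff_mem_zpowers] at h2
    obtain ⟨n, hn'⟩ := h2
    have h3 : lam h ^ n = lam g := congrArg (fun z : lam.range => (z : kˣ)) hn'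
    have h4 : (h ^ n)⁻¹ * g ∈ lam.ker := by
      rw [MonoidHom.mem_ker, map_mul, map_inv, map_pow, h3, inv_mul_cancel]
    rw [hlam] at h4
    obtain ⟨c, hc⟩ := h4
    exact ⟨n, c, by rw [hc, mul_inv_cancel_left]⟩
  obtain ⟨f, hf⟩ := res_simple D i hφ hn he hei hinv hgen (T := SW DX i1) hβT
  have hlamK : ∀ (j : ℕ) c, (lam ^ j) (φ c) = 1 := by
    intro j c
    have : lam (φ c) = 1 := by
      rw [← MonoidHom.mem_ker, hlam]
      exact ⟨c, rfl⟩
    rw [MonoidHom.pow_apply, this, one_pow]
  have key : ∀ j : Fin (Nat.card lam.range), ∃ r : {j : Fin DX.n // DX.π (inc k φ β) j ≠ 0},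
      Nonempty (SW DX r.1 ≃ₗ[MonoidAlgebra k X] Tw (lam ^ (j : ℕ)) (SW DX i1)) := by
    intro j
    obtain ⟨r, ⟨ψ⟩⟩ := exists_iso DX (Tw (lam ^ (j : ℕ)) (SW DX i1))
    refine ⟨⟨r, ?_⟩, ⟨ψ⟩⟩
    apply pi_ne_of_smul
    intro v
    apply ψ.injective
    rw [map_smul]
    apply toT_inj
    rw [toT_smul, tau_inc (hlamK _), hβT]
  choose r hr using key
  have hinj : Function.Injective r := by
    intro j j' hjj'
    obtain ⟨ψ⟩ := hr j
    obtain ⟨ψ'⟩ := hr j'
    have hiso : Nonempty (Tw (lam ^ (j : ℕ)) (SW DX i1) ≃ₗ[MonoidAlgebra k X]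
        Tw (lam ^ (j' : ℕ)) (SW DX i1)) := by
      rw [← hjj'] at ψ'
      exact ⟨ψ.symm.trans ψ'⟩
    have h2 := tw_eq D i f hf (hlamK j) (hlamK j') hiso
    have h3 : lam h ^ (j : ℕ) = lam h ^ (j' : ℕ) := by
      rw [← MonoidHom.pow_apply, ← MonoidHom.pow_apply, h2]
    have hord : orderOf (lam h) = Nat.card lam.range := by
      have := orderOf_eq_card_of_forall_mem_zpowers hh
      rw [← this, ← Subgroup.orderOf_coe]
    apply Fin.ext
    exact pow_injOn_Iio_orderOf (by rw [Set.mem_Iio, hord]; exact j.2)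
      (by rw [Set.mem_Iio, hord]; exact j'.2) h3
  have h5 := Nat.card_le_card_of_injective r hinj
  simpa using h5

end main

end H80.ML21
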