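import Cfsg.Agent.Lib.H80.GK

set_option autoImplicit false
set_option linter.unusedSectionVars false
set_option linter.unusedVariables false
set_option linter.style.haveILetI false

/-!
# Coset sums and relative traces
-/

namespace H80.ML3

open H80.GA H80.GB H80.GC H80.GD H80.GE H80.GH H80.GK MonoidAlgebra
open scoped Pointwise

section sums
variable {G M : Type*} [Group G] [Finite G] [AddCommMonoid M]

/-- sum over the cosets of `D` in `H` -/
noncomputable def csum (D H : Subgroup G) (φ : G → M) : M := by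
  classical
  haveI := Fintype.ofFinite (G ⧸ D)
  exact ∑ y ∈ Finset.univ.filter (fun y : G ⧸ D => y.out ∈ H), φ y.out

lemma csum_eq (D H : Subgroup G) (φ : G → M) [Fintype (G ⧸ D)]
    [DecidablePred (fun y : G ⧸ D => y.out ∈ H)] :
    csum D H φ = ∑ y ∈ Finset.univ.filter (fun y : G ⧸ D => y.out ∈ H), φ y.out := by
  classical
  unfold csum
  refine Finset.sum_congr ?_ fun _ _ => rfl
  ext y; simp

/-- right invariance -/
def Inv (D : Subgroup G) (φ : G → M) : Prop := ∀ g, ∀ d ∈ D, φ (g * d) = φ g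

lemma Inv.out {D : Subgroup G} {φ : G → M} (h : Inv D φ) (g : G) :
    φ (QuotientGroup.mk g : G ⧸ D).out = φ g := by
  obtain ⟨d, hd⟩ := QuotientGroup.mk_out_eq_mul D g
  rw [hd]
  exact h g d d.2

lemma out_mem_iff {D H : Subgroup G} (hDH : D ≤ H) (g : G) :
    (QuotientGroup.mk g : G ⧸ D).out ∈ H ↔ g ∈ H := by
  obtain ⟨d, hd⟩ := QuotientGroup.mk_out_eq_mul D g
  rw [hd]
  exact Subgroup.mul_mem_cancel_right _ (hDH d.2)

lemma csum_congr {D H : Subgroup G} {φ ψ : G → M} (h : ∀ g ∈ H, φ g = ψ g) :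
    csum D H φ = csum D H ψ := by
  classical
  unfold csum
  exact Finset.sum_congr rfl fun y hy => h _ (Finset.mem_filter.1 hy).2

lemma csum_add (D H : Subgroup G) (φ ψ : G → M) :
    csum D H (fun g => φ g + ψ g) = csum D H φ + csum D H ψ := by
  classical
  unfold csum
  exact Finset.sum_add_distrib

lemma map_csum {M' : Type*} [AddCommMonoid M'] (D H : Subgroup G) (φ : G → M) (f : M →+ M') :
    f (csum D H φ) = csum D H (fun g => f (φ g)) := by
  classical
  unfold csum
  exact map_sum f _ _

/-- transitivity -/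
theorem csum_trans {Q D H : Subgroup G} (hQD : Q ≤ D) (hDH : D ≤ H) {φ : G → M} (hφ : Inv Q φ) :
    csum Q H φ = csum D H (fun g => csum Q D (fun z => φ (g * z))) := by
  classical
  have := Fintype.ofFinite (G ⧸ D)
  have := Fintype.ofFinite (G ⧸ Q)
  simp only [csum_eq]
  let π : G ⧸ Q → G ⧸ D := fun y => (QuotientGroup.mk y.out : G ⧸ D)
  have h1 := Finset.sum_fiberwise_of_maps_to (s := Finset.univ.filter (fun y : G ⧸ Q => y.out ∈ H))
    (t := Finset.univ.filter (fun y : G ⧸ D => y.out ∈ H)) (g := π) (f := fun y => φ y.out) ?_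
  · have h2 : ∀ x ∈ Finset.univ.filter (fun y : G ⧸ D => y.out ∈ H),
        ∑ y ∈ (Finset.univ.filter (fun y : G ⧸ Q => y.out ∈ H)).filter (fun y => π y = x), φ y.out =
        ∑ z ∈ Finset.univ.filter (fun z : G ⧸ Q => z.out ∈ D), φ (x.out * z.out) := by
      intro x hx
      symm
      refine Finset.sum_bij (fun z _ => (QuotientGroup.mk (x.out * z.out) : G ⧸ Q)) ?_ ?_ ?_ ?_
      · intro z hz
        simp only [Finset.mem_filter, Finset.mem_univ, true_and] at hz hx ⊢
        refine ⟨?_, ?_⟩
        · rw [out_mem_iff (hQD.trans hDH)]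
          exact mul_mem hx (hDH hz)
        · show (QuotientGroup.mk (QuotientGroup.mk (x.out * z.out) : G ⧸ Q).out : G ⧸ D) = x
          obtain ⟨d, hd⟩ := QuotientGroup.mk_out_eq_mul Q (x.out * z.out)
          rw [hd]
          conv_rhs => rw [← QuotientGroup.out_eq' x]
          rw [QuotientGroup.eq]
          have : (x.out * z.out * (d : G))⁻¹ * x.out = (z.out * d)⁻¹ := by group
          rw [this]
          exact inv_mem (mul_mem hz (hQD d.2))
      · intro z hz z' hz' h
        have h3 := QuotientGroup.eq.1 h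
        have h4 : (x.out * z.out)⁻¹ * (x.out * z'.out) = z.out⁻¹ * z'.out := by group
        rw [h4] at h3
        have h5 := QuotientGroup.eq.2 h3
        rwa [QuotientGroup.out_eq', QuotientGroup.out_eq'] at h5
      · intro y hy
        simp only [Finset.mem_filter, Finset.mem_univ, true_and] at hy
        have h3 : x.out⁻¹ * y.out ∈ D := by
          have := hy.2
          conv_rhs at this => rw [← QuotientGroup.out_eq' x]
          exact QuotientGroup.eq.1 this.symm
        refine ⟨QuotientGroup.mk (x.out⁻¹ * y.out), ?_, ?_⟩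
        · simp only [Finset.mem_filter, Finset.mem_univ, true_and]
          rw [out_mem_iff hQD]; exact h3
        · obtain ⟨d, hd⟩ := QuotientGroup.mk_out_eq_mul Q (x.out⁻¹ * y.out)
          rw [hd]
          conv_rhs => rw [← QuotientGroup.out_eq' y]
          rw [QuotientGroup.eq]
          have : (x.out * (x.out⁻¹ * y.out * (d : G)))⁻¹ * y.out = (d : G)⁻¹ := by group
          rw [this]
          exact inv_mem d.2
      · intro z hz
        exact (hφ.out _).symm
    rw [← h1]
    exact Finset.sum_congr rfl h2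
  · intro y hy
    simp only [Finset.mem_filter, Finset.mem_univ, true_and] at hy ⊢
    show (QuotientGroup.mk y.out : G ⧸ D).out ∈ H
    rw [out_mem_iff hDH]; exact hy

lemma csum_const {Q D : Subgroup G} (hQD : Q ≤ D) (m : M) :
    csum Q D (fun _ => m) = Q.relIndex D • m := by
  classical
  have := Fintype.ofFinite (G ⧸ Q)
  rw [csum_eq, Finset.sum_const]
  congr 1
  have h1 : Q.relIndex D = Nat.card (D ⧸ Q.subgroupOf D) := rfl
  rw [h1, ← Nat.card_eq_finsetCard]
  refine Nat.card_congr (Equiv.ofBijective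
    (fun y => (QuotientGroup.mk (⟨y.1.out, (Finset.mem_filter.1 y.2).2⟩ : D) : D ⧸ Q.subgroupOf D))
    ⟨?_, ?_⟩)
  · rintro ⟨y, hy⟩ ⟨z, hz⟩ h
    have h2 := QuotientGroup.eq.1 h
    rw [Subgroup.mem_subgroupOf] at h2
    have h3 : y = z := by
      have := QuotientGroup.eq.2 h2
      simpa using this
    exact Subtype.ext h3
  · intro q
    induction q using QuotientGroup.induction_on with
    | _ d =>
    refine ⟨⟨QuotientGroup.mk (d : G), ?_⟩, ?_⟩
    · simp only [Finset.mem_filter, Finset.mem_univ, true_and]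
      rw [out_mem_iff hQD]; exact d.2
    · rw [QuotientGroup.eq, Subgroup.mem_subgroupOf]
      obtain ⟨e, he⟩ := QuotientGroup.mk_out_eq_mul Q (d : G)
      show ((QuotientGroup.mk (d : G) : G ⧸ Q).out)⁻¹ * (d : G) ∈ Q
      rw [he]
      have : ((d : G) * e)⁻¹ * d = (e : G)⁻¹ := by group
      rw [this]; exact inv_mem e.2

end sums

variable {k G : Type*} [Field k] [Group G] [Finite G]

/-- relative trace in the group algebra -/
noncomputable def Tr (D H : Subgroup G) (a : MonoidAlgebra k G) : MonoidAlgebra k G :=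
  csum D H (fun g => cj g a)

lemma inv_cj {D : Subgroup G} {a : MonoidAlgebra k G} (ha : a ∈ Fx k D) :
    Inv D (fun g => cj g a) := by
  intro g d hd
  show cj (g * d) a = cj g a
  rw [cj_mul, ha d hd]

lemma coeff_Tr (D H : Subgroup G) (a : MonoidAlgebra k G) (x : G) :
    (Tr D H a).coeff x = csum D H (fun g => a.coeff (g⁻¹ * x * g)) := by
  classical
  have := Fintype.ofFinite (G ⧸ D)
  unfold Tr
  rw [csum_eq, csum_eq, coeff_sum']
  exact Finset.sum_congr rfl fun y _ => coeff_cj _ _ _

lemma Tr_mul {D H : Subgroup G} {w : MonoidAlgebra k G} (hw : w ∈ Fx k H) (a : MonoidAlgebra k G) :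
    w * Tr D H a = Tr D H (w * a) := by
  unfold Tr
  have := map_csum D H (fun g => cj g a) (AddMonoidHom.mulLeft w)
  rw [AddMonoidHom.coe_mulLeft] at this
  rw [this]
  refine csum_congr fun g hg => ?_
  rw [map_mul, hw g hg]

lemma Tr_smul {D H : Subgroup G} (c : k) (a : MonoidAlgebra k G) :
    Tr D H (c • a) = c • Tr D H a := by
  unfold Tr
  have := map_csum D H (fun g => cj g a) (DistribSMul.toAddMonoidHom (MonoidAlgebra k G) c)
  rw [show (DistribSMul.toAddMonoidHom (MonoidAlgebra k G) c) (csum D H fun g => cj g a) =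
    c • csum D H (fun g => cj g a) from rfl] at this
  rw [this]
  refine csum_congr fun g hg => ?_
  rw [map_smul]; rfl

lemma Tr_trans {Q D H : Subgroup G} (hQD : Q ≤ D) (hDH : D ≤ H) {a : MonoidAlgebra k G}
    (ha : a ∈ Fx k Q) : Tr Q H a = Tr D H (Tr Q D a) := by
  unfold Tr
  rw [csum_trans hQD hDH (inv_cj ha)]
  refine csum_congr fun g hg => ?_
  have := map_csum Q D (fun z => cj z a) ((cj (k := k) g : MonoidAlgebra k G ≃ₐ[k] MonoidAlgebra k G) :
    MonoidAlgebra k G →+ MonoidAlgebra k G)
  rw [show cj g (csum Q D fun z => cj z a) = ((cj (k := k) g : MonoidAlgebra k G ≃ₐ[k] MonoidAlgebra k G) :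
    MonoidAlgebra k G →+ MonoidAlgebra k G) (csum Q D fun z => cj z a) from rfl, this]
  refine csum_congr fun z hz => ?_
  exact cj_mul g z a

lemma Tr_fixed {Q D : Subgroup G} (hQD : Q ≤ D) {a : MonoidAlgebra k G} (ha : a ∈ Fx k D) :
    Tr Q D a = (Q.relIndex D : k) • a := by
  unfold Tr
  rw [csum_congr (ψ := fun _ => a) (fun g hg => ha g hg), csum_const hQD, Nat.cast_smul_eq_nsmul]

/-- traces are fixed -/
lemma Tr_mem_Fx {D H : Subgroup G} (hDH : D ≤ H) {a : MonoidAlgebra k G} (ha : a ∈ Fx k D) :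
    Tr D H a ∈ Fx k H := by
  classical
  intro h hh
  have := Fintype.ofFinite (G ⧸ D)
  unfold Tr
  rw [csum_eq, map_sum]
  refine Finset.sum_bij (fun y _ => h • y) ?_ ?_ ?_ ?_
  · intro y hy
    simp only [Finset.mem_filter, Finset.mem_univ, true_and] at hy ⊢
    have : h • y = (QuotientGroup.mk (h * y.out) : G ⧸ D) := by
      conv_lhs => rw [← QuotientGroup.out_eq' y]
      rfl
    rw [this, out_mem_iff hDH]
    exact mul_mem hh hy
  · intro y _ z _ h1
    exact smul_left_cancel h h1
  · intro y hy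
    simp only [Finset.mem_filter, Finset.mem_univ, true_and] at hy
    refine ⟨h⁻¹ • y, ?_, smul_inv_smul h y⟩
    simp only [Finset.mem_filter, Finset.mem_univ, true_and]
    have : h⁻¹ • y = (QuotientGroup.mk (h⁻¹ * y.out) : G ⧸ D) := by
      conv_lhs => rw [← QuotientGroup.out_eq' y]
      rfl
    rw [this, out_mem_iff hDH]
    exact mul_mem (inv_mem hh) hy
  · intro y _
    have : h • y = (QuotientGroup.mk (h * y.out) : G ⧸ D) := by
      conv_lhs => rw [← QuotientGroup.out_eq' y]
      rfl
    rw [this, ← cj_mul]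
    exact ((inv_cj ha).out _).symm

lemma Tr_mem_Sp {D H K : Subgroup G} (hHK : H ≤ K) {a : MonoidAlgebra k G} (ha : a ∈ Sp k K) :
    Tr D H a ∈ Sp k K := by
  classical
  have := Fintype.ofFinite (G ⧸ D)
  unfold Tr
  rw [csum_eq]
  refine Subalgebra.sum_mem _ fun y hy => ?_
  have := cj_mem_Sp (g := y.out) ha
  rwa [cs_of_mem (hHK (Finset.mem_filter.1 hy).2)] at this

/-- class sums as traces -/
lemma kap_eq {H : Subgroup G} {y : G} (hy : y ∈ H) :
    kap k (orb H y) = Tr (H ⊓ Subgroup.centralizer ({y} : Set G)) H (single y (1 : k)) := by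
  classical
  refine ext' fun x => ?_
  have := Fintype.ofFinite (G ⧸ (H ⊓ Subgroup.centralizer ({y} : Set G)))
  rw [coeff_kap, coeff_Tr, csum_eq]
  split_ifs with hx
  · obtain ⟨c, hc, hcx⟩ := hx
    rw [Finset.sum_eq_single (QuotientGroup.mk c)]
    · obtain ⟨d, hd⟩ := QuotientGroup.mk_out_eq_mul (H ⊓ Subgroup.centralizer ({y} : Set G)) c
      have hdy : y * d = d * y := mem_cent_singleton.1 d.2.2
      rw [hd, ← hcx]
      have : (c * d)⁻¹ * (c * y * c⁻¹) * (c * (d : G)) = (d : G)⁻¹ * (y * d) := by group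
      show 1 = (single y (1 : k)).coeff ((c * d)⁻¹ * (c * y * c⁻¹) * (c * (d : G)))
      rw [this, hdy, inv_mul_cancel_left]
      simp
    · intro z hz hne
      simp only [Finset.mem_filter, Finset.mem_univ, true_and] at hz
      show (single y (1 : k)).coeff (z.out⁻¹ * x * z.out) = 0
      rw [MonoidAlgebra.coeff_single, Finsupp.single_apply, if_neg]
      intro h
      apply hne
      rw [← QuotientGroup.out_eq' z, QuotientGroup.eq]
      refine Subgroup.mem_inf.2 ⟨H.mul_mem (H.inv_mem hz) hc, ?_⟩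
      rw [mem_cent_singleton]
      rw [← hcx] at h
      have h2 : ∀ g : G, y = g⁻¹ * (c * y * c⁻¹) * g → g⁻¹ * c * y = y * (g⁻¹ * c) := by
        intro g hg
        calc g⁻¹ * c * y = g⁻¹ * (c * y * c⁻¹) * g * (g⁻¹ * c) := by group
          _ = y * (g⁻¹ * c) := by rw [← hg]
      exact (h2 _ h).symm
    · intro hcon
      exfalso
      apply hcon
      simp only [Finset.mem_filter, Finset.mem_univ, true_and]
      rw [out_mem_iff inf_le_left]; exact hc
  · symm
    apply Finset.sum_eq_zero
    intro z hz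
    simp only [Finset.mem_filter, Finset.mem_univ, true_and] at hz
    show (single y (1 : k)).coeff (z.out⁻¹ * x * z.out) = 0
    rw [MonoidAlgebra.coeff_single, Finsupp.single_apply, if_neg]
    intro h
    apply hx
    have h2 : ∀ g : G, y = g⁻¹ * x * g → g * y * g⁻¹ = x := by
      intro g hg; rw [hg]; group
    exact ⟨z.out, hz, h2 _ h⟩

end H80.ML3
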