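import Cfsg.Agent.Lib.H80.ML5

set_option autoImplicit false
set_option linter.unusedSectionVars false
set_option linter.unusedVariables false
set_option linter.style.haveILetI false

/-!
# Stable quotients: a module of a subgroup is a stable quotient of a simple module
-/

namespace H80.ML6

open H80.GA H80.GB H80.GC H80.ML1 H80.ML2 H80.ML5 MonoidAlgebra
open scoped Pointwise

universe v w

section
variable {k G : Type*} [Field k] [Group G] {N : Subgroup G} [Fintype N]
variable {V T : Type*} [AddCommGroup V] [Module k V] [Module (MonoidAlgebra k G) V]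
  [IsScalarTower k (MonoidAlgebra k G) V] [AddCommGroup T] [Module k T]
  [Module (MonoidAlgebra k N) T] [IsScalarTower k (MonoidAlgebra k N) T]

omit [Fintype N] in
/-- equivariance over `N` -/
def EqN (f : V →ₗ[k] T) : Prop := ∀ (n : N) (v : V), f (sg k (n : G) • v) = sg k n • f v

/-- traces -/
def IsTr (f : V →ₗ[k] T) : Prop :=
  ∃ θ : V →ₗ[k] T, ∀ v, f v = ∑ n : N, sg k n • θ (sg k (n : G)⁻¹ • v)

omit [Module (MonoidAlgebra k G) V] [IsScalarTower k (MonoidAlgebra k G) V] in
lemma exists_extend' {W : Submodule k V} (θ : W →ₗ[k] T) : ∃ θ' : V →ₗ[k] T, ∀ w : W, θ' w = θ w := by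
  obtain ⟨θ', h⟩ := LinearMap.exists_extend θ
  exact ⟨θ', fun w => by rw [← h]; rfl⟩

lemma tr_eqN (θ : V →ₗ[k] T) (m : N) (v : V) :
    ∑ n : N, sg k n • θ (sg k (n : G)⁻¹ • sg k (m : G) • v) =
      sg k m • ∑ n : N, sg k n • θ (sg k (n : G)⁻¹ • v) := by
  rw [Finset.smul_sum, ← Equiv.sum_comp (Equiv.mulLeft m)]
  refine Finset.sum_congr rfl fun n _ => ?_
  rw [Equiv.coe_mulLeft, ← mul_smul, ← mul_smul (sg k m), sg_mul, sg_mul]
  congr 3
  rw [Subgroup.coe_mul, mul_inv_rev, inv_mul_cancel_right]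

/-- the trace as a linear map -/
noncomputable def trMap (θ : V →ₗ[k] T) : V →ₗ[k] T where
  toFun v := ∑ n : N, sg k n • θ (sg k (n : G)⁻¹ • v)
  map_add' u v := by
    rw [← Finset.sum_add_distrib]
    exact Finset.sum_congr rfl fun n _ => by rw [smul_add, map_add, smul_add]
  map_smul' c v := by
    rw [RingHom.id_apply, Finset.smul_sum]
    exact Finset.sum_congr rfl fun n _ => by rw [smul_k', map_smul, smul_k']

lemma trMap_apply (θ : V →ₗ[k] T) (v : V) :
    trMap (N := N) θ v = ∑ n : N, sg k n • θ (sg k (n : G)⁻¹ • v) := rfl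

/-- descent to a quotient -/
lemma exists_desc (W : Submodule (MonoidAlgebra k G) V) (f : V →ₗ[k] T) (hf : ∀ w ∈ W, f w = 0) :
    ∃ f' : (V ⧸ W) →ₗ[k] T, ∀ v : V, f' (W.mkQ v) = f v := by
  have hout : ∀ v : V, f (W.mkQ v).out = f v := by
    intro v
    have h1 : W.mkQ (W.mkQ v).out = W.mkQ v := Quotient.out_eq _
    have h2 : (W.mkQ v).out - v ∈ W := by
      have h4 : W.mkQ ((W.mkQ v).out - v) = 0 := by rw [map_sub, h1, sub_self]
      exact (Submodule.Quotient.mk_eq_zero W).1 h4
    have h3 := hf _ h2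
    rw [map_sub, sub_eq_zero] at h3
    exact h3
  refine ⟨{ toFun := fun q => f q.out, map_add' := ?_, map_smul' := ?_ }, hout⟩
  · intro x y
    obtain ⟨u, rfl⟩ := W.mkQ_surjective x
    obtain ⟨v, rfl⟩ := W.mkQ_surjective y
    rw [← map_add, hout, hout, hout, map_add]
  · intro c x
    obtain ⟨u, rfl⟩ := W.mkQ_surjective x
    have : c • W.mkQ u = W.mkQ (c • u) := rfl
    rw [this, hout, hout, map_smul, RingHom.id_apply]

end

section
variable {k G : Type*} [Field k] [Group G] {N : Subgroup G} [Fintype N]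
variable {T : Type w} [AddCommGroup T] [Module k T]
  [Module (MonoidAlgebra k N) T] [IsScalarTower k (MonoidAlgebra k N) T]

theorem exists_simple (e : MonoidAlgebra k G) (n : ℕ) :
    ∀ (V : Type v) [AddCommGroup V] [Module k V] [Module (MonoidAlgebra k G) V]
      [IsScalarTower k (MonoidAlgebra k G) V] [FiniteDimensional k V]
      (he : ∀ v : V, e • v = v) (hn : Module.finrank k V = n)
      (f : V →ₗ[k] T) (hf : EqN (N := N) f) (hf' : ¬ IsTr (N := N) f),
      ∃ (S : Type v) (_ : AddCommGroup S) (_ : Module k S) (_ : Module (MonoidAlgebra k G) S)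
        (_ : IsScalarTower k (MonoidAlgebra k G) S) (_ : FiniteDimensional k S)
        (_ : IsSimpleModule (MonoidAlgebra k G) S) (f : S →ₗ[k] T), (∀ s : S, e • s = s) ∧
        EqN (N := N) f ∧ ¬ IsTr (N := N) f := by
  induction n using Nat.strong_induction_on with
  | _ n ih =>
  intro V _ _ _ _ _ he hn f hf hf'
  by_cases hs : IsSimpleModule (MonoidAlgebra k G) V
  · exact ⟨V, inferInstance, inferInstance, inferInstance, inferInstance, inferInstance, hs, f,
      he, hf, hf'⟩
  have hnt : Nontrivial V := by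
    by_contra hcon
    rw [not_nontrivial_iff_subsingleton] at hcon
    apply hf'
    refine ⟨0, fun v => ?_⟩
    rw [Subsingleton.elim v 0, map_zero]
    simp
  obtain ⟨W, hW0, hW1⟩ : ∃ W : Submodule (MonoidAlgebra k G) V, W ≠ ⊥ ∧ W ≠ ⊤ := by
    by_contra hcon
    push Not at hcon
    apply hs
    rw [isSimpleModule_iff]
    exact { exists_pair_ne := ⟨⊥, ⊤, bot_ne_top⟩
            eq_bot_or_eq_top := fun W => by
              by_cases h : W = ⊥
              · exact Or.inl h
              · exact Or.inr (hcon W h) }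
  have hfdW : FiniteDimensional k W := fd_sub k W
  have hfdQ : FiniteDimensional k (V ⧸ W) :=
    Module.Finite.of_surjective (lk W.mkQ) W.mkQ_surjective
  have hltW : Module.finrank k W < n := by
    rw [← hn]
    have : W.restrictScalars k ≠ ⊤ := by
      rw [Ne, Submodule.restrictScalars_eq_top_iff]; exact hW1
    exact Submodule.finrank_lt this
  have hltQ : Module.finrank k (V ⧸ W) < n := by
    rw [← hn]
    have h1 := LinearMap.finrank_range_add_finrank_ker (lk (k := k) W.mkQ)
    have h2 : LinearMap.range (lk (k := k) W.mkQ) = ⊤ :=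
      LinearMap.range_eq_top.2 W.mkQ_surjective
    rw [h2, finrank_top] at h1
    have h3 : 0 < Module.finrank k (LinearMap.ker (lk (k := k) W.mkQ)) := by
      rw [Module.finrank_pos_iff, Submodule.nontrivial_iff_ne_bot]
      intro h0
      obtain ⟨w, hw, hw0⟩ := (Submodule.ne_bot_iff _).1 hW0
      have : w ∈ LinearMap.ker (lk (k := k) W.mkQ) := by
        rw [LinearMap.mem_ker]
        exact (Submodule.Quotient.mk_eq_zero W).2 hw
      rw [h0] at this
      exact hw0 ((Submodule.mem_bot k).1 this)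
    omega
  by_cases hfW : IsTr (N := N) (f ∘ₗ lk (k := k) W.subtype)
  · obtain ⟨θ, hθ⟩ := hfW
    obtain ⟨θ', hθ'⟩ := exists_extend' (W := W.restrictScalars k) (T := T) θ
    have hvan : ∀ w ∈ W, (f - trMap (N := N) θ') w = 0 := by
      intro w hw
      rw [LinearMap.sub_apply, trMap_apply, sub_eq_zero]
      have h1 := hθ ⟨w, hw⟩
      have h2 : f w = ∑ n : N, sg k n • θ (sg k (n : G)⁻¹ • (⟨w, hw⟩ : W)) := h1
      rw [h2]
      refine Finset.sum_congr rfl fun n _ => ?_
      congr 1
      exact (hθ' (sg k (n : G)⁻¹ • (⟨w, hw⟩ : W))).symm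
    obtain ⟨f', hf1⟩ := exists_desc W _ hvan
    refine ih _ hltQ (V ⧸ W) ?_ rfl f' ?_ ?_
    · intro q
      obtain ⟨u, rfl⟩ := W.mkQ_surjective q
      rw [← map_smul, he]
    · intro m q
      obtain ⟨u, rfl⟩ := W.mkQ_surjective q
      rw [← map_smul, hf1, hf1, LinearMap.sub_apply, LinearMap.sub_apply, hf, trMap_apply,
        tr_eqN, trMap_apply, smul_sub]
    · rintro ⟨η, hη⟩
      apply hf'
      refine ⟨θ' + η ∘ₗ lk (k := k) W.mkQ, fun u => ?_⟩
      have h1 := hη (W.mkQ u)
      rw [hf1, LinearMap.sub_apply, sub_eq_iff_eq_add] at h1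
      rw [h1, trMap_apply, ← Finset.sum_add_distrib]
      refine Finset.sum_congr rfl fun n _ => ?_
      rw [LinearMap.add_apply, smul_add, add_comm]
      congr 2
  · refine ih _ hltW W (fun w => Subtype.ext (he w)) rfl (f ∘ₗ lk (k := k) W.subtype) ?_ hfW
    intro n w
    exact hf n w

end

end H80.ML6
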