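import Cfsg.Agent.Lib.H80.ML6

set_option autoImplicit false
set_option linter.unusedSectionVars false
set_option linter.unusedVariables false
set_option linter.style.haveILetI false

/-!
# Coinduced modules
-/

namespace H80.ML7

open H80.GA H80.GB H80.GC H80.ML1 H80.ML2 H80.ML5 H80.ML6 MonoidAlgebra
open scoped Pointwise

universe u w

variable {k : Type*} {G : Type u} [Field k] [Group G] (N : Subgroup G)
variable (T : Type w) [AddCommGroup T] [Module k T]
  [Module (MonoidAlgebra k N) T] [IsScalarTower k (MonoidAlgebra k N) T]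

variable (k) in
/-- the coinduced module -/
def CI : Submodule k (G → T) where
  carrier := {F | ∀ (n : N) (g : G), F (n * g) = sg k n • F g}
  add_mem' := fun {F F'} h h' n g => by
    show F (n * g) + F' (n * g) = sg k n • (F g + F' g)
    rw [h, h', smul_add]
  zero_mem' := fun n g => by show (0 : T) = sg k n • (0 : T); rw [smul_zero]
  smul_mem' := fun c F h n g => by
    show c • F (n * g) = sg k n • c • F g
    rw [h, smul_k']

variable (k) in
/-- right translation -/
def rho : G →* Module.End k (CI k N T) where
  toFun h :=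
    { toFun := fun F => ⟨fun g => F.1 (g * h), fun n g => by
        show F.1 (n * g * h) = _
        rw [mul_assoc]; exact F.2 n (g * h)⟩
      map_add' := fun _ _ => rfl
      map_smul' := fun _ _ => rfl }
  map_one' := by
    ext F g
    show F.1 (g * 1) = F.1 g
    rw [mul_one]
  map_mul' h h' := by
    ext F g
    show F.1 (g * (h * h')) = F.1 (g * h * h')
    rw [mul_assoc]

noncomputable instance : Module (MonoidAlgebra k G) (CI k N T) :=
  Module.compHom _ ((MonoidAlgebra.lift k (Module.End k (CI k N T)) G (rho k N T)).toRingHom)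

lemma smul_def' (a : MonoidAlgebra k G) (F : CI k N T) :
    a • F = MonoidAlgebra.lift k (Module.End k (CI k N T)) G (rho k N T) a F := rfl

instance : IsScalarTower k (MonoidAlgebra k G) (CI k N T) :=
  ⟨fun c a F => by rw [smul_def', smul_def', map_smul]; rfl⟩

variable {N T}

lemma sg_smul (h : G) (F : CI k N T) (g : G) : (sg k h • F : CI k N T).1 g = F.1 (g * h) := by
  rw [smul_def', MonoidAlgebra.lift_single, one_smul]
  rfl

variable [Finite G]

lemma smul_one_apply [Fintype G] (a : MonoidAlgebra k G) (F : CI k N T) :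
    (a • F : CI k N T).1 1 = ∑ g : G, a.coeff g • F.1 g := by
  induction a using MonoidAlgebra.induction_linear with
  | zero =>
    rw [zero_smul]
    symm
    apply Finset.sum_eq_zero
    intro g _
    exact zero_smul k _
  | add f g hf hg =>
    rw [add_smul]
    show (f • F : CI k N T).1 1 + (g • F : CI k N T).1 1 = _
    rw [hf, hg, ← Finset.sum_add_distrib]
    refine Finset.sum_congr rfl fun x _ => ?_
    rw [coeff_add', add_smul]
  | single g r =>
    have h1 : single g r = r • sg k g := by simp [sg]
    rw [h1, smul_assoc]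
    show r • (sg k g • F : CI k N T).1 1 = _
    rw [sg_smul, one_mul, Finset.sum_eq_single g]
    · congr 1
      rw [← h1, MonoidAlgebra.coeff_single, Finsupp.single_eq_same]
    · intro x _ hx
      rw [← h1, MonoidAlgebra.coeff_single, Finsupp.single_eq_of_ne hx, zero_smul]
    · intro h; exact absurd (Finset.mem_univ g) h

/-- the function supported on `N` -/
noncomputable def emb (t : T) : CI k N T := by
  classical
  exact ⟨fun g => if h : g ∈ N then sg k (⟨g, h⟩ : N) • t else 0, fun n g => by
    show (if h : (n : G) * g ∈ N then sg k (⟨n * g, h⟩ : N) • t else 0) =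
      sg k n • (if h : g ∈ N then sg k (⟨g, h⟩ : N) • t else 0)
    by_cases h : g ∈ N
    · rw [dif_pos h, dif_pos (mul_mem n.2 h), ← mul_smul, sg_mul]
      rfl
    · rw [dif_neg h, dif_neg (fun h' => h ((Subgroup.mul_mem_cancel_left N n.2).1 h')), smul_zero]⟩

lemma emb_of_mem (t : T) {g : G} (h : g ∈ N) : (emb (k := k) t : CI k N T).1 g = sg k (⟨g, h⟩ : N) • t := by
  classical
  show (if h : g ∈ N then sg k (⟨g, h⟩ : N) • t else 0) = _
  rw [dif_pos h]

lemma emb_of_not (t : T) {g : G} (h : g ∉ N) : (emb (k := k) t : CI k N T).1 g = 0 := by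
  classical
  show (if h : g ∈ N then sg k (⟨g, h⟩ : N) • t else 0) = _
  rw [dif_neg h]

/-- embedding, linear -/
noncomputable def embL : T →ₗ[k] CI k N T where
  toFun := emb
  map_add' s t := by
    apply Subtype.ext; funext g
    show (emb (k := k) (s + t) : CI k N T).1 g =
      (emb (k := k) s : CI k N T).1 g + (emb (k := k) t : CI k N T).1 g
    by_cases h : g ∈ N
    · rw [emb_of_mem _ h, emb_of_mem _ h, emb_of_mem _ h, smul_add]
    · rw [emb_of_not _ h, emb_of_not _ h, emb_of_not _ h, add_zero]
  map_smul' c t := by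
    apply Subtype.ext; funext g
    show (emb (k := k) (c • t) : CI k N T).1 g = c • (emb (k := k) t : CI k N T).1 g
    by_cases h : g ∈ N
    · rw [emb_of_mem _ h, emb_of_mem _ h, smul_k']
    · rw [emb_of_not _ h, emb_of_not _ h, smul_zero]

lemma sg_embL (n : N) (t : T) : sg k (n : G) • (embL (k := k) (N := N) t) = embL (sg k n • t) := by
  apply Subtype.ext; funext g
  rw [sg_smul]
  show (emb (k := k) t : CI k N T).1 (g * n) = (emb (k := k) (sg k n • t) : CI k N T).1 g
  by_cases h : g ∈ N
  · rw [emb_of_mem _ h, emb_of_mem _ (mul_mem h n.2), ← mul_smul, sg_mul]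
    rfl
  · rw [emb_of_not _ h, emb_of_not _ (fun h' => h ((Subgroup.mul_mem_cancel_right N n.2).1 h'))]

/-- the part of the coinduced module in the block -/
def PE (e : MonoidAlgebra k G) (he : e ∈ Fx k (⊤ : Subgroup G)) (N : Subgroup G) (T : Type w)
    [AddCommGroup T] [Module k T] [Module (MonoidAlgebra k N) T]
    [IsScalarTower k (MonoidAlgebra k N) T] : Submodule (MonoidAlgebra k G) (CI k N T) where
  carrier := {F | e • F = F}
  add_mem' := fun {F F'} h h' => by
    show e • (F + F') = F + F'
    rw [smul_add]; exact congrArg₂ (· + ·) h h'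
  zero_mem' := smul_zero _
  smul_mem' := fun a F h => by
    show e • a • F = a • F
    rw [← mul_smul, comm_of_mem he (Sp_top a), mul_smul]
    exact congrArg (a • ·) h

/-- **existence of a stable quotient map** -/
theorem exists_map [FiniteDimensional k T] [Fintype N] {e : MonoidAlgebra k G}
    (he : e ∈ Fx k (⊤ : Subgroup G)) (hee : e * e = e)
    (hπ : ∀ t : T, ∑ n : N, e.coeff (n : G) • sg k n • t = t)
    (hid : ¬ ∃ θ : T →ₗ[k] T, ∀ t, t = ∑ n : N, sg k n • θ (sg k n⁻¹ • t)) :
    ∃ (V : Type (max u w)) (_ : AddCommGroup V) (_ : Module k V) (_ : Module (MonoidAlgebra k G) V)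
      (_ : IsScalarTower k (MonoidAlgebra k G) V) (_ : FiniteDimensional k V)
      (f : V →ₗ[k] T), (∀ s : V, e • s = s) ∧ EqN (N := N) f ∧ ¬ IsTr (N := N) f := by
  classical
  have := Fintype.ofFinite G
  have hfd : FiniteDimensional k (CI k N T) := inferInstance
  let f : PE e he N T →ₗ[k] T :=
    { toFun := fun F => F.1.1 1
      map_add' := fun _ _ => rfl
      map_smul' := fun _ _ => rfl }
  let ι : T → PE e he N T := fun t => ⟨e • embL t, by
    show e • e • _ = e • _
    rw [← mul_smul, hee]⟩
  have hfι : ∀ t, f (ι t) = t := by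
    intro t
    show (e • embL (k := k) (N := N) t : CI k N T).1 1 = t
    rw [smul_one_apply]
    conv_rhs => rw [← hπ t]
    rw [← Finset.sum_subset (Finset.subset_univ (Finset.univ.filter (fun g : G => g ∈ N)))]
    · rw [Finset.sum_subtype (p := fun g : G => g ∈ N) _ (fun g => by simp)]
      refine Finset.sum_congr rfl fun n _ => ?_
      congr 1
      exact emb_of_mem t n.2
    · intro g _ hg
      have : (embL (k := k) (N := N) t : CI k N T).1 g = 0 :=
        emb_of_not t (fun h => hg (by simpa using h))
      rw [this, smul_zero]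
  refine ⟨PE e he N T, inferInstance, inferInstance, inferInstance, inferInstance,
    fd_sub k _, f, fun F => Subtype.ext F.2, ?_, ?_⟩
  · intro n F
    show (sg k (n : G) • F.1 : CI k N T).1 1 = sg k n • F.1.1 1
    rw [sg_smul, one_mul, ← F.1.2 n 1, mul_one]
  · rintro ⟨θ, hθ⟩
    apply hid
    let ιL : T →ₗ[k] PE e he N T :=
      { toFun := ι
        map_add' := fun s t => Subtype.ext (by
          show e • embL (k := k) (N := N) (s + t) = e • embL s + e • embL t
          rw [map_add, smul_add])
        map_smul' := fun c t => Subtype.ext (by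
          show e • embL (k := k) (N := N) (c • t) = c • e • embL t
          rw [map_smul]
          exact smul_k' e c (embL (k := k) (N := N) t)) }
    refine ⟨θ ∘ₗ ιL, fun t => ?_⟩
    conv_lhs => rw [← hfι t, hθ]
    refine Finset.sum_congr rfl fun n _ => ?_
    have e1 : sg k (n : G)⁻¹ • ι t = ι (sg k n⁻¹ • t) := by
      apply Subtype.ext
      show sg k (n : G)⁻¹ • e • embL (k := k) (N := N) t = e • embL (sg k n⁻¹ • t)
      rw [← sg_embL, ← mul_smul, ← mul_smul, comm_of_mem he (Sp_top _)]
      rfl
    rw [e1]
    rfl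

end H80.ML7
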