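import Cfsg.Agent.Lib.H80.ML7

set_option autoImplicit false
set_option linter.unusedSectionVars false
set_option linter.unusedVariables false
set_option linter.style.haveILetI false

/-!
# Normal p-subgroups act trivially on simple modules; no identity traces
-/

namespace H80.ML8

open H80.GA H80.GB H80.GC H80.ML1 H80.ML2 H80.ML5 H80.ML6 MonoidAlgebra
open scoped Pointwise

section
variable {k X : Type*} [Field k] [Group X] {T : Type*} [AddCommGroup T] [Module k T]
  [Module (MonoidAlgebra k X) T] [IsScalarTower k (MonoidAlgebra k X) T]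

/-- a subspace stable under the group, as a submodule -/
def mkSub (W : Submodule k T) (h : ∀ (g : X), ∀ t ∈ W, sg k g • t ∈ W) :
    Submodule (MonoidAlgebra k X) T where
  carrier := W
  add_mem' := W.add_mem
  zero_mem' := W.zero_mem
  smul_mem' := fun a t ht => by
    induction a using MonoidAlgebra.induction_linear with
    | zero => rw [zero_smul]; exact W.zero_mem
    | add f g hf hg => rw [add_smul]; exact W.add_mem hf hg
    | single g r =>
      have h1 : single g r = r • sg k g := by simp [sg]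
      rw [h1, smul_assoc]
      exact W.smul_mem r (h g t ht)

lemma mem_mkSub {W : Submodule k T} {h : ∀ (g : X), ∀ t ∈ W, sg k g • t ∈ W} {t : T} :
    t ∈ mkSub (X := X) W h ↔ t ∈ W := Iff.rfl

/-- a nilpotent element has a kernel -/
lemma exists_ker [Nontrivial T] {a : MonoidAlgebra k X} (ha : IsNilpotent a) :
    ∃ t : T, t ≠ 0 ∧ a • t = 0 := by
  obtain ⟨n, hn⟩ := ha
  by_contra hcon
  push Not at hcon
  obtain ⟨t, ht⟩ := exists_ne (0 : T)
  have : ∀ m : ℕ, a ^ m • t ≠ 0 := by
    intro m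
    induction m with
    | zero => rw [pow_zero, one_smul]; exact ht
    | succ m ih =>
      rw [pow_succ', mul_smul]
      exact hcon _ ih
  exact this n (by rw [hn, zero_smul])

lemma sg_pow (g : X) (n : ℕ) : sg k g ^ n = sg k (g ^ n) := by
  induction n with
  | zero => rw [pow_zero, pow_zero, sg_one]
  | succ n ih => rw [pow_succ, pow_succ, ih, sg_mul]

lemma nil_sub_one {p : ℕ} [Fact p.Prime] [CharP k p] {z : X} {m : ℕ} (hz : z ^ (p ^ m) = 1) :
    IsNilpotent (sg k z - 1) := by
  have hc : CharP (MonoidAlgebra k X) p := charP_of_injective_algebraMap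
    (FaithfulSMul.algebraMap_injective k (MonoidAlgebra k X)) p
  refine ⟨p ^ m, ?_⟩
  rw [sub_pow_char_pow_of_commute _ _ (Commute.one_right _), sg_pow, hz, sg_one, one_pow, sub_self]

theorem trivial_act {p : ℕ} [Fact p.Prime] [CharP k p] [IsSimpleModule (MonoidAlgebra k X) T]
    {Z : Subgroup X} (hn : Z.Normal) {z : X} {m : ℕ} (hz : z ^ (p ^ m) = 1)
    (hZ : ∀ y ∈ Z, y ∈ Subgroup.zpowers z) (hzZ : z ∈ Z) (t : T) : ∀ y ∈ Z, sg k y • t = t := by
  have hnt : Nontrivial T := IsSimpleModule.nontrivial (MonoidAlgebra k X) T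
  let W : Submodule k T :=
    { carrier := {t | ∀ y ∈ Z, sg k y • t = t}
      add_mem' := fun {s t} hs ht y hy => by rw [smul_add, hs y hy, ht y hy]
      zero_mem' := fun y hy => smul_zero _
      smul_mem' := fun c t ht y hy => by rw [smul_k', ht y hy] }
  have hW : ∀ (g : X), ∀ t ∈ W, sg k g • t ∈ W := by
    intro g t ht y hy
    have h1 := ht (g⁻¹ * y * g) (by
      have := hn.conj_mem y hy g⁻¹
      simpa using this)
    show sg k y • sg k g • t = sg k g • t
    conv_rhs => rw [← h1]
    rw [← mul_smul, ← mul_smul, sg_mul, sg_mul]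
    congr 2
    group
  have hU := eq_bot_or_eq_top (mkSub (X := X) W hW)
  rcases hU with h | h
  · exfalso
    obtain ⟨t0, ht0, h0⟩ := exists_ker (T := T) (nil_sub_one (k := k) (p := p) hz)
    rw [sub_smul, one_smul, sub_eq_zero] at h0
    have h0' : sg k z⁻¹ • t0 = t0 := by
      conv_lhs => rw [← h0]
      rw [← mul_smul, sg_mul, inv_mul_cancel, sg_one, one_smul]
    have hp : ∀ n : ℕ, sg k (z ^ n) • t0 = t0 ∧ sg k (z⁻¹ ^ n) • t0 = t0 := by
      intro n
      induction n with
      | zero => exact ⟨by rw [pow_zero, sg_one, one_smul], by rw [pow_zero, sg_one, one_smul]⟩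
      | succ n ih =>
        exact ⟨by rw [pow_succ, ← sg_mul, mul_smul, h0, ih.1],
          by rw [pow_succ, ← sg_mul, mul_smul, h0', ih.2]⟩
    have hmem : t0 ∈ mkSub (X := X) W hW := by
      intro y hy
      obtain ⟨n, rfl⟩ := Subgroup.mem_zpowers_iff.1 (hZ y hy)
      rcases n with n | n
      · have := (hp n).1
        simpa using this
      · have := (hp (n + 1)).2
        rw [zpow_negSucc, ← inv_pow]
        exact this
    rw [h] at hmem
    exact ht0 ((Submodule.mem_bot (MonoidAlgebra k X)).1 hmem)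
  · have : t ∈ mkSub (X := X) W hW := by rw [h]; exact Submodule.mem_top
    exact this

end

section
variable {k X : Type*} [Field k] [Group X] {T : Type*} [AddCommGroup T] [Module k T]
  [Module (MonoidAlgebra k X) T] [IsScalarTower k (MonoidAlgebra k X) T]
variable {p : ℕ} [Fact p.Prime] [CharP k p]

/-- sums over free invariant actions of `p`-groups vanish -/
lemma sum_free_zero {Z Ω : Type*} [Group Z] [Fintype Z] [MulAction Z Ω] [Fintype Ω] {p : ℕ}
    (hpT : ∀ t : T, p • t = 0)
    (hp : p ∣ Nat.card Z) (Φ : Ω → T) (hΦ : ∀ (g : Z) ω, Φ (g • ω) = Φ ω)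
    (hfree : ∀ (g : Z) (ω : Ω), g • ω = ω → g = 1) : ∑ ω, Φ ω = 0 := by
  obtain ⟨h, hh⟩ := free_sum (fun _ : Z => AddMonoidHom.id T) Φ hΦ hfree
  rw [hh]
  simp only [AddMonoidHom.id_apply, Finset.sum_const, Finset.card_univ]
  obtain ⟨m, hm⟩ := hp
  rw [← Nat.card_eq_fintype_card, hm, mul_comm, mul_smul, hpT, smul_zero]

lemma p_smul (k : Type*) [Field k] {T : Type*} [AddCommGroup T] [Module k T] (p : ℕ)
    [CharP k p] (t : T) : p • t = 0 := by
  rw [← Nat.cast_smul_eq_nsmul k p t, CharP.cast_eq_zero, zero_smul]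

/-- the identity is not a trace -/
theorem id_not_tr [Fintype X] [Nontrivial T] {Z : Subgroup X} (hp : p ∣ Nat.card Z)
    (hZ : ∀ y ∈ Z, ∀ t : T, sg k y • t = t) :
    ¬ ∃ θ : T →ₗ[k] T, ∀ t, t = ∑ n : X, sg k n • θ (sg k n⁻¹ • t) := by
  classical
  rintro ⟨θ, hθ⟩
  obtain ⟨t, ht⟩ := exists_ne (0 : T)
  apply ht
  rw [hθ t]
  have := Fintype.ofFinite Z
  let act : MulAction Z X :=
    { smul := fun z x => x * (z : X)⁻¹
      one_smul := fun x => by show x * ((1 : Z) : X)⁻¹ = x; simp
      mul_smul := fun y z x => by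
        show x * ((y * z : Z) : X)⁻¹ = x * (z : X)⁻¹ * (y : X)⁻¹
        rw [Subgroup.coe_mul, mul_inv_rev, mul_assoc] }
  refine sum_free_zero (p := p) (Z := Z) (Ω := X) (p_smul k p) hp
    (fun n : X => sg k n • θ (sg k n⁻¹ • t)) ?_ ?_
  · intro z x
    show sg k (x * (z : X)⁻¹) • θ (sg k (x * (z : X)⁻¹)⁻¹ • t) = _
    rw [mul_inv_rev, inv_inv, ← sg_mul (z : X), mul_smul, hZ z z.2, ← sg_mul, mul_smul,
      hZ (z : X)⁻¹ (inv_mem z.2)]
  · intro z x h
    have h' : x * (z : X)⁻¹ = x := h
    have : (z : X)⁻¹ = 1 := by simpa using h'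
    exact Subtype.ext (by simpa using this)

/-- central elements act through the centralizer part -/
theorem central_part [Fintype X] {Z C : Subgroup X} (hZn : Z.Normal) (hp : p ∣ Nat.card Z)
    (hZ : ∀ y ∈ Z, ∀ t : T, sg k y • t = t) (hC : ∀ x, x ∉ C → ∀ z ∈ Z, z * x = x * z → z = 1)
    (hCn : C.Normal) [DecidablePred (· ∈ C)]
    (e : X → k) (he : ∀ x, ∀ z ∈ Z, e (z * x * z⁻¹) = e x) (t : T) :
    ∑ n : X, e n • sg k n • t = ∑ n : X, if n ∈ C then e n • sg k n • t else 0 := by
  classical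
  have := Fintype.ofFinite Z
  have h1 : ∑ n : {n : X // n ∉ C}, e n • sg k (n : X) • t = 0 := by
    let act : MulAction Z {n : X // n ∉ C} :=
      { smul := fun z x => ⟨(z : X) * x * (z : X)⁻¹, fun h => x.2 (by
          have := hCn.conj_mem _ h (z : X)⁻¹
          simpa [mul_assoc] using this)⟩
        one_smul := fun x => by apply Subtype.ext; show ((1 : Z) : X) * x * ((1 : Z) : X)⁻¹ = x; simp
        mul_smul := fun y z x => by
          apply Subtype.ext
          show ((y * z : Z) : X) * x * ((y * z : Z) : X)⁻¹ = y * (z * x * (z : X)⁻¹) * (y : X)⁻¹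
          rw [Subgroup.coe_mul, mul_inv_rev]; group }
    refine sum_free_zero (p := p) (Z := Z) (Ω := {n : X // n ∉ C}) (p_smul k p) hp
      (fun n => e n • sg k (n : X) • t) ?_ ?_
    · intro z x
      show e ((z : X) * x * (z : X)⁻¹) • sg k ((z : X) * x * (z : X)⁻¹) • t = _
      rw [he _ z z.2, ← sg_mul, mul_smul, hZ (z : X)⁻¹ (inv_mem z.2), ← sg_mul, mul_smul, hZ z z.2]
    · intro z x h
      have h' : (z : X) * x * (z : X)⁻¹ = x := congrArg Subtype.val h
      have h2 : (z : X) * x = x * z := by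
        conv_rhs => rw [← h']
        group
      exact Subtype.ext (hC x x.2 z z.2 h2)
  rw [← Finset.sum_filter, ← Finset.sum_filter_add_sum_filter_not Finset.univ (· ∈ C)]
  have h2 : ∑ n ∈ Finset.univ.filter (fun n => ¬ n ∈ C), e n • sg k n • t = 0 := by
    rw [← h1]
    exact Finset.sum_subtype _ (fun n => by simp) _
  rw [h2, add_zero]

end

end H80.ML8
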