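import Cfsg.Agent.Lib.H81.RegMat
import Cfsg.Agent.Lib.H20.DefZero
import Cfsg.Agent.Lib.H20.PC
import Mathlib.LinearAlgebra.Trace
import Cfsg.Prelude.Def_BlockRank

set_option autoImplicit false
set_option linter.unusedSectionVars false
set_option linter.unusedVariables false

/-!
# The `p`-regular rank of a block
-/

namespace H80.RK

open Cfsg H20.Loc H20.GA H20.Blk H20.Orth H20.Defect H20.Height H18.CharOrtho H18.CharBasic
open scoped ComplexConjugate

universe u
variable {G : Type u} [Group G] [Fintype G] {M : Ideal AlgInt} {p : ℕ}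

lemma preg_eq (θ : G → ℂ) : pRegularPart p θ = reg p θ := by
  funext g
  unfold pRegularPart reg IsPRegular
  by_cases h : p ∣ orderOf g
  · simp [h]
  · simp [h]

/-- the matrix of inner products of regular parts -/
noncomputable def am (p : ℕ) (χ ψ : IrrCharacter G) : ℂ :=
  classInner (reg p (χ : G → ℂ)) (ψ : G → ℂ)

lemma am_off (hM : IsPModular p M) {B : Set (IrrCharacter G)} (hB : IsPBlock M B)
    {χ ψ : IrrCharacter G} (hχ : χ ∈ B) (hψ : ψ ∉ B) : am p χ ψ = 0 := by
  have := pm_isPrime hM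
  apply inner_reg_eq_zero hM
  intro h
  exact hψ ((isPBlock_mem_iff hB hχ ψ).2 h)

lemma am_symm (χ ψ : IrrCharacter G) : am p χ ψ = am p ψ χ :=
  inner_reg_symm (irr_char χ) (irr_char ψ)

lemma inner_reg_left (χ ψ : G → ℂ) : classInner (reg p χ) ψ = classInner χ (reg p ψ) := by
  unfold classInner
  congr 1
  apply Finset.sum_congr rfl
  intro g _
  by_cases h : p ∣ orderOf g
  · rw [reg_not h, reg_not h]; simp
  · rw [reg_of h, reg_of h]

lemma am_conj (χ ψ : IrrCharacter G) : conj (am p χ ψ) = am p χ ψ := by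
  rw [am, H18.CharOrtho.inner_conj_symm, ← inner_reg_left]
  exact am_symm ψ χ

lemma reg_reg (χ : G → ℂ) : reg p (reg p χ) = reg p χ := by
  funext g
  by_cases h : p ∣ orderOf g
  · rw [reg_not h, reg_not h]
  · rw [reg_of h]

lemma am_mul [Fintype (IrrCharacter G)] (χ η : IrrCharacter G) :
    ∑ ψ : IrrCharacter G, am p χ ψ * am p ψ η = am p χ η := by
  have h1 := parseval (f := reg p (χ : G → ℂ)) (g := reg p (η : G → ℂ)) (reg_class (irr_class χ))
  have h2 : classInner (reg p (χ : G → ℂ)) (reg p (η : G → ℂ)) = am p χ η := by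
    rw [← inner_reg_left, reg_reg]; rfl
  rw [h2] at h1
  rw [h1]
  apply Finset.sum_congr rfl
  intro ψ _
  change _ = am p χ ψ * conj (am p η ψ)
  rw [am_conj, am_symm ψ η]

lemma reg_expand [Fintype (IrrCharacter G)] (χ : IrrCharacter G) :
    reg p (χ : G → ℂ) = ∑ ψ : IrrCharacter G, am p χ ψ • (ψ : G → ℂ) :=
  mem_classFun_expand (reg_class (irr_class χ))


section rank
open Classical

noncomputable instance : Fintype (IrrCharacter G) := Fintype.ofFinite _

/-- `c ↦ ∑ c χ • χ` -/
noncomputable def Lm (G : Type u) [Group G] [Fintype G] : (IrrCharacter G → ℂ) →ₗ[ℂ] (G → ℂ) :=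
  Fintype.linearCombination ℂ (fun χ : IrrCharacter G => (χ : G → ℂ))

lemma Lm_injective : Function.Injective (Lm G) :=
  linearIndependent_iff_injective_fintypeLinearCombination.1 linearIndependent_irr

/-- rows of the matrix, restricted to `B` -/
noncomputable def row (p : ℕ) (B : Set (IrrCharacter G)) (χ : IrrCharacter G) :
    IrrCharacter G → ℂ := fun ψ => if χ ∈ B then am p χ ψ else 0

noncomputable def Tm (p : ℕ) (B : Set (IrrCharacter G)) :
    (IrrCharacter G → ℂ) →ₗ[ℂ] (IrrCharacter G → ℂ) :=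
  Fintype.linearCombination ℂ (row p B)

lemma Lm_row (B : Set (IrrCharacter G)) (χ : IrrCharacter G) :
    Lm G (row p B χ) = if χ ∈ B then reg p (χ : G → ℂ) else 0 := by
  unfold Lm row
  rw [Fintype.linearCombination_apply]
  by_cases h : χ ∈ B
  · simp only [h, if_true]
    exact (reg_expand χ).symm
  · simp [h]

lemma Tm_apply (B : Set (IrrCharacter G)) (c : IrrCharacter G → ℂ) :
    Tm p B c = ∑ χ : IrrCharacter G, c χ • row p B χ := Fintype.linearCombination_apply _ _ _

lemma Tm_idem (hM : IsPModular p M) {B : Set (IrrCharacter G)} (hB : IsPBlock M B) :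
    Tm p B ∘ₗ Tm p B = Tm p B := by
  apply LinearMap.ext
  intro c
  rw [LinearMap.comp_apply]
  have h1 : ∀ χ : IrrCharacter G, Tm p B (row p B χ) = row p B χ := by
    intro χ
    rw [Tm_apply]
    by_cases h : χ ∈ B
    · funext η
      rw [Finset.sum_apply]
      have h2 : ∀ ψ : IrrCharacter G, (row p B χ ψ • row p B ψ) η = am p χ ψ * am p ψ η := by
        intro ψ
        rw [Pi.smul_apply, smul_eq_mul]
        unfold row
        rw [if_pos h]
        by_cases hψ : ψ ∈ B
        · rw [if_pos hψ]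
        · rw [if_neg hψ, am_off hM hB h hψ]; simp
      rw [Finset.sum_congr rfl (fun ψ _ => h2 ψ), am_mul]
      unfold row
      rw [if_pos h]
    · have : row p B χ = 0 := by funext ψ; unfold row; rw [if_neg h]; rfl
      rw [this]; simp
  rw [Tm_apply B c, map_sum]
  apply Finset.sum_congr rfl
  intro χ _
  rw [map_smul, h1]

lemma Tm_trace (B : Set (IrrCharacter G)) :
    LinearMap.trace ℂ _ (Tm p B) = ∑ χ : IrrCharacter G, if χ ∈ B then am p χ χ else 0 := by
  rw [LinearMap.trace_eq_matrix_trace ℂ (Pi.basisFun ℂ (IrrCharacter G))]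
  unfold Matrix.trace
  apply Finset.sum_congr rfl
  intro χ _
  rw [Matrix.diag_apply, LinearMap.toMatrix_apply, Pi.basisFun_apply, Pi.basisFun_repr, Tm_apply,
    Finset.sum_apply, Finset.sum_eq_single χ]
  · rw [Pi.single_eq_same, one_smul]; rfl
  · intro ψ _ hne
    rw [Pi.single_eq_of_ne hne, zero_smul]; rfl
  · intro h; exact absurd (Finset.mem_univ _) h

lemma span_eq (B : Set (IrrCharacter G)) :
    Submodule.span ℂ ((fun χ : IrrCharacter G => pRegularPart p (χ : G → ℂ)) '' B) =
      (LinearMap.range (Tm p B)).map (Lm G) := by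
  unfold Tm
  rw [Fintype.range_linearCombination, Submodule.map_span]
  apply le_antisymm
  · rw [Submodule.span_le]
    rintro _ ⟨χ, hχ, rfl⟩
    apply Submodule.subset_span
    refine ⟨row p B χ, ⟨χ, rfl⟩, ?_⟩
    rw [Lm_row, if_pos hχ, ← preg_eq]
  · rw [Submodule.span_le]
    rintro _ ⟨_, ⟨χ, rfl⟩, rfl⟩
    rw [Lm_row]
    by_cases h : χ ∈ B
    · rw [if_pos h]
      apply Submodule.subset_span
      exact ⟨χ, h, preg_eq _⟩
    · rw [if_neg h]; exact Submodule.zero_mem _

theorem rank_eq_sum (hM : IsPModular p M) {B : Set (IrrCharacter G)} (hB : IsPBlock M B) :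
    (blockRank p B : ℂ) = ∑ χ : IrrCharacter G, if χ ∈ B then am p χ χ else 0 := by
  unfold blockRank
  rw [span_eq, LinearEquiv.finrank_eq
    (Submodule.equivMapOfInjective (Lm G) Lm_injective (LinearMap.range (Tm p B))).symm]
  have h1 : LinearMap.IsProj (LinearMap.range (Tm p B)) (Tm p B) := by
    refine ⟨fun x => ⟨x, rfl⟩, ?_⟩
    rintro _ ⟨x, rfl⟩
    exact LinearMap.congr_fun (Tm_idem hM hB) x
  rw [← h1.trace, Tm_trace]

theorem rank_formula (hM : IsPModular p M) {B : Set (IrrCharacter G)} (hB : IsPBlock M B) :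
    (Nat.card G : ℂ) * (blockRank p B : ℂ) = ∑ x : G, ∑ χ : IrrCharacter G,
      if χ ∈ B then reg p (χ : G → ℂ) x * conj ((χ : G → ℂ) x) else 0 := by
  rw [rank_eq_sum hM hB, Finset.sum_comm, Finset.mul_sum]
  apply Finset.sum_congr rfl
  intro χ _
  by_cases h : χ ∈ B
  · simp only [h, if_true]
    unfold am classInner
    rw [← mul_assoc, mul_inv_cancel₀ card_ne_zero', one_mul]
  · simp [h]

end rank

end H80.RK
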