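import Cfsg.Agent.Lib.H80.RK

set_option autoImplicit false
set_option linter.unusedSectionVars false
set_option linter.unusedVariables false

/-!
# The Cartan-type matrix of a block, rank one
-/

namespace H80.RK2

open Cfsg H20.Loc H20.GA H20.Blk H20.Orth H20.Defect H20.Height H18.CharOrtho H18.CharBasic H80.RK
open scoped ComplexConjugate
open Classical

universe u
variable {G : Type u} [Group G] [Fintype G] {M : Ideal AlgInt} {p : ℕ}

lemma fsum_mem {A : Type*} [AddCommMonoid A] (S : Set (IrrCharacter G)) (f : IrrCharacter G → A) :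
    ∑ᶠ χ ∈ S, f χ = ∑ χ : IrrCharacter G, if χ ∈ S then f χ else 0 := by
  rw [finsum_mem_def, finsum_eq_sum_of_fintype]
  apply Finset.sum_congr rfl
  intro χ _
  rw [Set.indicator_apply]

theorem reg_int_comb (hM : IsPModular p M) {B : Set (IrrCharacter G)} (hB : IsPBlock M B)
    {χ : G → ℂ} (hχ : ∃ n : IrrCharacter G → ℤ, ∀ g : G, χ g = ∑ᶠ ψ ∈ B, (n ψ : ℂ) * (ψ : G → ℂ) g) :
    ∃ n : IrrCharacter G → ℤ, ∀ g : G, (p ^ blockDefect p B : ℂ) * pRegularPart p χ g =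
      ∑ᶠ ψ ∈ B, (n ψ : ℂ) * (ψ : G → ℂ) g := by
  obtain ⟨n, hn⟩ := hχ
  have h1 : ∀ θ : IrrCharacter G, ∃ a : IrrCharacter G → ℤ, θ ∈ B →
      (∀ ψ : IrrCharacter G, (p : ℂ) ^ (blockDefect p B) * am p θ ψ = a ψ) ∧
      (∀ ψ, ψ ∉ B → a ψ = 0) := by
    intro θ
    by_cases hθ : θ ∈ B
    · obtain ⟨a, ha, ha0, -⟩ := H81.RegMat.exists_row hM hB hθ
      exact ⟨a, fun _ => ⟨ha, ha0⟩⟩
    · exact ⟨0, fun h => absurd h hθ⟩
  choose a ha using h1
  refine ⟨fun ψ => ∑ θ : IrrCharacter G, if θ ∈ B then n θ * a θ ψ else 0, ?_⟩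
  intro g
  have h2 : pRegularPart p χ g = ∑ θ : IrrCharacter G, if θ ∈ B then
      (n θ : ℂ) * reg p (θ : G → ℂ) g else 0 := by
    rw [preg_eq]
    by_cases hg : p ∣ orderOf g
    · rw [reg_not hg]
      symm
      apply Finset.sum_eq_zero
      intro θ _
      rw [reg_not hg]; simp
    · rw [reg_of hg, hn, fsum_mem]
      apply Finset.sum_congr rfl
      intro θ _
      rw [reg_of hg]
  rw [h2, fsum_mem, Finset.mul_sum]
  have h3 : ∀ θ : IrrCharacter G, θ ∈ B → (p : ℂ) ^ (blockDefect p B) * reg p (θ : G → ℂ) g =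
      ∑ ψ : IrrCharacter G, (a θ ψ : ℂ) * (ψ : G → ℂ) g := by
    intro θ hθ
    have h4 := congrFun (reg_expand (p := p) θ) g
    rw [Finset.sum_apply] at h4
    rw [h4, Finset.mul_sum]
    apply Finset.sum_congr rfl
    intro ψ _
    rw [Pi.smul_apply, smul_eq_mul, ← mul_assoc, (ha θ hθ).1 ψ]
  have h5 : ∀ θ : IrrCharacter G, (p : ℂ) ^ (blockDefect p B) * (if θ ∈ B then
      (n θ : ℂ) * reg p (θ : G → ℂ) g else 0) = ∑ ψ : IrrCharacter G, if θ ∈ B then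
        (n θ : ℂ) * (a θ ψ : ℂ) * (ψ : G → ℂ) g else 0 := by
    intro θ
    by_cases hθ : θ ∈ B
    · simp only [hθ, if_true]
      rw [mul_left_comm, h3 θ hθ, Finset.mul_sum]
      apply Finset.sum_congr rfl
      intro ψ _; ring
    · simp [hθ]
  rw [Finset.sum_congr rfl (fun θ _ => h5 θ), Finset.sum_comm]
  apply Finset.sum_congr rfl
  intro ψ _
  by_cases hψ : ψ ∈ B
  · rw [if_pos hψ]
    push_cast
    rw [Finset.sum_mul]
    apply Finset.sum_congr rfl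
    intro θ _
    split_ifs
    · ring
    · ring
  · rw [if_neg hψ]
    apply Finset.sum_eq_zero
    intro θ _
    split_ifs with hθ
    · rw [(ha θ hθ).2 ψ hψ]; simp
    · rfl

theorem brauer_feit (hM : IsPModular p M) {B : Set (IrrCharacter G)} (hB : IsPBlock M B) :
    ∑ᶠ χ ∈ B, p ^ (2 * blockHeight p B (χ : G → ℂ)) ≤ (p ^ blockDefect p B) ^ 2 / 4 + 1 := by
  obtain ⟨χ, hχ, h0⟩ := exists_height_zero hM hB
  obtain ⟨a, -, ha0, -, -, -, ha, hsum⟩ := H81.RegMat.exists_row hM hB hχ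
  rw [fsum_mem]
  set d := blockDefect p B with hd
  have h1 : ∀ ψ ∈ B, ((p : ℤ) ^ (2 * blockHeight p B (ψ : G → ℂ))) ≤ a ψ ^ 2 := by
    intro ψ hψ
    obtain ⟨h2, h3⟩ := ha ψ hψ h0
    obtain ⟨c, hc⟩ := h2
    have hc0 : c ≠ 0 := by
      rintro rfl
      rw [mul_zero] at hc
      rw [hc] at h3
      exact h3 (dvd_zero _)
    have hc1 : 1 ≤ c ^ 2 := by
      have : 0 < c ^ 2 := by positivity
      omega
    rw [hc, mul_pow, pow_mul']
    have h4 : 0 ≤ ((p : ℤ) ^ blockHeight p B (ψ : G → ℂ)) ^ 2 := sq_nonneg _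
    nlinarith
  have h2 : (∑ ψ : IrrCharacter G, if ψ ∈ B then (p : ℤ) ^ (2 * blockHeight p B (ψ : G → ℂ)) else 0)
      ≤ 1 + ((p : ℤ) ^ d * a χ - a χ ^ 2) := by
    rw [← hsum, ← Finset.add_sum_erase Finset.univ _ (Finset.mem_univ χ),
      ← Finset.add_sum_erase Finset.univ (fun ψ => a ψ ^ 2) (Finset.mem_univ χ), if_pos hχ, h0]
    have h3 : (∑ ψ ∈ Finset.univ.erase χ, if ψ ∈ B then
        (p : ℤ) ^ (2 * blockHeight p B (ψ : G → ℂ)) else 0) ≤
        ∑ ψ ∈ Finset.univ.erase χ, a ψ ^ 2 := by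
      apply Finset.sum_le_sum
      intro ψ _
      split_ifs with hψ
      · exact h1 ψ hψ
      · exact sq_nonneg _
    simp only [mul_zero, pow_zero]
    linarith
  have h3 : 4 * ((p : ℤ) ^ d * a χ - a χ ^ 2) ≤ ((p : ℤ) ^ d) ^ 2 := by
    nlinarith [sq_nonneg ((p : ℤ) ^ d - 2 * a χ)]
  have h4 : ((∑ ψ : IrrCharacter G, if ψ ∈ B then p ^ (2 * blockHeight p B (ψ : G → ℂ)) else 0 : ℕ) : ℤ)
      = ∑ ψ : IrrCharacter G, if ψ ∈ B then (p : ℤ) ^ (2 * blockHeight p B (ψ : G → ℂ)) else 0 := by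
    push_cast
    rfl
  rw [← h4] at h2
  set S := ∑ ψ : IrrCharacter G, if ψ ∈ B then p ^ (2 * blockHeight p B (ψ : G → ℂ)) else 0 with hS
  have h5 : 4 * (S : ℤ) ≤ 4 + ((p : ℤ) ^ d) ^ 2 := by linarith
  have h6 : 4 * S ≤ 4 + (p ^ d) ^ 2 := by exact_mod_cast h5
  omega

end H80.RK2
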