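import Cfsg.Agent.Lib.H80.BR11
import Cfsg.Agent.Lib.H80.GV
import Cfsg.Agent.Lib.H80.GX
import Cfsg.Agent.Lib.H80.BR8

set_option autoImplicit false
set_option linter.unusedSectionVars false
set_option linter.unusedVariables false

/-!
# Conjugates of a subsection inside a maximal pair, abelian defect groups
-/

namespace H80.SU1

open MonoidAlgebra H80.GA H80.GB H80.GC H80.GD H80.GE H80.GH H80.GJ H80.GV H80.GX
open scoped Pointwise

variable {k G : Type*} [Field k] [Group G] [Finite G] {p : ℕ} [Fact p.Prime] [CharP k p]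
variable [Algebra (ZMod p) k] [Algebra.IsAlgebraic (ZMod p) k]

lemma cent_zpowers (u : G) : Subgroup.centralizer ((Subgroup.zpowers u : Subgroup G) : Set G) =
    Subgroup.centralizer ({u} : Set G) := by
  ext y
  constructor
  · intro h
    rw [Subgroup.mem_centralizer_singleton_iff]
    exact (Subgroup.mem_centralizer_iff.1 h u (Subgroup.mem_zpowers u)).symm
  · intro h
    rw [Subgroup.mem_centralizer_singleton_iff] at h
    rw [Subgroup.mem_centralizer_iff]
    intro z hz
    obtain ⟨n, rfl⟩ := Subgroup.mem_zpowers_iff.1 hz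
    exact ((show Commute y u from h).zpow_right n).symm

lemma CH_zp (u : G) : CH ⊤ (Subgroup.zpowers u) = Subgroup.centralizer ({u} : Set G) := by
  unfold CH; rw [inf_top_eq, cent_zpowers]

lemma cs_zp (g u : G) : cs g (Subgroup.zpowers u) = Subgroup.zpowers (g * u * g⁻¹) := by
  unfold cs
  rw [MonoidHom.map_zpowers]
  rfl

lemma zp_le {u : G} {P : Subgroup G} (hu : u ∈ P) : Subgroup.zpowers u ≤ P :=
  (Subgroup.zpowers_le).2 hu

lemma P_le_norm {P : Subgroup G} (hab : ∀ x ∈ P, ∀ y ∈ P, x * y = y * x) {u : G} (hu : u ∈ P) :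
    P ≤ Subgroup.normalizer ((Subgroup.zpowers u : Subgroup G) : Set G) := by
  refine le_trans ?_ (centralizer_le_normalizer' (Subgroup.zpowers u))
  rw [cent_zpowers]
  intro x hx
  rw [Subgroup.mem_centralizer_singleton_iff]
  exact hab x hx u hu

variable {P : Subgroup G} {b e f : MonoidAlgebra k G}

/-- relative position inside `P` -/
lemma nle_of_SLE (hmax : IsMax p ⊤ b P e) (hab : ∀ x ∈ P, ∀ y ∈ P, x * y = y * x) {u : G}
    (hu : u ∈ P) (hle : SLE p ⊤ (Subgroup.zpowers u) f P e) :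
    NLE p ⊤ (Subgroup.zpowers u) f P e :=
  hle.nle hmax.of.pair (P_le_norm hab hu)

/-- two positions of the same subsection differ by an element of `ST ⊤ P e` -/
theorem conj_of_nle (hb : b ∈ Fx k (⊤ : Subgroup G)) (hmax : IsMax p ⊤ b P e)
    (hab : ∀ x ∈ P, ∀ y ∈ P, x * y = y * x) {u : G}
    (hle : SLE p ⊤ (Subgroup.zpowers u) f P e) {g : G}
    (hg : SLE p ⊤ (Subgroup.zpowers (g * u * g⁻¹)) (cj g f) P e) :
    ∃ y ∈ Subgroup.centralizer ({u} : Set G), g * y ∈ ST ⊤ P e := by
  have h1 : IsMax p ⊤ b (cs g⁻¹ P) (cj g⁻¹ e) := by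
    have := isMax_cj hmax g⁻¹
    rw [hb g⁻¹ (Subgroup.mem_top _), cs_of_mem (Subgroup.mem_top g⁻¹)] at this
    exact this
  have hab' : ∀ x ∈ cs g⁻¹ P, ∀ y ∈ cs g⁻¹ P, x * y = y * x := by
    intro x hx y hy
    rw [mem_cs, inv_inv] at hx hy
    have := hab _ hx _ hy
    have h2 := congrArg (fun z => g⁻¹ * z * g) this
    simpa [mul_assoc] using h2
  have h2 : SLE p ⊤ (Subgroup.zpowers u) f (cs g⁻¹ P) (cj g⁻¹ e) := by
    have := sle_cj hg g⁻¹
    rw [cs_of_mem (Subgroup.mem_top g⁻¹), cs_zp, cj_inv_cj] at this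
    have h3 : g⁻¹ * (g * u * g⁻¹) * g⁻¹⁻¹ = u := by group
    rwa [h3] at this
  have h3 := cent_max hmax hab hle
  have h4 := cent_max h1 hab' h2
  obtain ⟨y, hy, h5, h6⟩ := max_conj h3 h4
  rw [CH_zp] at hy
  refine ⟨y, hy, Subgroup.mem_top _, ?_, ?_⟩
  · rw [mem_normalizer, cs_mul, ← h5, cs_cs_inv]
  · rw [cj_mul, ← h6, cj_cj_inv]

/-- the set of cosets that move the subsection `(u, f)` below `(P, e)` -/
abbrev QS (k : Type*) {G : Type*} [Field k] [Group G] (P : Subgroup G) (e f : MonoidAlgebra k G)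
    (u : G) : Type _ :=
  {q : G ⧸ Subgroup.centralizer ({u} : Set G) //
    q.out * u * q.out⁻¹ ∈ P ∧ br k P (cj q.out f) * e = e}

lemma out_spec (u g : G) : ∃ c ∈ Subgroup.centralizer ({u} : Set G),
    (QuotientGroup.mk g : G ⧸ Subgroup.centralizer ({u} : Set G)).out = g * c := by
  obtain ⟨c, hc⟩ := QuotientGroup.mk_out_eq_mul (Subgroup.centralizer ({u} : Set G)) g
  exact ⟨c, c.2, hc⟩

theorem card_QS [IsAlgClosed k] (hb : b ∈ Fx k (⊤ : Subgroup G)) (hmax : IsMax p ⊤ b P e)
    (hab : ∀ x ∈ P, ∀ y ∈ P, x * y = y * x) {u : G} (hu : u ∈ P)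
    (hle : SLE p ⊤ (Subgroup.zpowers u) f P e) : ¬ p ∣ Nat.card (QS k P e f u) := by
  classical
  set C := Subgroup.centralizer ({u} : Set G) with hC
  have hnle := nle_of_SLE hmax hab hu hle
  have hfC : f ∈ Fx k C := by
    have := hnle.pairQ.blk.mem.1
    rwa [CH_zp] at this
  have key : ∀ q : G ⧸ C, (q.out * u * q.out⁻¹ ∈ P ∧ br k P (cj q.out f) * e = e) ↔
      q ∈ MulAction.orbit (ST ⊤ P e) (QuotientGroup.mk 1 : G ⧸ C) := by
    intro q
    constructor
    · rintro ⟨h1, h2⟩
      have h3 : NLE p ⊤ (Subgroup.zpowers (q.out * u * q.out⁻¹)) (cj q.out f) P e := by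
        refine ⟨?_, hmax.of.pair, zp_le h1, P_le_norm hab h1, ?_, h2⟩
        · refine ⟨?_, le_top, ?_⟩
          · rw [← cs_zp, isPGroup_cs]; exact hnle.pairQ.pgr
          · rw [← cs_zp, ← cs_of_mem (Subgroup.mem_top (q.out : G)), ← cs_CH]
            exact blk_cj hnle.pairQ.blk _
        · intro x hx
          have h4 : x ∈ cs q.out C := by
            rw [mem_cs]
            show _ ∈ Subgroup.centralizer ({u} : Set G)
            rw [Subgroup.mem_centralizer_singleton_iff]
            have h5 := hab x hx _ h1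
            have h6 := congrArg (fun z => q.out⁻¹ * z * q.out) h5
            simpa [mul_assoc] using h6
          exact (cj_mem_Fx hfC) x h4
      obtain ⟨y, hy, hgy⟩ := conj_of_nle hb hmax hab hle h3.sle
      refine ⟨⟨q.out * y, hgy⟩, ?_⟩
      show ((QuotientGroup.mk (q.out * y * 1) : G ⧸ C)) = q
      rw [mul_one]
      conv_rhs => rw [← QuotientGroup.out_eq' q]
      rw [QuotientGroup.eq]
      have : (q.out * y)⁻¹ * q.out = y⁻¹ := by group
      rw [this]
      exact C.inv_mem hy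
    · rintro ⟨t, ht⟩
      have ht' : q = QuotientGroup.mk (t : G) := by
        rw [← ht]
        show ((QuotientGroup.mk ((t : G) * 1) : G ⧸ C)) = _
        rw [mul_one]
      obtain ⟨c, hc, hout⟩ := out_spec u (t : G)
      rw [← hC, ← ht'] at hout
      have hcu : c * u * c⁻¹ = u := by
        rw [Subgroup.mem_centralizer_singleton_iff.1 hc]; group
      have h1 : q.out * u * q.out⁻¹ = (t : G) * u * (t : G)⁻¹ := by
        rw [hout]
        have : (t : G) * c * u * ((t : G) * c)⁻¹ = t * (c * u * c⁻¹) * (t : G)⁻¹ := by group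
        rw [this, hcu]
      have h2 : cj q.out f = cj (t : G) f := by
        rw [hout, cj_mul, hfC c hc]
      have htP := t.2.2.1
      refine ⟨?_, ?_⟩
      · rw [h1]; exact (mem_normalizer_iff'.1 htP u).1 hu
      · rw [h2]
        have h3 := congrArg (cj (t : G)) hnle.br
        rw [map_mul, cj_br, mem_normalizer.1 htP, t.2.2.2] at h3
        exact h3
  have h1 : Nat.card (QS k P e f u) =
      Nat.card (MulAction.orbit (ST ⊤ P e) (QuotientGroup.mk 1 : G ⧸ C)) :=
    Nat.card_congr (Equiv.subtypeEquivRight key)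
  have h2 : Nat.card (MulAction.orbit (ST ⊤ P e) (QuotientGroup.mk 1 : G ⧸ C)) =
      (MulAction.stabilizer (ST ⊤ P e) (QuotientGroup.mk 1 : G ⧸ C)).index := by
    rw [MulAction.index_stabilizer]
    rfl
  rw [h1, h2]
  have h3 := index_ST hmax
  have h4 : P ⊔ CH ⊤ P = CH ⊤ P := by
    apply sup_eq_right.2
    intro x hx
    refine ⟨?_, Subgroup.mem_top _⟩
    show x ∈ Subgroup.centralizer (P : Set G)
    rw [Subgroup.mem_centralizer_iff]
    exact fun y hy => hab y hy x hx
  rw [h4] at h3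
  intro hd
  apply h3
  refine hd.trans ?_
  apply Subgroup.index_dvd_of_le
  intro x hx
  rw [MulAction.mem_stabilizer_iff]
  show ((QuotientGroup.mk ((x : G) * 1) : G ⧸ C)) = _
  rw [QuotientGroup.eq, mul_one, mul_one]
  apply C.inv_mem
  have hx' : (x : G) ∈ CH ⊤ P := hx
  rw [hC, Subgroup.mem_centralizer_singleton_iff]
  exact (Subgroup.mem_centralizer_iff.1 hx'.1 u hu).symm

end H80.SU1
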