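import Cfsg.Agent.Lib.H80.SU1
import Cfsg.Agent.Lib.H80.BR6
import Cfsg.Agent.Lib.H20.PCDef
import Cfsg.Agent.Lib.H20.Ind

set_option autoImplicit false
set_option linter.unusedSectionVars false
set_option linter.unusedVariables false
set_option linter.style.haveILetI false

/-!
# Nonvanishing of major columns
-/

namespace H80.SU2

open Cfsg MonoidAlgebra H20.Loc H20.GA H20.Blk H20.Orth H20.NormQ H20.Ind
open H80.GA H80.GB H80.GC H80.GD H80.GE H80.GH H80.GJ H80.GV H80.BR1 H80.BR2 H80.BR3 H80.BR4 H80.SU1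
open scoped Pointwise

universe u
variable {G : Type u} [Group G] [Finite G] {M : Ideal AlgInt} {p : ℕ}

/-- canonical character of a block with central defect group -/
theorem exists_canon (hM : IsPModular p M) {K : Type u} [Group K] [Finite K]
    {c : Set (IrrCharacter K)} (hc : IsPBlock M c) {Z : Subgroup K} (hZ : Z ≤ Subgroup.center K)
    (hD : IsDefectGroup p M c Z) : ∃ θ ∈ c, (∀ z ∈ Z, ∀ x, (θ : K → ℂ) (z * x) = (θ : K → ℂ) x) ∧
      ∀ g x : K, IsPPart p g x → x ∉ Z → (θ : K → ℂ) g = 0 := by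
  haveI : Fact p.Prime := ⟨pm_prime hM⟩
  haveI hZn : Z.Normal := by
    constructor
    intro x hx g
    have h1 := Subgroup.mem_center_iff.1 (hZ hx) g
    rw [h1, mul_inv_cancel_right]; exact hx
  have hPp : IsPGroup p Z := H20.DefGrp.isPGroup_of_isDefectGroup hD
  have hC : ∀ x : K, ¬ p ∣ orderOf x → x ∈ Subgroup.centralizer (Z : Set K) := by
    intro x _
    rw [Subgroup.mem_centralizer_iff]
    intro y hy
    exact (Subgroup.mem_center_iff.1 (hZ hy) x).symm
  obtain ⟨ψ, hψ⟩ := H20.PC.exists_infl_mem Z hM hPp hC hc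
  refine ⟨infl Z ψ, hψ, fun z hz x => ?_, fun g x hx hxZ => ?_⟩
  · rw [infl_apply, infl_apply]
    have h0 : ((z * x : K) : K ⧸ Z) = (x : K ⧸ Z) := by
      rw [QuotientGroup.eq]
      have : (z * x)⁻¹ * x = x⁻¹ * z⁻¹ * x := by group
      rw [this]
      have := hZn.conj_mem z⁻¹ (Z.inv_mem hz) x⁻¹
      rwa [inv_inv] at this
    rw [h0]
  · exact H20.First.vanish_of_normal hM hc hD hψ hx hxZ

/-- building block of the traced element -/
noncomputable def phi (u : G) (b : Set (IrrCharacter (Subgroup.centralizer ({u} : Set G))))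
    (g k : G) : ℂ :=
  subgroupBlockCoeff (Subgroup.centralizer ({u} : Set G)) b (u⁻¹ * (g⁻¹ * k * g))

variable {u : G} {b : Set (IrrCharacter (Subgroup.centralizer ({u} : Set G)))}

lemma sbc_conj {C : Subgroup G} (f : Set (IrrCharacter C)) {c : G} (hc : c ∈ C) (x : G) :
    subgroupBlockCoeff C f (c * x * c⁻¹) = subgroupBlockCoeff C f x := by
  have h := mem_Fx'.1 (cb_mem C f).1 c hc x
  rwa [coeff_cb, coeff_cb] at h

lemma phi_mul {c : G} (hc : c ∈ Subgroup.centralizer ({u} : Set G)) (g k : G) :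
    phi u b (g * c) k = phi u b g k := by
  unfold phi
  have h1 : u⁻¹ * ((g * c)⁻¹ * k * (g * c)) = c⁻¹ * (u⁻¹ * (g⁻¹ * k * g)) * c⁻¹⁻¹ := by
    have h2 : c * u = u * c := Subgroup.mem_centralizer_singleton_iff.1 hc
    have h3 : u⁻¹ * c⁻¹ = c⁻¹ * u⁻¹ := by
      rw [← mul_inv_rev, ← mul_inv_rev, h2]
    calc u⁻¹ * ((g * c)⁻¹ * k * (g * c)) = (u⁻¹ * c⁻¹) * (g⁻¹ * k * g) * c := by group
      _ = c⁻¹ * (u⁻¹ * (g⁻¹ * k * g)) * c⁻¹⁻¹ := by rw [h3]; group
  rw [h1]
  exact sbc_conj b ((Subgroup.centralizer ({u} : Set G)).inv_mem hc) _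

lemma phi_out (g k : G) :
    phi u b (QuotientGroup.mk g : G ⧸ Subgroup.centralizer ({u} : Set G)).out k = phi u b g k := by
  obtain ⟨c, hc, h⟩ := out_spec u g
  rw [h, phi_mul hc]

noncomputable instance : Fintype (G ⧸ Subgroup.centralizer ({u} : Set G)) := Fintype.ofFinite _

/-- the traced element -/
noncomputable def zf (u : G) (b : Set (IrrCharacter (Subgroup.centralizer ({u} : Set G)))) (k : G) : ℂ :=
  ∑ q : G ⧸ Subgroup.centralizer ({u} : Set G), phi u b q.out k

lemma zf_class : IsClassFunction G (zf u b) := by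
  intro k h
  unfold zf
  have h1 : ∀ q : G ⧸ Subgroup.centralizer ({u} : Set G),
      phi u b q.out (h * k * h⁻¹) = phi u b (h⁻¹ • q).out k := by
    intro q
    have h2 : h⁻¹ • q = QuotientGroup.mk (h⁻¹ * q.out) := by
      conv_lhs => rw [← QuotientGroup.out_eq' q]
      rfl
    rw [h2, phi_out]
    unfold phi
    congr 2
    group
  rw [Finset.sum_congr rfl fun q _ => h1 q]
  exact Equiv.sum_comp (MulAction.toPerm h⁻¹ : Equiv.Perm (G ⧸ Subgroup.centralizer ({u} : Set G)))
    (fun q => phi u b q.out k)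

noncomputable def zz (u : G) (b : Set (IrrCharacter (Subgroup.centralizer ({u} : Set G)))) : ZG G :=
  zof (zf u b) zf_class

lemma sum_sub [Fintype G] (C : Subgroup G) [Fintype C] (F : G → ℂ) (hF : ∀ x ∉ C, F x = 0) :
    ∑ x : G, F x = ∑ x : C, F x :=
  H19.BrMap.sum_subgroup_eq C F hF

lemma sbc_not {C : Subgroup G} (f : Set (IrrCharacter C)) {g : G} (hg : g ∉ C) :
    subgroupBlockCoeff C f g = 0 := by
  unfold subgroupBlockCoeff
  rw [dif_neg hg]

theorem omega_zz [Fintype G] [Fintype (Subgroup.centralizer ({u} : Set G))] (χ : IrrCharacter G) :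
    omega χ (zz u b) * (χ : G → ℂ) 1 =
      (Fintype.card (G ⧸ Subgroup.centralizer ({u} : Set G)) : ℂ) *
      ∑ y : Subgroup.centralizer ({u} : Set G), blockCoeff b y * (χ : G → ℂ) (u * y) := by
  have h1ne : (χ : G → ℂ) 1 ≠ 0 := H18.CharBasic.irr_one_ne_zero χ.2
  rw [omega_eq_sum, div_mul_cancel₀ _ h1ne]
  have h1 : ∀ k : G, zc (zz u b) k = ∑ q : G ⧸ Subgroup.centralizer ({u} : Set G), phi u b q.out k :=
    fun k => rfl
  simp_rw [h1, Finset.sum_mul]
  rw [Finset.sum_comm]
  have h2 : ∀ q : G ⧸ Subgroup.centralizer ({u} : Set G),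
      ∑ k : G, phi u b q.out k * (χ : G → ℂ) k =
      ∑ y : Subgroup.centralizer ({u} : Set G), blockCoeff b y * (χ : G → ℂ) (u * y) := by
    intro q
    have h3 : ∑ k : G, phi u b q.out k * (χ : G → ℂ) k =
        ∑ k : G, subgroupBlockCoeff (Subgroup.centralizer ({u} : Set G)) b k * (χ : G → ℂ) (u * k) := by
      have h4 := Equiv.sum_comp ((Equiv.mulLeft u).trans (MulAut.conj q.out).toEquiv)
        (fun k => phi u b q.out k * (χ : G → ℂ) k)
      rw [← h4]
      refine Finset.sum_congr rfl fun k _ => ?_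
      have h5 : ((Equiv.mulLeft u).trans (MulAut.conj q.out).toEquiv) k = q.out * (u * k) * q.out⁻¹ := rfl
      rw [h5, H18.CharBasic.isClassFunction_of_isIrr χ.2]
      congr 1
      unfold phi
      congr 1
      group
    rw [h3, sum_sub (Subgroup.centralizer ({u} : Set G))]
    · refine Finset.sum_congr rfl fun y _ => ?_
      rw [sbc_coe]
    · intro x hx
      rw [sbc_not b hx, zero_mul]
  rw [Finset.sum_congr rfl fun q _ => h2 q, Finset.sum_const, Finset.card_univ, nsmul_eq_mul]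


variable {P : Subgroup G}

lemma brauerOmega_fin [Fintype (Subgroup.centralizer (P : Set G))] (β : G → ℂ)
    (ξ : Subgroup.centralizer (P : Set G) → ℂ) :
    brauerOmega P β ξ = (∑ k : Subgroup.centralizer (P : Set G), β k * ξ k) / ξ 1 := by
  unfold brauerOmega
  rw [finsum_eq_sum_of_fintype, Finset.sum_div]

/-- the contribution of a coset with conjugate inside `P` -/
theorem term_in (hM : IsPModular p M) [Fintype (Subgroup.centralizer (P : Set G))]
    (hab : ∀ x ∈ P, ∀ y ∈ P, x * y = y * x) {θ : Subgroup.centralizer (P : Set G) → ℂ}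
    (hθ : ∀ z x : Subgroup.centralizer (P : Set G), (z : G) ∈ P → θ (z * x) = θ x) {g : G}
    (hg : g * u * g⁻¹ ∈ P) :
    ∑ k : Subgroup.centralizer (P : Set G), phi u b g (k : G) * θ k =
      ∑ k : Subgroup.centralizer (P : Set G),
        subgroupBlockCoeff (Subgroup.centralizer ({u} : Set G)) b (g⁻¹ * k * g) * θ k := by
  have hm : g * u * g⁻¹ ∈ Subgroup.centralizer (P : Set G) := by
    rw [Subgroup.mem_centralizer_iff]
    exact fun y hy => hab y hy _ hg
  rw [← Equiv.sum_comp (Equiv.mulLeft (⟨g * u * g⁻¹, hm⟩ : Subgroup.centralizer (P : Set G)))]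
  refine Finset.sum_congr rfl fun k _ => ?_
  have h1 : (Equiv.mulLeft (⟨g * u * g⁻¹, hm⟩ : Subgroup.centralizer (P : Set G))) k =
    ⟨g * u * g⁻¹, hm⟩ * k := rfl
  rw [h1, hθ _ _ hg]
  congr 1
  unfold phi
  congr 1
  show u⁻¹ * (g⁻¹ * (g * u * g⁻¹ * (k : G)) * g) = _
  group

/-- the contribution of the other cosets -/
theorem term_out (hM : IsPModular p M) [Fintype (Subgroup.centralizer (P : Set G))]
    (hb : IsPBlock M b) (hu : ∃ n : ℕ, orderOf u = p ^ n)
    {θ : Subgroup.centralizer (P : Set G) → ℂ}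
    (hθ : ∀ g x : Subgroup.centralizer (P : Set G), IsPPart p g x → (x : G) ∉ P → θ g = 0) {g : G}
    (hg : g * u * g⁻¹ ∉ P) :
    ∑ k : Subgroup.centralizer (P : Set G), phi u b g (k : G) * θ k = 0 := by
  haveI hMm : M.IsMaximal := hM.2.1
  refine Finset.sum_eq_zero fun k _ => ?_
  by_cases h0 : phi u b g (k : G) = 0
  · rw [h0, zero_mul]
  -- u⁻¹ g⁻¹ k g is a p-regular element of C
  set y := u⁻¹ * (g⁻¹ * (k : G) * g) with hy
  have hyC : y ∈ Subgroup.centralizer ({u} : Set G) := by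
    by_contra hno
    exact h0 (sbc_not b hno)
  have hyr : ¬ p ∣ orderOf y := by
    intro hd
    exact h0 (BR6.sbc_singular hM hb hd)
  have hk : (k : G) = (g * u * g⁻¹) * (g * y * g⁻¹) := by rw [hy]; group
  have hcomm : Commute (g * u * g⁻¹) (g * y * g⁻¹) := by
    have h1 : y * u = u * y := Subgroup.mem_centralizer_singleton_iff.1 hyC
    have h2 : Commute u y := h1.symm
    exact h2.conj g
  have hpart : IsPPart p (k : G) (g * u * g⁻¹) := by
    refine ⟨g * y * g⁻¹, hk.symm, hcomm, ?_, ?_⟩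
    · obtain ⟨n, hn⟩ := hu
      exact ⟨n, by rw [orderOf_conj, hn]⟩
    · rwa [orderOf_conj]
  obtain ⟨z, hz⟩ := H19.Second.exists_isPPart (pm_prime hM) k
  have hz' : IsPPart p (k : G) (z : G) := by
    obtain ⟨w, h1, h2, ⟨n, h3⟩, h4⟩ := hz
    refine ⟨w, ?_, ?_, ⟨n, ?_⟩, ?_⟩
    · rw [← h1]; rfl
    · exact congrArg Subtype.val h2.eq
    · rw [Subgroup.orderOf_coe, h3]
    · rwa [Subgroup.orderOf_coe]
  have := H19.Second.isPPart_unique (pm_prime hM) hz' hpart
  rw [hθ k z hz (by rw [this]; exact hg), mul_zero]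


theorem omega_zero [M.IsMaximal] {β : G → ℂ}
    (hcl : IsClassFunction (Subgroup.centralizer (P : Set G))
      (fun x : Subgroup.centralizer (P : Set G) => β x))
    (hR : ∀ x : Subgroup.centralizer (P : Set G), MemLocalRing M (β x))
    {w : MonoidAlgebra (ResF M) G} (hwZ : w ∈ Z (ResF M) (Subgroup.centralizer (P : Set G)))
    (hwβ : ∀ x : Subgroup.centralizer (P : Set G), w.coeff x = redFun M (β x)) (hww : w * w = w)
    {e : Set (IrrCharacter (Subgroup.centralizer (P : Set G)))} (he : IsPBlock M e)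
    {ξ : IrrCharacter (Subgroup.centralizer (P : Set G))} (hξ : ξ ∈ e)
    (hne : w * bl M _ e ≠ bl M _ e) :
    MemLocalIdeal M (brauerOmega P β (ξ : _ → ℂ)) := by
  classical
  letI := Fintype.ofFinite (Subgroup.centralizer (P : Set G))
  have h0 : w * bl M _ e = 0 := ((isBlk_bl he).cases hwZ hww).resolve_right hne
  have h1ne : (ξ : Subgroup.centralizer (P : Set G) → ℂ) 1 ≠ 0 := H18.CharBasic.irr_one_ne_zero ξ.2
  have h1 : (1 - w) * bl M _ e = bl M _ e := by rw [sub_mul, h0, one_mul, sub_zero]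
  have h2 := (brauerOmega_iff (M := M) (P := P)
    (β := fun x => (if x = 1 then 1 else 0) - β x) ?_ ?_ (w := 1 - w) ?_ ?_ ?_ he hξ).2 h1
  · have h3 : brauerOmega P (fun x => (if x = 1 then 1 else 0) - β x) (ξ : _ → ℂ) =
        1 - brauerOmega P β (ξ : _ → ℂ) := by
      rw [brauerOmega_fin, brauerOmega_fin]
      simp_rw [sub_mul]
      rw [Finset.sum_sub_distrib, sub_div]
      congr 1
      rw [Finset.sum_eq_single (1 : Subgroup.centralizer (P : Set G))]
      · simp [h1ne]
      · intro k _ hk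
        rw [if_neg, zero_mul]
        intro h
        exact hk (Subtype.ext h)
      · intro h; exact absurd (Finset.mem_univ _) h
    rw [h3] at h2
    have h4 := locI_neg h2
    have h5 : -(1 - brauerOmega P β (ξ : _ → ℂ) - 1) = brauerOmega P β (ξ : _ → ℂ) := by ring
    rwa [h5] at h4
  · intro x y
    have h3 := hcl x y
    show (if ((y * x * y⁻¹ : Subgroup.centralizer (P : Set G)) : G) = 1 then (1 : ℂ) else 0) - β _ =
      (if (x : G) = 1 then 1 else 0) - β x
    have h4 : ((y * x * y⁻¹ : Subgroup.centralizer (P : Set G)) : G) = 1 ↔ (x : G) = 1 := by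
      rw [Subgroup.coe_mul, Subgroup.coe_mul, Subgroup.coe_inv]
      exact conj_eq_one_iff
    rw [if_congr h4 rfl rfl]
    congr 1
  · intro x
    refine locR_sub ?_ (hR x)
    split_ifs
    · exact locR_one
    · exact locR_zero
  · intro x hx
    by_contra hno
    apply hx
    have hx1 : x ≠ 1 := fun h => hno (by rw [h]; exact Subgroup.one_mem _)
    rw [coeff_sub', coeff_one', coeff_eq_zero_of_mem_Sp hwZ.2 hno, if_neg hx1, sub_zero]
  · intro x
    rw [coeff_sub', coeff_one', hwβ]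
    rw [redFun_sub (by split_ifs; exacts [locR_one, locR_zero]) (hR x)]
    congr 1
    split_ifs
    · exact redFun_one.symm
    · exact redFun_zero.symm
  · rw [sub_mul, mul_sub, mul_sub, hww]; simp

/-- value of the contribution of a coset with conjugate inside `P` -/
theorem term_val (hM : IsPModular p M)
    (hab : ∀ x ∈ P, ∀ y ∈ P, x * y = y * x) (hPp : IsPGroup p P)
    [M.IsMaximal] [Fact p.Prime] [CharP (ResF M) p]
    {c : Set (IrrCharacter (Subgroup.centralizer (P : Set G)))} (hcB : IsPBlock M c)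
    {θ : IrrCharacter (Subgroup.centralizer (P : Set G))} (hθc : θ ∈ c)
    (hb : IsPBlock M b) {g : G} (hqP : g * u * g⁻¹ ∈ P)
    [Decidable (br (ResF M) P (cj g (bl M _ b)) * bl M _ c = bl M _ c)] :
    MemLocalIdeal M (brauerOmega P (fun k => subgroupBlockCoeff (Subgroup.centralizer ({u} : Set G)) b
      (g⁻¹ * k * g)) (θ : _ → ℂ) -
      (if br (ResF M) P (cj g (bl M _ b)) * bl M _ c = bl M _ c then (1 : ℂ) else 0)) := by
  haveI := pm_isPrime hM
  have hbC : bl M _ b ∈ Z (ResF M) (Subgroup.centralizer ({u} : Set G)) := (isBlk_bl hb).mem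
  have hPcs : P ≤ cs g (Subgroup.centralizer ({u} : Set G)) := by
    intro x hx
    rw [mem_cs, Subgroup.mem_centralizer_singleton_iff]
    have h5 := hab x hx _ hqP
    have h6 := congrArg (fun z => g⁻¹ * z * g) h5
    simpa [mul_assoc] using h6
  have hCP : Subgroup.centralizer (P : Set G) ≤ cs g (Subgroup.centralizer ({u} : Set G)) := by
    intro x hx
    rw [mem_cs, Subgroup.mem_centralizer_singleton_iff]
    have h5 := (Subgroup.mem_centralizer_iff.1 hx _ hqP).symm
    have h6 := congrArg (fun z => g⁻¹ * z * g) h5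
    simpa [mul_assoc] using h6
  have hfx : cj g (bl M _ b) ∈ Fx (ResF M) (cs g (Subgroup.centralizer ({u} : Set G))) :=
    cj_mem_Fx hbC.1
  have hidem : cj g (bl M _ b) * cj g (bl M _ b) = cj g (bl M _ b) := by
    rw [← map_mul, (isBlk_bl hb).idem]
  have hwZ : br (ResF M) P (cj g (bl M _ b)) ∈ Z (ResF M) (Subgroup.centralizer (P : Set G)) :=
    ⟨br_mem_Fx (Fx_mono hCP hfx) (centralizer_le_normalizer' P), br_mem_Sp _ _⟩
  have hww := br_idem hPp (Fx_mono hPcs hfx) hidem
  have hR : ∀ x : Subgroup.centralizer (P : Set G), MemLocalRing M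
      (subgroupBlockCoeff (Subgroup.centralizer ({u} : Set G)) b (g⁻¹ * x * g)) :=
    fun x => BR4.sbc_memR hb _
  have hcl : IsClassFunction (Subgroup.centralizer (P : Set G))
      (fun x : Subgroup.centralizer (P : Set G) =>
        subgroupBlockCoeff (Subgroup.centralizer ({u} : Set G)) b (g⁻¹ * (x : G) * g)) := by
    intro x y
    have h7 := hCP y.2
    rw [mem_cs] at h7
    show subgroupBlockCoeff (Subgroup.centralizer ({u} : Set G)) b
      (g⁻¹ * ((y : G) * x * (y : G)⁻¹) * g) =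
      subgroupBlockCoeff (Subgroup.centralizer ({u} : Set G)) b (g⁻¹ * x * g)
    rw [← sbc_conj b h7 (g⁻¹ * x * g)]
    congr 1
    group
  have hwβ : ∀ x : Subgroup.centralizer (P : Set G),
      (br (ResF M) P (cj g (bl M _ b))).coeff x = redFun M
      (subgroupBlockCoeff (Subgroup.centralizer ({u} : Set G)) b (g⁻¹ * (x : G) * g)) := by
    intro x
    rw [coeff_br_of_mem x.2, coeff_cj, coeff_bl]
  by_cases hbr : br (ResF M) P (cj g (bl M _ b)) * bl M _ c = bl M _ c
  · rw [if_pos hbr]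
    exact (brauerOmega_iff hcl hR hwZ.2 hwβ hww hcB hθc).2 hbr
  · rw [if_neg hbr, sub_zero]
    exact omega_zero hcl hR hwZ hwβ hww hcB hθc hbr

end H80.SU2
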