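import Cfsg.Agent.Lib.H80.SU2

set_option autoImplicit false
set_option linter.unusedSectionVars false
set_option linter.unusedVariables false
set_option linter.style.haveILetI false

/-!
# Nonvanishing of major columns: the theorem
-/

namespace H80.SU3

open Cfsg MonoidAlgebra H20.Loc H20.GA H20.Blk H20.Orth H20.NormQ H20.Ind
open H80.GA H80.GB H80.GC H80.GD H80.GE H80.GH H80.GJ H80.GV H80.BR1 H80.BR2 H80.BR3 H80.BR4
open H80.SU1 H80.SU2
open scoped Pointwise

universe u
variable {G : Type u} [Group G] [Finite G] {M : Ideal AlgInt} {p : ℕ} {P : Subgroup G} {u : G}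
  {b : Set (IrrCharacter (Subgroup.centralizer ({u} : Set G)))}

lemma le_cent (hab : ∀ x ∈ P, ∀ y ∈ P, x * y = y * x) : P ≤ Subgroup.centralizer (P : Set G) := by
  intro x hx
  rw [Subgroup.mem_centralizer_iff]
  exact fun y hy => hab y hy x hx

theorem def_cent (hM : IsPModular p M) {B : Set (IrrCharacter G)} (hB : IsPBlock M B)
    (hab : ∀ x ∈ P, ∀ y ∈ P, x * y = y * x)
    [M.IsMaximal] [Fact p.Prime] [CharP (ResF M) p] [Algebra (ZMod p) (ResF M)]
    [Algebra.IsAlgebraic (ZMod p) (ResF M)]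
    {c : Set (IrrCharacter (Subgroup.centralizer (P : Set G)))} (hcB : IsPBlock M c)
    (hmax : IsMax p ⊤ (ebar M B) P (bl M _ c)) :
    IsDefectGroup p M c (P.subgroupOf (Subgroup.centralizer (P : Set G))) := by
  rw [BR5.defect_sub hM hcB, inf_eq_left.2 (le_cent hab)]
  have h1 := (maxPair (cent_max hmax hab (Q := P) (f := bl M _ c) Relation.ReflTransGen.refl)).1
  rw [CH_top] at h1
  exact h1

theorem sub_center : P.subgroupOf (Subgroup.centralizer (P : Set G)) ≤
      Subgroup.center (Subgroup.centralizer (P : Set G)) := by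
  intro z hz
  rw [Subgroup.mem_center_iff]
  intro y
  apply Subtype.ext
  exact (Subgroup.mem_centralizer_iff.1 y.2 z hz).symm

theorem omega_res [Fintype (Subgroup.centralizer (P : Set G))]
    (θ : IrrCharacter (Subgroup.centralizer (P : Set G))) :
    omega θ (resZ (Subgroup.centralizer (P : Set G)) (zz u b)) =
      ∑ q : G ⧸ Subgroup.centralizer ({u} : Set G),
        (∑ k : Subgroup.centralizer (P : Set G), phi u b q.out (k : G) *
          (θ : Subgroup.centralizer (P : Set G) → ℂ) k) /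
            (θ : Subgroup.centralizer (P : Set G) → ℂ) 1 := by
  rw [omega_eq_sum, ← Finset.sum_div, Finset.sum_comm]
  congr 1
  refine Finset.sum_congr rfl fun k _ => ?_
  have : zc (resZ (Subgroup.centralizer (P : Set G)) (zz u b)) k =
    ∑ q : G ⧸ Subgroup.centralizer ({u} : Set G), phi u b q.out (k : G) := rfl
  rw [this, Finset.sum_mul]

/-- major columns do not vanish -/
theorem major_ne (hM : IsPModular p M) {B : Set (IrrCharacter G)} (hB : IsPBlock M B)
    (hab : ∀ x ∈ P, ∀ y ∈ P, x * y = y * x)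
    [M.IsMaximal] [Fact p.Prime] [CharP (ResF M) p] [Algebra (ZMod p) (ResF M)]
    [Algebra.IsAlgebraic (ZMod p) (ResF M)] [IsAlgClosed (ResF M)]
    {c : Set (IrrCharacter (Subgroup.centralizer (P : Set G)))}
    (hc : IsInducedBlock M (Subgroup.centralizer (P : Set G)) c B)
    (hmax : IsMax p ⊤ (ebar M B) P (bl M _ c)) (hu : u ∈ P) (hb : IsPBlock M b)
    (hle : SLE p ⊤ (Subgroup.zpowers u) (bl M _ b) P (bl M _ c)) {χ : IrrCharacter G} (hχ : χ ∈ B)
    [Fintype (Subgroup.centralizer ({u} : Set G))] :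
    ∑ y : Subgroup.centralizer ({u} : Set G), blockCoeff b y * (χ : G → ℂ) (u * y) ≠ 0 := by
  classical
  intro h0
  haveI := pm_isPrime hM
  letI := Fintype.ofFinite G
  letI := Fintype.ofFinite (Subgroup.centralizer (P : Set G))
  have hcB : IsPBlock M c := hc.1
  have hPp : IsPGroup p P := hmax.of.pair.pgr
  obtain ⟨θ, hθc, hθ1, hθ2⟩ := exists_canon hM hcB sub_center (def_cent hM hB hab hcB hmax)
  have huo : ∃ n : ℕ, orderOf u = p ^ n := by
    obtain ⟨n, hn⟩ := IsPGroup.iff_orderOf.1 hPp ⟨u, hu⟩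
    exact ⟨n, by rw [← hn, Subgroup.orderOf_mk]⟩
  -- ω_χ(z) = 0
  have hz0 : omega χ (zz u b) = 0 := by
    have h1 := omega_zz (b := b) χ
    rw [h0, mul_zero] at h1
    exact (mul_eq_zero.1 h1).resolve_right (H18.CharBasic.irr_one_ne_zero χ.2)
  have hzr : zz u b ∈ zr M G := by
    intro k
    show MemLocalRing M (∑ q : G ⧸ Subgroup.centralizer ({u} : Set G), phi u b q.out k)
    exact locR_sum fun q _ => BR4.sbc_memR hb _
  have h2 := isInducedBlock_omega hc hθc hχ hzr
  rw [hz0, sub_zero, omega_res] at h2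
  have h4 : MemLocalIdeal M ((∑ q : G ⧸ Subgroup.centralizer ({u} : Set G),
        (∑ k : Subgroup.centralizer (P : Set G), phi u b q.out (k : G) *
          (θ : Subgroup.centralizer (P : Set G) → ℂ) k) /
            (θ : Subgroup.centralizer (P : Set G) → ℂ) 1) -
      ∑ q : G ⧸ Subgroup.centralizer ({u} : Set G),
        (if (q.out * u * q.out⁻¹ ∈ P ∧ br (ResF M) P (cj q.out (bl M _ b)) * bl M _ c = bl M _ c)
          then (1 : ℂ) else 0)) := by
    refine locI_sum_congr fun q _ => ?_
    by_cases hqP : q.out * u * q.out⁻¹ ∈ P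
    · rw [term_in hM hab (fun z x hz => hθ1 z hz x) hqP]
      have h5 := term_val hM hab hPp hcB hθc hb hqP
      rw [brauerOmega_fin] at h5
      by_cases hbr : br (ResF M) P (cj q.out (bl M _ b)) * bl M _ c = bl M _ c
      · rw [if_pos ⟨hqP, hbr⟩]
        rw [if_pos hbr] at h5
        exact h5
      · rw [if_neg (fun h => hbr h.2)]
        rw [if_neg hbr] at h5
        exact h5
    · rw [term_out hM hb huo (fun g x h h' => hθ2 g x h h') hqP, zero_div,
        if_neg (fun h => hqP h.1), sub_zero]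
      exact locI_zero
  have h5 := (locI_congr h4).1 h2
  have h6 : ∑ q : G ⧸ Subgroup.centralizer ({u} : Set G),
        (if (q.out * u * q.out⁻¹ ∈ P ∧ br (ResF M) P (cj q.out (bl M _ b)) * bl M _ c = bl M _ c)
          then (1 : ℂ) else 0) =
      (Nat.card (QS (ResF M) P (bl M _ c) (bl M _ b) u) : ℂ) := by
    rw [Finset.sum_boole, Nat.card_eq_fintype_card, Fintype.card_subtype]
  rw [h6, locI_natCast_iff hM] at h5
  exact card_QS (isBlk_ebar hB).mem.1 hmax hab hu hle h5

end H80.SU3
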