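import Cfsg.Agent.Lib.H77.Conv
import Cfsg.Agent.Lib.H19.BrMap2
import Cfsg.Agent.Lib.H20.Orth
import Cfsg.Agent.Lib.H80.RK2

set_option autoImplicit false
set_option linter.unusedSectionVars false
set_option linter.unusedVariables false
set_option linter.style.haveILetI false

/-!
# Columns of generalized decomposition numbers: the basic sums
-/

namespace H80.SU6

open Cfsg H20.Loc H20.GA H20.Blk H20.Orth
open scoped ComplexConjugate

universe u
variable {G : Type u} [Group G] [Fintype G] {M : Ideal AlgInt} {p : ℕ}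

/-- translate by `x` -/
def tr (K : Subgroup G) (x : G) (θ : G → ℂ) : K → ℂ := fun c => θ (x * c)

lemma tr_class {K : Subgroup G} {x : G} (hK : ∀ c ∈ K, c * x = x * c) {θ : G → ℂ}
    (hθ : IsClassFunction G θ) : IsClassFunction K (tr K x θ) := by
  intro g h
  have h1 := hθ (x * (g : G)) (h : G)
  have h2 : ((h * g * h⁻¹ : K) : G) = (h : G) * (g : G) * (h : G)⁻¹ := by simp
  have h3 := hK h h.2
  have h4 : x * ((h : G) * (g : G) * (h : G)⁻¹) = (h : G) * (x * (g : G)) * (h : G)⁻¹ := by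
    rw [← mul_assoc, ← mul_assoc, ← h3]; group
  show θ (x * ((h * g * h⁻¹ : K) : G)) = θ (x * (g : G))
  rw [h2, h4, h1]

lemma isPPart_of {K : Subgroup G} {x : G} (hK : ∀ c ∈ K, c * x = x * c)
    (hx : ∃ k : ℕ, orderOf x = p ^ k) {y : K} (hy : ¬ p ∣ orderOf y) :
    IsPPart p (x * (y : G)) x := by
  refine ⟨y, rfl, ?_, hx, ?_⟩
  · exact (hK y y.2).symm
  · rwa [Subgroup.orderOf_coe]

lemma comm_of_part (hp : p.Prime) {g x y z : G} (h1 : IsPPart p (x * y) x)
    (h2 : IsPPart p z x) (hg : g * (x * y) * g⁻¹ = z) : g * x = x * g := by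
  obtain ⟨w, hw1, hw2, ⟨n, hw3⟩, hw4⟩ := h1
  have h3 : IsPPart p (g * (x * y) * g⁻¹) (g * x * g⁻¹) := by
    refine ⟨g * w * g⁻¹, ?_, ?_, ⟨n, ?_⟩, ?_⟩
    · rw [← hw1]; group
    · exact hw2.conj g
    · rw [H20.Orth.orderOf_conj, hw3]
    · rwa [H20.Orth.orderOf_conj]
  rw [hg] at h3
  have h4 := H19.Second.isPPart_unique hp h3 h2
  calc g * x = (g * x * g⁻¹) * g := by group
    _ = x * g := by rw [h4]

theorem col_one (hp : p.Prime) {K : Subgroup G} {x : G} (hK : ∀ g, g ∈ K ↔ g * x = x * g)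
    (hx : ∃ k : ℕ, orderOf x = p ^ k) [Fintype K] [Fintype (IrrCharacter G)]
    [Fintype (IrrCharacter K)] {y y' : K} (hy : ¬ p ∣ orderOf y) (hy' : ¬ p ∣ orderOf y') :
    ∑ χ : IrrCharacter G, (χ : G → ℂ) (x * y) * conj ((χ : G → ℂ) (x * y')) =
      ∑ ψ : IrrCharacter K, (ψ : K → ℂ) y * conj ((ψ : K → ℂ) y') := by
  rw [H77.Conv.column_transporter, H77.Conv.column_transporter]
  norm_cast
  apply Nat.card_congr
  have h1 := isPPart_of (fun c hc => (hK c).1 hc) hx hy
  have h2 := isPPart_of (fun c hc => (hK c).1 hc) hx hy'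
  refine ⟨fun g => ⟨⟨g.1, (hK _).2 (comm_of_part hp h1 h2 g.2)⟩, ?_⟩, fun c => ⟨c.1, ?_⟩, ?_, ?_⟩
  · apply Subtype.ext
    have hg := g.2
    have h3 : g.1 * x = x * g.1 := comm_of_part hp h1 h2 g.2
    show g.1 * (y : G) * g.1⁻¹ = y'
    have h5 : g.1 * (x * (y : G)) * g.1⁻¹ = x * (g.1 * (y : G) * g.1⁻¹) := by
      rw [← mul_assoc, h3]; group
    rw [h5] at hg
    exact mul_left_cancel hg
  · have hc := congrArg Subtype.val c.2
    have h3 : (c.1 : G) * x = x * (c.1 : G) := (hK _).1 c.1.2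
    show (c.1 : G) * (x * (y : G)) * (c.1 : G)⁻¹ = x * y'
    rw [← mul_assoc, h3]
    rw [show x * (c.1 : G) * (y : G) * (c.1 : G)⁻¹ = x * ((c.1 : G) * (y : G) * (c.1 : G)⁻¹) by group]
    congr 1
  · intro g; rfl
  · intro c; rfl

section block
variable {K : Subgroup G} [Fintype K] [Fintype (IrrCharacter K)]

/-- kernel of the block projection -/
noncomputable def kb (b : Set (IrrCharacter K)) (y z : K) : ℂ := by
  classical
  exact (Nat.card K : ℂ)⁻¹ * ∑ ψ : IrrCharacter K,
    if ψ ∈ b then (ψ : K → ℂ) y * conj ((ψ : K → ℂ) z) else 0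

theorem bp_eq (b : Set (IrrCharacter K)) (f : K → ℂ) (y : K) :
    blockPart b f y = ∑ z : K, f z * kb b y z := by
  classical
  have h1 : blockPart b f y = proj b f y := by
    unfold blockPart proj
    congr 1
    funext ψ
    congr 1
    funext _
    rw [H18.CharOrtho.inner_fintype]
  rw [h1, proj_eq_sum]
  unfold kb classInner
  simp_rw [Finset.mul_sum]
  rw [Finset.sum_comm]
  refine Finset.sum_congr rfl fun ψ _ => ?_
  split_ifs
  · rw [Finset.sum_mul]
    refine Finset.sum_congr rfl fun z _ => ?_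
    ring
  · simp

theorem kb_sing (hM : IsPModular p M) {b : Set (IrrCharacter K)} (hb : IsPBlock M b) {y z : K}
    (hy : ¬ p ∣ orderOf y) (hz : p ∣ orderOf z) : kb b y z = 0 := by
  classical
  haveI := pm_isPrime hM
  unfold kb
  rw [weak_orth hM (isUnion_of_isPBlock hb) hy hz, mul_zero]

theorem bp_irr {b : Set (IrrCharacter K)} (ψ : IrrCharacter K) (y : K)
    [Decidable (ψ ∈ b)] :
    blockPart b (ψ : K → ℂ) y = if ψ ∈ b then (ψ : K → ℂ) y else 0 := by
  classical
  have h1 : blockPart b (ψ : K → ℂ) y = proj b (ψ : K → ℂ) y := by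
    unfold blockPart proj
    congr 1
    funext ψ
    congr 1
    funext _
    rw [H18.CharOrtho.inner_fintype]
  rw [h1, proj_eq_sum, Finset.sum_eq_single ψ]
  · rw [H18.CharOrtho.inner_irr_self ψ.2, one_mul]
    split_ifs <;> rfl
  · intro η _ hη
    rw [H18.CharOrtho.inner_irr_ne ψ.2 η.2 (fun h => hη (Subtype.ext h.symm)), zero_mul, ite_self]
  · intro h; exact absurd (Finset.mem_univ _) h

theorem col_two (hM : IsPModular p M) {x : G} (hK : ∀ g, g ∈ K ↔ g * x = x * g)
    (hx : ∃ k : ℕ, orderOf x = p ^ k) [Fintype (IrrCharacter G)]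
    {b : Set (IrrCharacter K)} (hb : IsPBlock M b) [DecidablePred (· ∈ b)] {y y' : K}
    (hy : ¬ p ∣ orderOf y) (hy' : ¬ p ∣ orderOf y') :
    ∑ χ : IrrCharacter G, blockPart b (tr K x (χ : G → ℂ)) y *
        conj (blockPart b (tr K x (χ : G → ℂ)) y') =
      ∑ ψ : IrrCharacter K, if ψ ∈ b then (ψ : K → ℂ) y * conj ((ψ : K → ℂ) y') else 0 := by
  classical
  have key : ∀ (A : Type u) [Fintype A] (F : A → K → ℂ),
      ∑ a : A, blockPart b (F a) y * conj (blockPart b (F a) y') =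
      ∑ z : K, ∑ z' : K, (if p ∣ orderOf z ∨ p ∣ orderOf z' then 0 else
        kb b y z * conj (kb b y' z') * ∑ a : A, F a z * conj (F a z')) := by
    intro A _ F
    simp_rw [bp_eq, map_sum, Finset.sum_mul_sum]
    rw [Finset.sum_comm]
    refine Finset.sum_congr rfl fun z _ => ?_
    rw [Finset.sum_comm]
    refine Finset.sum_congr rfl fun z' _ => ?_
    split_ifs with h
    · rcases h with h | h
      · refine Finset.sum_eq_zero fun a _ => ?_
        rw [kb_sing hM hb hy h]; simp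
      · refine Finset.sum_eq_zero fun a _ => ?_
        rw [kb_sing hM hb hy' h]; simp
    · rw [Finset.mul_sum]
      refine Finset.sum_congr rfl fun a _ => ?_
      rw [map_mul]; ring
  have h1 := key (IrrCharacter G) (fun χ => tr K x (χ : G → ℂ))
  have h2 := key (IrrCharacter K) (fun ψ => (ψ : K → ℂ))
  rw [h1]
  have h3 : ∑ ψ : IrrCharacter K, (if ψ ∈ b then (ψ : K → ℂ) y * conj ((ψ : K → ℂ) y') else 0) =
      ∑ ψ : IrrCharacter K, blockPart b (ψ : K → ℂ) y * conj (blockPart b (ψ : K → ℂ) y') := by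
    refine Finset.sum_congr rfl fun ψ _ => ?_
    rw [bp_irr, bp_irr]
    split_ifs <;> simp
  rw [h3, h2]
  refine Finset.sum_congr rfl fun z _ => Finset.sum_congr rfl fun z' _ => ?_
  split_ifs with h
  · rfl
  · push Not at h
    congr 1
    exact col_one (pm_prime hM) hK hx h.1 h.2

/-- only the characters of the induced block matter -/
theorem bp_zero (hM : IsPModular p M) {x : G} (hKx : K = Subgroup.centralizer ({x} : Set G))
    (hx : ∃ k : ℕ, orderOf x = p ^ k) {b : Set (IrrCharacter K)} {B : Set (IrrCharacter G)}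
    (hind : IsInducedBlock M K b B) {χ : IrrCharacter G} (hχ : χ ∉ B) {y : K}
    (hy : ¬ p ∣ orderOf y) : blockPart b (tr K x (χ : G → ℂ)) y = 0 := by
  subst hKx
  haveI := pm_isPrime hM
  refine H19.BrMap2.second_main hM x hx (isPBlock_blockOf (M := M) χ) (mem_blockOf_self χ)
    hind.1 ?_ y hy
  intro h
  apply hχ
  rw [← H19.BrMap.induced_unique h hind]
  exact mem_blockOf_self χ

theorem col_B (hM : IsPModular p M) {x : G} (hKx : K = Subgroup.centralizer ({x} : Set G))
    (hx : ∃ k : ℕ, orderOf x = p ^ k) [Fintype (IrrCharacter G)]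
    {b : Set (IrrCharacter K)} [DecidablePred (· ∈ b)] {B : Set (IrrCharacter G)}
    [DecidablePred (· ∈ B)] (hind : IsInducedBlock M K b B) {y y' : K}
    (hy : ¬ p ∣ orderOf y) (hy' : ¬ p ∣ orderOf y') :
    ∑ χ : IrrCharacter G, (if χ ∈ B then blockPart b (tr K x (χ : G → ℂ)) y *
        conj (blockPart b (tr K x (χ : G → ℂ)) y') else 0) =
      ∑ ψ : IrrCharacter K, if ψ ∈ b then (ψ : K → ℂ) y * conj ((ψ : K → ℂ) y') else 0 := by
  rw [← col_two hM (fun g => by rw [hKx, Subgroup.mem_centralizer_singleton_iff]) hx hind.1 hy hy']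
  refine Finset.sum_congr rfl fun χ _ => ?_
  split_ifs with h
  · rfl
  · rw [bp_zero hM hKx hx hind h hy, zero_mul]

end block

end H80.SU6
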